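import Groth.Agent.Lib.Adic.Bosch.Basic
import Mathlib.RingTheory.Nakayama
import Mathlib.RingTheory.AdicCompletion.Noetherian

/-! Artin-Rees and completeness for finite modules over algebras topologically of finite type. -/

set_option autoImplicit false
set_option linter.unusedSectionVars false

universe u v

open scoped Pointwise

namespace Groth.Agent.Lib.Adic.Bosch.ArtinRees

open Groth.Agent.Lib.Adic.Bosch.Basic

variable {R : Type u} [CommRing R] {I : Ideal R}

theorem map_le_jacobson (hR : AdicRing.IsBase R I) {A : Type u} [CommRing A] [Algebra R A]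
    (hA : AdicRing.TopFiniteType R I A) : I.map (algebraMap R A) ≤ (⊥ : Ideal A).jacobson := by
  obtain ⟨n, φ, hφ⟩ := hA
  haveI : IsAdicComplete I (AdicRing.RPow R I n) :=
    Restricted.isAdicComplete_RS I (fg_base hR) n
  haveI : IsAdicComplete (I.map (algebraMap R (AdicRing.RPow R I n))) (AdicRing.RPow R I n) :=
    (IsAdicComplete.map_algebraMap_iff I (AdicRing.RPow R I n)).2 ‹_›
  intro a ha
  rw [Ideal.mem_jacobson_bot]
  intro b
  have hmap : I.map (algebraMap R A) = (I.map (algebraMap R (AdicRing.RPow R I n))).map φ.toRingHom := by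
    rw [Ideal.map_map, φ.toRingHom_eq_coe, φ.comp_algebraMap]
  rw [hmap] at ha
  obtain ⟨p, hp, rfl⟩ := (Ideal.mem_map_iff_of_surjective φ.toRingHom hφ).1 ha
  obtain ⟨q, rfl⟩ := hφ b
  have := (Ideal.mem_jacobson_bot.1 (IsAdicComplete.le_jacobson_bot _ hp) q).map φ.toRingHom
  simpa using this

section Modules

variable {A : Type u} [CommRing A] [Algebra R A]
variable {M : Type u} [AddCommGroup M] [Module A M] [Module R M] [IsScalarTower R A M]

/-- The saturation of a submodule with respect to `t`. -/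
def saturation (t : R) (N : Submodule A M) : Submodule A M where
  carrier := {x | ∃ k : ℕ, t ^ k • x ∈ N}
  zero_mem' := ⟨0, by simp⟩
  add_mem' := by
    rintro x y ⟨k, hk⟩ ⟨l, hl⟩
    refine ⟨k + l, ?_⟩
    rw [smul_add]
    refine add_mem ?_ ?_
    · rw [add_comm, pow_add, mul_smul]; exact N.smul_of_tower_mem _ hk
    · rw [pow_add, mul_smul]; exact N.smul_of_tower_mem _ hl
  smul_mem' := fun a x ⟨k, hk⟩ => ⟨k, by rw [smul_comm]; exact N.smul_mem a hk⟩

variable [Module.Finite A M]

theorem exists_bound (hR : AdicRing.IsBase R I) (hA : AdicRing.TopFiniteType R I A)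
    [IsDomain R] [ValuationRing R] [Ring.KrullDimLE 1 R] {t : R} (hI : I = Ideal.span {t})
    (N : Submodule A M) :
    Sat I (saturation t N) ∧ ∃ c : ℕ, ∀ x ∈ saturation t N, t ^ c • x ∈ N := by
  classical
  have hsat : Sat I (saturation t N) := by
    subst hI
    refine sat_span_iff.2 fun x ⟨k, hk⟩ => ⟨k + 1, ?_⟩
    rwa [pow_succ, mul_smul]
  refine ⟨hsat, ?_⟩
  obtain ⟨S, hS⟩ := fg_of_sat hR hA hsat
  choose! k hk using fun (x : M) (hx : x ∈ S) =>
    (hS ▸ Submodule.subset_span hx : x ∈ saturation t N)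
  refine ⟨S.sup k, fun x hx => ?_⟩
  rw [← hS] at hx
  induction hx using Submodule.span_induction with
  | mem y hy =>
      rw [show S.sup k = (S.sup k - k y) + k y from (Nat.sub_add_cancel (Finset.le_sup hy)).symm,
        pow_add, mul_smul]
      exact N.smul_of_tower_mem _ (hk y hy)
  | zero => simp
  | add y z _ _ hy hz => rw [smul_add]; exact add_mem hy hz
  | smul a y _ hy => rw [smul_comm]; exact N.smul_mem a hy

theorem mem_span_pow_smul_iff {M' : Type v} [AddCommGroup M'] [Module R M'] {t : R} {m : ℕ}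
    {N : Submodule R M'} {x : M'} :
    x ∈ Ideal.span {t} ^ m • N ↔ ∃ y ∈ N, t ^ m • y = x := by
  rw [Ideal.span_singleton_pow, Submodule.ideal_span_singleton_smul,
    Submodule.mem_smul_pointwise_iff_exists]

/-- S11528: Artin-Rees. -/
theorem artinRees (hR : AdicRing.IsBase R I) (hA : AdicRing.TopFiniteType R I A)
    (N : Submodule A M) : ∃ n₀ : ℕ, ∀ m : ℕ,
      (I ^ (m + n₀) • (⊤ : Submodule R M)) ⊓ N.restrictScalars R ≤ I ^ m • N.restrictScalars R := by
  rcases cases hR with h | ⟨h1, h2, h3, t, ht, rfl⟩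
  · haveI := isNoetherianRing_of_topFiniteType hA
    obtain ⟨k, hk⟩ := Ideal.exists_pow_inf_eq_pow_smul (I.map (algebraMap R A)) N
    refine ⟨k, fun m x ⟨hx, hxN⟩ => ?_⟩
    have e : ∀ (j : ℕ) (L : Submodule A M),
        I ^ j • L.restrictScalars R = ((I.map (algebraMap R A)) ^ j • L).restrictScalars R := fun j L => by
      rw [← Ideal.map_pow, Ideal.smul_restrictScalars]
    rw [show (⊤ : Submodule R M) = (⊤ : Submodule A M).restrictScalars R from rfl, e] at hx
    rw [e]
    have := hk (m + k) (Nat.le_add_left k m)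
    rw [Nat.add_sub_cancel] at this
    have hx' : x ∈ (I.map (algebraMap R A)) ^ (m + k) • (⊤ : Submodule A M) ⊓ N := ⟨hx, hxN⟩
    rw [this] at hx'
    rw [Submodule.restrictScalars_mem]
    exact (Submodule.smul_mono (le_refl ((I.map (algebraMap R A)) ^ m))
      (inf_le_right (a := (I.map (algebraMap R A)) ^ k • (⊤ : Submodule A M)) (b := N))) hx'
  · obtain ⟨-, c, hc⟩ := exists_bound hR hA rfl N
    refine ⟨c, fun m x ⟨hx, hxN⟩ => ?_⟩
    obtain ⟨y, -, rfl⟩ := mem_span_pow_smul_iff.1 hx
    exact mem_span_pow_smul_iff.2 ⟨t ^ c • y, hc y ⟨m + c, hxN⟩, by rw [← mul_smul, ← pow_add]⟩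

/-- Finite modules are separated. -/
theorem isHausdorff (hR : AdicRing.IsBase R I) (hA : AdicRing.TopFiniteType R I A) :
    IsHausdorff I M := by
  have hj := map_le_jacobson hR hA
  rcases cases hR with h | ⟨h1, h2, h3, t, ht, rfl⟩
  · haveI := isNoetherianRing_of_topFiniteType hA
    exact (IsHausdorff.map_algebraMap_iff (S := A)).1 (IsHausdorff.of_le_jacobson _ M hj)
  · obtain ⟨hsat, c, hc⟩ := exists_bound hR hA rfl (⊥ : Submodule A M)
    let T := saturation t (⊥ : Submodule A M)
    let Z : Submodule A M :=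
      { carrier := {x | ∀ m : ℕ, ∃ y, x - t ^ m • y ∈ T}
        zero_mem' := fun m => ⟨0, by simp⟩
        add_mem' := fun {x x'} hx hx' m => by
          obtain ⟨y, hy⟩ := hx m
          obtain ⟨y', hy'⟩ := hx' m
          exact ⟨y + y', by rw [smul_add, add_sub_add_comm]; exact add_mem hy hy'⟩
        smul_mem' := fun a x hx m => by
          obtain ⟨y, hy⟩ := hx m
          exact ⟨a • y, by rw [smul_comm, ← smul_sub]; exact T.smul_mem a hy⟩ }
    have hTZ : T ≤ Z := fun x hx m => ⟨0, by simpa using hx⟩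
    have hZsat : Sat (Ideal.span {t}) Z := by
      refine sat_span_iff.2 fun x hx m => ?_
      obtain ⟨y, hy⟩ := hx (m + 1)
      rw [pow_succ', mul_smul, ← smul_sub] at hy
      exact ⟨y, sat_span_iff.1 hsat _ hy⟩
    have hZ : Z ≤ T ⊔ (Ideal.span {t}).map (algebraMap R A) • Z := by
      intro x hx
      obtain ⟨y, hy⟩ := hx 1
      rw [pow_one] at hy
      refine Submodule.mem_sup.2 ⟨_, hy, t • y, ?_, sub_add_cancel _ _⟩
      rw [← algebraMap_smul A t y]
      refine Submodule.smul_mem_smul (Ideal.mem_map_of_mem _ (Ideal.mem_span_singleton_self t)) ?_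
      refine sat_span_iff.1 hZsat y ?_
      rw [← sub_sub_cancel x (t • y)]
      exact sub_mem hx (hTZ hy)
    have hZT : Z ≤ T :=
      Submodule.le_of_le_smul_of_le_jacobson_bot (fg_of_sat hR hA hZsat) hj hZ
    refine ⟨fun x hx => ?_⟩
    simp only [SModEq.zero, mem_span_pow_smul_iff] at hx
    have hxZ : x ∈ Z := fun m => by
      obtain ⟨y, -, rfl⟩ := hx m
      exact ⟨y, by simp⟩
    obtain ⟨y, -, rfl⟩ := hx c
    obtain ⟨k, hk⟩ := hZT hxZ
    rw [← mul_smul, ← pow_add] at hk
    exact (Submodule.mem_bot A).1 (hc y ⟨k + c, hk⟩)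

/-- S11529: finite modules are complete. -/
theorem isAdicComplete (hR : AdicRing.IsBase R I) (hA : AdicRing.TopFiniteType R I A) :
    IsAdicComplete I M := by
  have hH : IsHausdorff I M := isHausdorff hR hA
  obtain ⟨n, φ, hφ⟩ := hA
  letI : Algebra (AdicRing.RPow R I n) A := φ.toRingHom.toAlgebra
  haveI : IsScalarTower R (AdicRing.RPow R I n) A :=
    IsScalarTower.of_algebraMap_eq fun r => (φ.commutes r).symm
  haveI : IsAdicComplete I (AdicRing.RPow R I n) :=
    Restricted.isAdicComplete_RS I (fg_base hR) n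
  haveI : IsAdicComplete (I.map (algebraMap R (AdicRing.RPow R I n))) (AdicRing.RPow R I n) :=
    (IsAdicComplete.map_algebraMap_iff I (AdicRing.RPow R I n)).2 ‹_›
  letI : Module (AdicRing.RPow R I n) M := Module.compHom M (algebraMap (AdicRing.RPow R I n) A)
  haveI : IsScalarTower (AdicRing.RPow R I n) A M := IsScalarTower.of_algebraMap_smul fun _ _ => rfl
  haveI : IsScalarTower R (AdicRing.RPow R I n) M := IsScalarTower.of_algebraMap_smul fun r m => by
    change algebraMap (AdicRing.RPow R I n) A (algebraMap R _ r) • m = r • m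
    rw [← IsScalarTower.algebraMap_apply, algebraMap_smul]
  haveI : Module.Finite (AdicRing.RPow R I n) A :=
    Module.Finite.of_surjective (Algebra.linearMap _ A) hφ
  haveI : Module.Finite (AdicRing.RPow R I n) M := Module.Finite.trans A M
  have hP : IsPrecomplete (I.map (algebraMap R (AdicRing.RPow R I n))) M :=
    Complete.isPrecomplete_of_finite
  exact { toIsHausdorff := hH
          toIsPrecomplete := IsPrecomplete.map_algebraMap_iff.1 hP }

end Modules

end Groth.Agent.Lib.Adic.Bosch.ArtinRees
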