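import Groth.Agent.Lib.Adic.Bosch.Free
import Groth.Agent.Lib.Adic.Base
import Groth.Agent.Lib.Excellent.CompletionNoetherian
import Mathlib.Algebra.Module.FinitePresentation
import Mathlib.RingTheory.Filtration
import Mathlib.RingTheory.Flat.TorsionFree
import Mathlib.RingTheory.Adjoin.FG

/-! Finiteness theory of algebras topologically of finite type over a base of class (N) or (V). -/

set_option autoImplicit false
set_option linter.unusedSectionVars false

universe u v

namespace Groth.Agent.Lib.Adic.Bosch.Basic

variable {R : Type u} [CommRing R] {I : Ideal R}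

/-- A submodule is saturated with respect to `I`. -/
def Sat (I : Ideal R) {A : Type u} [CommRing A] {M : Type v} [AddCommGroup M] [Module A M]
    [Module R M] (N : Submodule A M) : Prop :=
  ∀ (x : M) (n : ℕ), (∀ a ∈ I ^ n, a • x ∈ N) → x ∈ N

theorem cases (hR : AdicRing.IsBase R I) :
    IsNoetherianRing R ∨
      (∃ _ : IsDomain R, ValuationRing R ∧ Ring.KrullDimLE 1 R ∧ ∃ t : R, t ≠ 0 ∧ I = Ideal.span {t}) := by
  rcases hR.2 with ⟨h, -⟩ | ⟨h1, h2, h3, h4⟩
  · exact Or.inl h
  · exact Or.inr ⟨h1, @ValuationRing.mk R _ h1 h2, h3, h4⟩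

theorem isNoetherianRing_rpow [IsNoetherianRing R] (n : ℕ) :
    IsNoetherianRing (AdicRing.RPow R I n) :=
  Excellent.CompletionNoetherian.isNoetherianRing_adicCompletion _

theorem isNoetherianRing_of_topFiniteType [IsNoetherianRing R] {A : Type u} [CommRing A]
    [Algebra R A] (hA : AdicRing.TopFiniteType R I A) : IsNoetherianRing A := by
  obtain ⟨n, φ, hφ⟩ := hA
  haveI := isNoetherianRing_rpow (R := R) (I := I) n
  exact isNoetherianRing_of_surjective _ _ φ.toRingHom hφ

theorem topFiniteType_rpow (n : ℕ) : AdicRing.TopFiniteType R I (AdicRing.RPow R I n) :=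
  ⟨n, AlgHom.id R _, Function.surjective_id⟩

section Valued

variable [IsDomain R] [ValuationRing R] [Ring.KrullDimLE 1 R] {t : R}

theorem sat_span_iff {A : Type u} [CommRing A] [Algebra R A] {M : Type v} [AddCommGroup M]
    [Module A M] [Module R M] [IsScalarTower R A M] {N : Submodule A M} :
    Sat (Ideal.span {t}) N ↔ ∀ (x : M), t • x ∈ N → x ∈ N := by
  constructor
  · intro h x hx
    refine h x 1 fun a ha => ?_
    rw [pow_one, Ideal.mem_span_singleton'] at ha
    obtain ⟨b, rfl⟩ := ha
    rw [mul_smul]
    exact N.smul_of_tower_mem b hx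
  · intro h x n hx
    have hx' := hx _ (Ideal.pow_mem_pow (Ideal.mem_span_singleton_self t) n)
    clear hx
    induction n with
    | zero => simpa using hx'
    | succ k ih => exact ih (h _ (by rwa [← mul_smul, ← pow_succ']))

end Valued

/-- Saturated submodules of finite free modules over restricted power series. -/
theorem fg_of_sat_rpow (hR : AdicRing.IsBase R I) {n s : ℕ}
    {N : Submodule (AdicRing.RPow R I n) (Fin s → AdicRing.RPow R I n)} (hN : Sat I N) : N.FG := by
  haveI := hR.1
  rcases cases hR with h | ⟨h1, h2, h3, t, ht, rfl⟩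
  · haveI := isNoetherianRing_rpow (R := R) (I := I) n
    exact IsNoetherian.noetherian N
  · refine Free.fg_of_saturated ht fun x hx => ?_
    rw [algebraMap_smul] at hx
    exact sat_span_iff.1 hN x hx

/-- A surjection from restricted power series, as an algebra structure. -/
theorem exists_algebra {A : Type u} [CommRing A] [Algebra R A]
    (hA : AdicRing.TopFiniteType R I A) :
    ∃ (n : ℕ) (alg : Algebra (AdicRing.RPow R I n) A),
      @IsScalarTower R (AdicRing.RPow R I n) A _ alg.toSMul _ ∧
        Function.Surjective (@algebraMap _ _ _ _ alg) := by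
  obtain ⟨n, φ, hφ⟩ := hA
  refine ⟨n, φ.toRingHom.toAlgebra, ?_, hφ⟩
  letI : Algebra (AdicRing.RPow R I n) A := φ.toRingHom.toAlgebra
  exact IsScalarTower.of_algebraMap_eq fun r => (φ.commutes r).symm

/-- Finite presentation descends along a surjection. -/
theorem finitePresentation_of_surjective {P A : Type u} [CommRing P] [CommRing A] [Algebra P A]
    (hs : Function.Surjective (algebraMap P A)) (M : Type v) [AddCommGroup M] [Module A M]
    [Module P M] [IsScalarTower P A M] [Module.FinitePresentation P M] :
    Module.FinitePresentation A M := by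
  haveI : Module.Finite P A := Module.Finite.of_surjective (Algebra.linearMap P A) hs
  haveI : Module.Finite A M := Module.Finite.of_restrictScalars_finite P A M
  obtain ⟨s, g, hg⟩ := Module.Finite.exists_fin' A M
  refine Module.finitePresentation_of_surjective g hg ?_
  have h := Module.FinitePresentation.fg_ker (g.restrictScalars P) hg
  obtain ⟨S, hS⟩ := h
  refine ⟨S, le_antisymm (Submodule.span_le.2 fun x hx => ?_) fun x hx => ?_⟩
  · exact (hS ▸ Submodule.subset_span hx : x ∈ LinearMap.ker (g.restrictScalars P))
  · have : x ∈ Submodule.span P (S : Set (Fin s → A)) := hS ▸ hx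
    exact Submodule.span_le_restrictScalars P A _ this

section Modules

variable {A : Type u} [CommRing A] [Algebra R A]
variable {M : Type u} [AddCommGroup M] [Module A M] [Module R M] [IsScalarTower R A M]
  [Module.Finite A M]

/-- S11527: saturated submodules of finite modules are finitely generated. -/
theorem fg_of_sat (hR : AdicRing.IsBase R I) (hA : AdicRing.TopFiniteType R I A)
    {N : Submodule A M} (hN : Sat I N) : N.FG := by
  obtain ⟨n, _, _, hs⟩ := exists_algebra hA
  letI : Module (AdicRing.RPow R I n) M := Module.compHom M (algebraMap (AdicRing.RPow R I n) A)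
  haveI : IsScalarTower (AdicRing.RPow R I n) A M := IsScalarTower.of_algebraMap_smul fun _ _ => rfl
  haveI : IsScalarTower R (AdicRing.RPow R I n) M := IsScalarTower.of_algebraMap_smul fun r m => by
    change algebraMap (AdicRing.RPow R I n) A (algebraMap R _ r) • m = r • m
    rw [← IsScalarTower.algebraMap_apply, algebraMap_smul]
  haveI : Module.Finite (AdicRing.RPow R I n) A :=
    Module.Finite.of_surjective (Algebra.linearMap _ A) hs
  haveI : Module.Finite (AdicRing.RPow R I n) M := Module.Finite.trans A M
  obtain ⟨s, π, hπ⟩ := Module.Finite.exists_fin' (AdicRing.RPow R I n) M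
  have hfg : ((N.restrictScalars (AdicRing.RPow R I n)).comap π).FG := by
    refine fg_of_sat_rpow hR fun x k hx => ?_
    refine hN (π x) k fun a ha => ?_
    have := hx a ha
    rwa [Submodule.mem_comap, Submodule.restrictScalars_mem, LinearMap.map_smul_of_tower] at this
  have h2 := hfg.map π
  rw [Submodule.map_comap_eq_of_surjective hπ] at h2
  obtain ⟨S, hS⟩ := h2
  refine ⟨S, le_antisymm (Submodule.span_le.2 fun x hx => ?_) fun x hx => ?_⟩
  · exact (hS ▸ Submodule.subset_span hx : x ∈ N.restrictScalars (AdicRing.RPow R I n))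
  · have : x ∈ Submodule.span (AdicRing.RPow R I n) (S : Set M) := hS ▸ hx
    exact Submodule.span_le_restrictScalars (AdicRing.RPow R I n) A _ this

theorem fg_base (hR : AdicRing.IsBase R I) : I.FG := Base.isBase_fg hR

/-- A flat module has no power torsion in class (V). -/
theorem sat_bot_of_flat [IsDomain R] {t : R} (ht : t ≠ 0) {M' : Type v} [AddCommGroup M']
    [Module R M'] [Module.Flat R M'] (x : M') (hx : t • x = 0) : x = 0 :=
  Module.Flat.isSMulRegular_of_nonZeroDivisors (mem_nonZeroDivisors_of_ne_zero ht) (hx.trans (smul_zero t).symm)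

/-- S11524. -/
theorem finitePresentation_of_flat (hR : AdicRing.IsBase R I) (hA : AdicRing.TopFiniteType R I A)
    [Module.Flat R M] : Module.FinitePresentation A M := by
  rcases cases hR with h | ⟨h1, h2, h3, t, ht, rfl⟩
  · haveI := isNoetherianRing_of_topFiniteType hA
    exact Module.finitePresentation_of_finite A M
  · obtain ⟨s, g, hg⟩ := Module.Finite.exists_fin' A M
    refine Module.finitePresentation_of_surjective g hg (fg_of_sat hR hA ?_)
    refine sat_span_iff.2 fun x hx => ?_
    rw [LinearMap.mem_ker, LinearMap.map_smul_of_tower] at hx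
    exact LinearMap.mem_ker.2 (sat_bot_of_flat ht _ hx)

/-- S11526. -/
theorem coherent (hR : AdicRing.IsBase R I) (hA : AdicRing.TopFinitePresentation R I A)
    {J : Ideal A} (hJ : J.FG) : Module.FinitePresentation A J := by
  obtain ⟨n, φ, hφ, hK⟩ := hA
  haveI := hR.1
  rcases cases hR with h | ⟨h1, h2, h3, t, ht, rfl⟩
  · haveI := isNoetherianRing_of_topFiniteType (⟨n, φ, hφ⟩ : AdicRing.TopFiniteType R I A)
    exact Module.finitePresentation_of_finite A J
  · letI : Algebra (AdicRing.RPow R (Ideal.span {t}) n) A := φ.toRingHom.toAlgebra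
    let J' : Ideal (AdicRing.RPow R (Ideal.span {t}) n) := J.comap φ
    have hJ' : J'.FG := by
      refine Submodule.fg_of_fg_map_of_fg_inf_ker (Algebra.linearMap (AdicRing.RPow R (Ideal.span {t}) n) A) ?_ ?_
      · have : Submodule.map (Algebra.linearMap (AdicRing.RPow R (Ideal.span {t}) n) A) J' =
            J.restrictScalars (AdicRing.RPow R (Ideal.span {t}) n) :=
          SetLike.ext fun a => ⟨by rintro ⟨x, hx, rfl⟩; exact hx,
            fun ha => by obtain ⟨x, rfl⟩ := hφ a; exact ⟨x, ha, rfl⟩⟩
        rw [this]
        exact Submodule.FG.restrictScalars_of_surjective hJ hφ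
      · have : J' ⊓ LinearMap.ker (Algebra.linearMap (AdicRing.RPow R (Ideal.span {t}) n) A) =
            RingHom.ker φ.toRingHom :=
          Submodule.ext fun x => ⟨fun hx => (Submodule.mem_inf.1 hx).2, fun hx => Submodule.mem_inf.2 ⟨by
            rw [Ideal.mem_comap]; exact (show φ x = 0 from hx) ▸ J.zero_mem, hx⟩⟩
        rw [this]; exact hK
    haveI : Module.Finite (AdicRing.RPow R (Ideal.span {t}) n) J' := Module.Finite.iff_fg.2 hJ'
    haveI : Module.Flat R J' := Valuation.flat_of_torsionFree (t := t) fun x hx => Subtype.ext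
      (IdealFG.torsionFree ht _ (by
        have := congr_arg Subtype.val hx
        rwa [Submodule.coe_smul_of_tower, Algebra.smul_def, ZeroMemClass.coe_zero] at this))
    haveI : Module.FinitePresentation (AdicRing.RPow R (Ideal.span {t}) n) J' :=
      finitePresentation_of_flat hR (topFiniteType_rpow n)
    let l : J' →ₗ[AdicRing.RPow R (Ideal.span {t}) n] J :=
      { toFun := fun x => ⟨φ x, x.2⟩
        map_add' := fun x y => Subtype.ext (map_add φ _ _)
        map_smul' := fun c x => Subtype.ext (map_mul φ _ _) }
    have hl : Function.Surjective l := fun a => by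
      obtain ⟨x, hx⟩ := hφ a
      exact ⟨⟨x, by rw [Ideal.mem_comap, hx]; exact a.2⟩, Subtype.ext hx⟩
    haveI : Module.FinitePresentation (AdicRing.RPow R (Ideal.span {t}) n) J := by
      refine Module.finitePresentation_of_surjective l hl ?_
      have hker : Submodule.map J'.subtype (LinearMap.ker l) = RingHom.ker φ.toRingHom :=
        Submodule.ext fun x => ⟨by rintro ⟨y, hy, rfl⟩; exact congr_arg Subtype.val hy,
          fun hx => ⟨⟨x, by rw [Ideal.mem_comap]; exact (show φ x = 0 from hx) ▸ J.zero_mem⟩,
            Subtype.ext hx, rfl⟩⟩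
      exact Submodule.fg_of_fg_map_injective _ J'.injective_subtype (hker ▸ hK)
    exact finitePresentation_of_surjective hφ J

/-- S11525. -/
theorem topFinitePresentation_of_noPowTorsion (hR : AdicRing.IsBase R I)
    (hA : AdicRing.TopFiniteType R I A) (hT : AdicRing.NoPowTorsion I A) :
    AdicRing.TopFinitePresentation R I A := by
  obtain ⟨n, φ, hφ⟩ := hA
  refine ⟨n, φ, hφ, fg_of_sat hR (topFiniteType_rpow n) fun x k hx => ?_⟩
  refine hT (φ x) k fun a ha => ?_
  rw [← map_smul]
  exact hx a ha

end Modules

end Groth.Agent.Lib.Adic.Bosch.Basic
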