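import Groth.Agent.Lib.Adic.Bosch.Poly
import Groth.Agent.Lib.Adic.Bosch.ArtinRees
import Mathlib.RingTheory.AdicCompletion.AsTensorProduct
import Mathlib.RingTheory.Flat.Tensor

/-! Completion of finitely generated algebras over algebras topologically of finite type. -/

set_option autoImplicit false
set_option linter.unusedSectionVars false
set_option linter.style.haveILetI false

universe u

open scoped TensorProduct Pointwise

namespace Groth.Agent.Lib.Adic.Bosch.Completion

section Good

variable {B : Type u} [CommRing B] {J : Ideal B}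

/-- Artin-Rees together with a finitely generated bound for every submodule of a finite module. -/
def Good (J : Ideal B) : Prop :=
  ∀ (M : Type u) [AddCommGroup M] [Module B M] [Module.Finite B M] (N : Submodule B M),
    ∃ (c : ℕ) (N' : Submodule B M), N'.FG ∧ N ≤ N' ∧ J ^ c • N' ≤ N ∧
      ∀ m : ℕ, J ^ (m + c) • (⊤ : Submodule B M) ⊓ N ≤ J ^ m • N

variable (hG : Good J)

theorem mem_smul_top_coe {M : Type u} [AddCommGroup M] [Module B M] (N : Submodule B M) (k : ℕ)
    (x : N) : x ∈ (J ^ k • ⊤ : Submodule B N) ↔ (x : M) ∈ J ^ k • N :=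
  Submodule.mem_smul_top_iff _ _ _

include hG in
theorem map_injective {M : Type u} [AddCommGroup M] [Module B M] [Module.Finite B M]
    (N : Submodule B M) : Function.Injective (AdicCompletion.map J N.subtype) := by
  obtain ⟨c, N', -, -, -, hAR⟩ := hG M N
  refine (injective_iff_map_eq_zero _).2 fun x hx => AdicCompletion.ext fun m => ?_
  obtain ⟨a, ha⟩ := Submodule.mkQ_surjective _ (x.val (m + c))
  have h1 := x.property (Nat.le_add_right m c)
  change AdicCompletion.transitionMap _ _ _ (x.val (m + c)) = x.val m at h1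
  have h2 : ((AdicCompletion.map J N.subtype) x).val (m + c) = 0 := by rw [hx]; rfl
  rw [← h1, ← ha, AdicCompletion.val_zero_apply]
  change Submodule.Quotient.mk a = 0
  rw [Submodule.Quotient.mk_eq_zero, mem_smul_top_coe]
  refine hAR m ⟨?_, a.2⟩
  rw [AdicCompletion.map_val_apply, ← ha] at h2
  change Submodule.Quotient.mk (a : M) = 0 at h2
  exact (Submodule.Quotient.mk_eq_zero _).1 h2

include hG in
theorem exists_preimage {M Q : Type u} [AddCommGroup M] [Module B M] [Module.Finite B M]
    [AddCommGroup Q] [Module B Q] (p : M →ₗ[B] Q) (hp : Function.Surjective p)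
    (x : AdicCompletion J M) (hx : AdicCompletion.map J p x = 0) :
    ∃ y : AdicCompletion J (LinearMap.ker p),
      AdicCompletion.map J (LinearMap.ker p).subtype y = x := by
  obtain ⟨c, N', -, -, -, hAR⟩ := hG M (LinearMap.ker p)
  choose a ha using fun k => Submodule.mkQ_surjective _ (x.val k)
  have hn : ∀ k, ∃ n : LinearMap.ker p, a k - (n : M) ∈ (J ^ k • ⊤ : Submodule B M) := by
    intro k
    have h1 : ((AdicCompletion.map J p) x).val k = 0 := by rw [hx]; rfl
    rw [AdicCompletion.map_val_apply, ← ha] at h1
    have h2 : p (a k) ∈ (J ^ k • ⊤ : Submodule B Q) := (Submodule.Quotient.mk_eq_zero _).1 h1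
    rw [← LinearMap.range_eq_top.2 hp, ← Submodule.map_top, ← Submodule.map_smul''] at h2
    obtain ⟨j, hj, hjp⟩ := h2
    exact ⟨⟨a k - j, by rw [LinearMap.mem_ker, map_sub, hjp, sub_self]⟩, by simpa using hj⟩
  choose n hn using hn
  have hcompat : ∀ {k l : ℕ}, k ≤ l → a k - a l ∈ (J ^ k • ⊤ : Submodule B M) := by
    intro k l hkl
    have h1 := x.property hkl
    change AdicCompletion.transitionMap _ _ _ (x.val l) = x.val k at h1
    rw [← ha l, ← ha k] at h1
    exact (Submodule.Quotient.eq _).1 h1.symm
  refine ⟨⟨fun k => Submodule.Quotient.mk (n (k + c)), fun {k l} hkl => ?_⟩, AdicCompletion.ext fun k => ?_⟩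
  · change Submodule.Quotient.mk (n (l + c)) = Submodule.Quotient.mk (n (k + c))
    rw [Submodule.Quotient.eq, mem_smul_top_coe]
    refine hAR k ⟨?_, (n (l + c) - n (k + c)).2⟩
    have h2 := hcompat (show k + c ≤ l + c by omega)
    have h3 : (J ^ (l + c) • ⊤ : Submodule B M) ≤ J ^ (k + c) • ⊤ :=
      Submodule.smul_mono_left (Ideal.pow_le_pow_right (by omega))
    have h4 := sub_mem (sub_mem (hn (k + c)) h2) (h3 (hn (l + c)))
    rw [AddSubgroupClass.coe_sub]
    convert! h4 using 1
    abel
  · change Submodule.Quotient.mk (n (k + c) : M) = _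
    rw [← ha k]
    change _ = Submodule.Quotient.mk (a k)
    rw [Submodule.Quotient.eq]
    have h3 : (J ^ (k + c) • ⊤ : Submodule B M) ≤ J ^ k • ⊤ :=
      Submodule.smul_mono_left (Ideal.pow_le_pow_right (Nat.le_add_right k c))
    have h4 := sub_mem (neg_mem (hcompat (Nat.le_add_right k c))) (h3 (hn (k + c)))
    convert! h4 using 1
    abel

include hG in
/-- The image of the completion of a submodule is generated by the submodule. -/
theorem exists_tensor {M : Type u} [AddCommGroup M] [Module B M] [Module.Finite B M]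
    (hJ : J.FG) (N : Submodule B M) (y : AdicCompletion J N) :
    ∃ w : AdicCompletion J B ⊗[B] N,
      AdicCompletion.map J N.subtype (AdicCompletion.ofTensorProduct J N w) =
        AdicCompletion.map J N.subtype y := by
  obtain ⟨c, N', hN', hle, hc, -⟩ := hG M N
  haveI : Module.Finite B N' := Module.Finite.iff_fg.2 hN'
  let incl : N →ₗ[B] N' := Submodule.inclusion hle
  suffices h : ∃ w, AdicCompletion.map J incl (AdicCompletion.ofTensorProduct J N w) =
      AdicCompletion.map J incl y by
    obtain ⟨w, hw⟩ := h
    refine ⟨w, ?_⟩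
    have e : N.subtype = N'.subtype.comp incl := rfl
    rw [e, ← AdicCompletion.map_comp, LinearMap.comp_apply, hw]
    rfl
  let S : Submodule B (AdicCompletion J N') :=
    LinearMap.range (((AdicCompletion.map J incl).comp (AdicCompletion.ofTensorProduct J N)).restrictScalars B)
  have key : ∀ z, ∃ n₀ : N', AdicCompletion.ofTensorProduct J N' z - AdicCompletion.of J N' n₀ ∈ S := by
    intro z
    induction z using TensorProduct.induction_on with
    | zero => exact ⟨0, by simp⟩
    | add a b ha hb =>
        obtain ⟨a', ha⟩ := ha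
        obtain ⟨b', hb⟩ := hb
        refine ⟨a' + b', ?_⟩
        rw [map_add, map_add, add_sub_add_comm]
        exact add_mem ha hb
    | tmul β n' =>
        obtain ⟨b₀, hb₀⟩ := Submodule.mkQ_surjective _ (β.val c)
        refine ⟨b₀ • n', ?_⟩
        rw [AdicCompletion.ofTensorProduct_tmul, map_smul,
          ← algebraMap_smul (AdicCompletion J B) b₀ (AdicCompletion.of J N' n'), ← sub_smul]
        have hw : β - algebraMap B (AdicCompletion J B) b₀ ∈
            (J ^ c • ⊤ : Submodule B (AdicCompletion J B)) := by
          rw [AdicCompletion.pow_smul_top_eq_ker_eval hJ, LinearMap.mem_ker, map_sub,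
            AdicCompletion.eval_apply, ← hb₀]
          exact sub_self _
        generalize β - algebraMap B (AdicCompletion J B) b₀ = v at hw
        induction hw using Submodule.smul_induction_on' with
        | smul r hr v _ =>
            have hrn : ((r • n' : N') : M) ∈ N := hc (Submodule.smul_mem_smul hr n'.2)
            refine ⟨v ⊗ₜ ⟨_, hrn⟩, ?_⟩
            change AdicCompletion.map J incl (AdicCompletion.ofTensorProduct J N (v ⊗ₜ ⟨_, hrn⟩)) = _
            rw [AdicCompletion.ofTensorProduct_tmul, map_smul, AdicCompletion.map_of,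
              show incl ⟨_, hrn⟩ = r • n' from rfl, map_smul, smul_comm, smul_assoc]
        | add a _ b _ ha hb => rw [add_smul]; exact add_mem ha hb
  obtain ⟨z, hz⟩ := AdicCompletion.ofTensorProduct_surjective_of_finite J N' (AdicCompletion.map J incl y)
  obtain ⟨n₀, w, hw⟩ := key z
  change AdicCompletion.map J incl (AdicCompletion.ofTensorProduct J N w) = _ at hw
  rw [hz] at hw
  have hn₀ : (n₀ : M) ∈ N := by
    obtain ⟨a, ha⟩ := Submodule.mkQ_surjective _ ((y - AdicCompletion.ofTensorProduct J N w).val c)
    have h1 : AdicCompletion.map J incl (y - AdicCompletion.ofTensorProduct J N w) =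
        AdicCompletion.of J N' n₀ := by
      rw [map_sub, hw]; abel
    have h2 := congr_arg (fun x : AdicCompletion J N' => x.val c) h1
    simp only [AdicCompletion.map_val_apply, ← ha, AdicCompletion.of_apply] at h2
    change Submodule.Quotient.mk (incl a) = Submodule.Quotient.mk n₀ at h2
    rw [Submodule.Quotient.eq, mem_smul_top_coe] at h2
    have := sub_mem (show ((incl a : N') : M) ∈ N from a.2) (hc h2)
    rwa [AddSubgroupClass.coe_sub, sub_sub_cancel] at this
  refine ⟨w + 1 ⊗ₜ ⟨_, hn₀⟩, ?_⟩
  rw [map_add, map_add, AdicCompletion.ofTensorProduct_tmul, one_smul, AdicCompletion.map_of,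
    show incl ⟨_, hn₀⟩ = n₀ from rfl, hw]
  abel

include hG in
/-- `B̂ ⊗ M → M̂` is bijective. -/
theorem ofTensorProduct_bijective (hJ : J.FG) (M : Type u) [AddCommGroup M] [Module B M]
    [Module.Finite B M] : Function.Bijective (AdicCompletion.ofTensorProduct J M) := by
  refine ⟨(injective_iff_map_eq_zero _).2 fun z hz => ?_,
    AdicCompletion.ofTensorProduct_surjective_of_finite J M⟩
  obtain ⟨s, p, hp⟩ := Module.Finite.exists_fin' B M
  obtain ⟨v, rfl⟩ := LinearMap.lTensor_surjective (AdicCompletion J B) hp z
  have hnat : ∀ {X Y : Type u} [AddCommGroup X] [Module B X] [AddCommGroup Y] [Module B Y]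
      (f : X →ₗ[B] Y) (x : AdicCompletion J B ⊗[B] X),
      AdicCompletion.map J f (AdicCompletion.ofTensorProduct J X x) =
        AdicCompletion.ofTensorProduct J Y (f.lTensor (AdicCompletion J B) x) := fun f x =>
    DFunLike.congr_fun (AdicCompletion.ofTensorProduct_naturality J f) x
  obtain ⟨y, hy⟩ := exists_preimage hG p hp (AdicCompletion.ofTensorProduct J (Fin s → B) v)
    (by rw [hnat]; exact hz)
  obtain ⟨w, hw⟩ := exists_tensor hG hJ (LinearMap.ker p) y
  rw [hy, hnat] at hw
  rw [← (AdicCompletion.ofTensorProduct_bijective_of_pi_of_fintype J (Fin s)).1 hw,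
    ← LinearMap.comp_apply, ← LinearMap.lTensor_comp, LinearMap.comp_ker_subtype,
    LinearMap.lTensor_zero, LinearMap.zero_apply]

include hG in
/-- The completion is flat. -/
theorem flat_completion (hJ : J.FG) : Module.Flat B (AdicCompletion J B) := by
  rw [Module.Flat.iff_lTensor_injective]
  intro K hK
  haveI : Module.Finite B K := Module.Finite.iff_fg.2 hK
  refine (injective_iff_map_eq_zero _).2 fun z hz => ?_
  refine (injective_iff_map_eq_zero _).1 (ofTensorProduct_bijective hG hJ K).1 z ?_
  refine (injective_iff_map_eq_zero _).1 (map_injective hG K) _ ?_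
  have := DFunLike.congr_fun (AdicCompletion.ofTensorProduct_naturality J K.subtype) z
  refine this.trans ?_
  change AdicCompletion.ofTensorProduct J B (K.subtype.lTensor (AdicCompletion J B) z) = 0
  rw [hz, map_zero]

end Good

section Base

open Groth.Agent.Lib.Adic.Bosch.Basic

variable {R : Type u} [CommRing R] {I : Ideal R}

/-- Finitely generated algebras over algebras topologically of finite type have Artin-Rees. -/
theorem good_of_finiteType (hR : AdicRing.IsBase R I) {A : Type u} [CommRing A] [Algebra R A]
    (hA : AdicRing.TopFiniteType R I A) {B : Type u} [CommRing B] [Algebra R B] [Algebra A B]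
    [IsScalarTower R A B] [Algebra.FiniteType A B] : Good (I.map (algebraMap R B)) := by
  classical
  obtain ⟨n, φ, hφ⟩ := hA
  letI : Algebra (AdicRing.RPow R I n) A := φ.toRingHom.toAlgebra
  letI : Algebra (AdicRing.RPow R I n) B := ((algebraMap A B).comp φ.toRingHom).toAlgebra
  haveI : IsScalarTower (AdicRing.RPow R I n) A B := IsScalarTower.of_algebraMap_eq fun _ => rfl
  haveI : IsScalarTower R (AdicRing.RPow R I n) B := IsScalarTower.of_algebraMap_eq fun r => by
    change algebraMap R B r = algebraMap A B (φ (algebraMap R _ r))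
    rw [φ.commutes, ← IsScalarTower.algebraMap_apply]
  haveI : Module.Finite (AdicRing.RPow R I n) A :=
    Module.Finite.of_surjective (Algebra.linearMap _ A) hφ
  haveI : Algebra.FiniteType (AdicRing.RPow R I n) B :=
    Algebra.FiniteType.trans (S := A) inferInstance inferInstance
  rcases cases hR with h | ⟨h1, h2, h3, t, ht, rfl⟩
  · haveI := isNoetherianRing_rpow (R := R) (I := I) n
    haveI : IsNoetherianRing B := Algebra.FiniteType.isNoetherianRing (AdicRing.RPow R I n) B
    intro M _ _ _ N
    obtain ⟨k, hk⟩ := Ideal.exists_pow_inf_eq_pow_smul (I.map (algebraMap R B)) N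
    refine ⟨k, N, IsNoetherian.noetherian N, le_rfl, Submodule.smul_le_right, fun m => ?_⟩
    rw [hk (m + k) (Nat.le_add_left k m), Nat.add_sub_cancel]
    exact Submodule.smul_mono (le_refl ((I.map (algebraMap R B)) ^ m))
      (inf_le_right (a := (I.map (algebraMap R B)) ^ k • (⊤ : Submodule B M)) (b := N))
  · haveI := hR.1
    intro M _ _ _ N
    let τ := algebraMap R B t
    let N' : Submodule B M :=
      { carrier := {x | ∃ k : ℕ, τ ^ k • x ∈ N}
        zero_mem' := ⟨0, by simp⟩
        add_mem' := by
          rintro x y ⟨k, hk⟩ ⟨l, hl⟩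
          refine ⟨k + l, ?_⟩
          rw [smul_add]
          refine add_mem ?_ ?_
          · rw [add_comm, pow_add, mul_smul]; exact N.smul_mem _ hk
          · rw [pow_add, mul_smul]; exact N.smul_mem _ hl
        smul_mem' := fun a x ⟨k, hk⟩ => ⟨k, by rw [smul_comm]; exact N.smul_mem a hk⟩ }
    have hfg : N'.FG := Poly.fg_of_saturated_finiteType (R := R) (t := t) (n := n) ht
      (fun x ⟨k, hk⟩ => ⟨k + 1, by rw [pow_succ, mul_smul]; exact hk⟩)
    obtain ⟨S, hS⟩ := id hfg
    choose! k hk using fun (x : M) (hx : x ∈ S) => (hS ▸ Submodule.subset_span hx : x ∈ N')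
    have hbd : ∀ x ∈ N', τ ^ S.sup k • x ∈ N := fun x hx => by
      rw [← hS] at hx
      induction hx using Submodule.span_induction with
      | mem y hy =>
          rw [show S.sup k = (S.sup k - k y) + k y from (Nat.sub_add_cancel (Finset.le_sup hy)).symm,
            pow_add, mul_smul]
          exact N.smul_mem _ (hk y hy)
      | zero => simp
      | add y z _ _ hy hz => rw [smul_add]; exact add_mem hy hz
      | smul a y _ hy => rw [smul_comm]; exact N.smul_mem a hy
    have hspan : ∀ (j : ℕ) (L : Submodule B M) (x : M),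
        x ∈ (Ideal.span {t}).map (algebraMap R B) ^ j • L ↔ ∃ y ∈ L, τ ^ j • y = x := fun j L x => by
      rw [Ideal.map_span, Set.image_singleton]
      exact ArtinRees.mem_span_pow_smul_iff
    refine ⟨S.sup k, N', hfg, fun x hx => ⟨0, by simpa using hx⟩, fun x hx => ?_, fun m x ⟨hx, hxN⟩ => ?_⟩
    · obtain ⟨y, hy, rfl⟩ := (hspan _ _ _).1 hx
      exact hbd y hy
    · obtain ⟨y, -, rfl⟩ := (hspan _ _ _).1 hx
      exact (hspan _ _ _).2 ⟨τ ^ S.sup k • y, hbd y ⟨m + S.sup k, hxN⟩, by rw [← mul_smul, ← pow_add]⟩

end Base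

end Groth.Agent.Lib.Adic.Bosch.Completion
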