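import Groth.Agent.Lib.Adic.Bosch.Localization
import Groth.Agent.Lib.Adic.Transfer
import Mathlib.RingTheory.RingHom.FinitePresentation
import Mathlib.RingTheory.RingHom.FiniteType
import Mathlib.RingTheory.Finiteness.FinitePresentationLocal
import Mathlib.RingTheory.Localization.Ideal

/-! Topological finite presentation through truncations; locality. -/

set_option autoImplicit false
set_option linter.unusedSectionVars false
set_option linter.style.haveILetI false

universe u

namespace Groth.Agent.Lib.Adic.Bosch.Trunc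

open Groth.Agent.Lib.Adic.Bosch.Basic Groth.Agent.Lib.Adic.Bosch.Localization MvPolynomial

variable {R : Type u} [CommRing R] {I : Ideal R}

/-- The structure map of `S / I^k S` over `R / I^k`. -/
abbrev sMap (I : Ideal R) (k : ℕ) (S : Type u) [CommRing S] [Algebra R S] :
    R ⧸ I ^ k →+* S ⧸ (I ^ k).map (algebraMap R S) :=
  Ideal.quotientMap _ (algebraMap R S) Ideal.le_comap_map

theorem exists_reduction (hI : I.FG) (n k : ℕ) :
    ∃ ρ : AdicRing.RPow R I n →ₐ[R] MvPolynomial (Fin n) (R ⧸ I ^ k), Function.Surjective ρ ∧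
      RingHom.ker ρ = (I ^ k).map (algebraMap R (AdicRing.RPow R I n)) := by
  let T := MvPolynomial (Fin n) (R ⧸ I ^ k)
  have h0 : (I ^ k).map (algebraMap R T) = ⊥ := by
    rw [Ideal.map_eq_bot_iff_le_ker]
    intro r hr
    rw [RingHom.mem_ker, IsScalarTower.algebraMap_apply R (R ⧸ I ^ k), Ideal.Quotient.algebraMap_eq,
      Ideal.Quotient.eq_zero_iff_mem.2 hr, map_zero]
  haveI : IsAdicComplete (I.map (algebraMap R T)) T :=
    Transfer.isAdicComplete_of_le (I := ⊥) bot_le (N := k) (by rw [← Ideal.map_pow, h0])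
  obtain ⟨ρ, hρ⟩ := Lift.exists_lift (I := I) (mapAlgHom (σ := Fin n) (Ideal.Quotient.mkₐ R (I ^ k)))
  have hρ' : ∀ c, ρ (AdicCompletion.of _ _ c) = map (Ideal.Quotient.mk (I ^ k)) c := hρ
  refine ⟨ρ, fun y => ?_, le_antisymm (fun x hx => ?_) ?_⟩
  · obtain ⟨c, hc⟩ := map_surjective (Ideal.Quotient.mk (I ^ k)) Ideal.Quotient.mk_surjective y
    exact ⟨_, (hρ' c).trans hc⟩
  · obtain ⟨c, hc⟩ := Lift.exists_of_sub_mem (R := R) (I := I) hI (C := MvPolynomial (Fin n) R) x k
    rw [← Ideal.map_pow] at hc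
    have h1 : ρ (x - AdicCompletion.of _ _ c) = 0 := by
      have := (map_map_algHom (I ^ k) ρ).le (Ideal.mem_map_of_mem ρ hc)
      rwa [h0, Ideal.mem_bot] at this
    have h2 : map (Ideal.Quotient.mk (I ^ k)) c = 0 :=
      (hρ' c).symm.trans ((sub_eq_zero.1 ((map_sub ρ x _).symm.trans h1)).symm.trans (RingHom.mem_ker.1 hx))
    have hcI : c ∈ (I ^ k).map (algebraMap R (MvPolynomial (Fin n) R)) := by
      rw [algebraMap_eq, mem_map_C_iff]
      intro d
      have := congr_arg (coeff d) h2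
      rwa [coeff_map, coeff_zero, Ideal.Quotient.eq_zero_iff_mem] at this
    have h3 := (map_map_algHom (I ^ k)
      (IsScalarTower.toAlgHom R (MvPolynomial (Fin n) R) (AdicRing.RPow R I n))).le
      (Ideal.mem_map_of_mem _ hcI)
    have h4 := add_mem hc h3
    exact (congrArg (· ∈ (I ^ k).map (algebraMap R (AdicRing.RPow R I n))) (sub_add_cancel x _)).mp h4
  · intro x hx
    have := (map_map_algHom (I ^ k) ρ).le (Ideal.mem_map_of_mem ρ hx)
    rwa [h0, Ideal.mem_bot] at this

theorem exists_trunc_map (hI : I.FG) {A : Type u} [CommRing A] [Algebra R A] {n : ℕ}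
    (φ : AdicRing.RPow R I n →ₐ[R] A) (hφ : Function.Surjective φ) (k : ℕ) :
    ∃ (ρ : AdicRing.RPow R I n →ₐ[R] MvPolynomial (Fin n) (R ⧸ I ^ k))
      (g : MvPolynomial (Fin n) (R ⧸ I ^ k) →+* A ⧸ (I ^ k).map (algebraMap R A)),
      Function.Surjective ρ ∧ RingHom.ker ρ = (I ^ k).map (algebraMap R (AdicRing.RPow R I n)) ∧
      g.comp C = sMap I k A ∧ Function.Surjective g ∧
      RingHom.ker g = (RingHom.ker φ).map ρ := by
  obtain ⟨ρ, hρ, hker⟩ := exists_reduction hI n k
  let q : AdicRing.RPow R I n →+* A ⧸ (I ^ k).map (algebraMap R A) :=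
    (Ideal.Quotient.mk _).comp φ.toRingHom
  have hq : Function.Surjective q := Ideal.Quotient.mk_surjective.comp hφ
  have hle : RingHom.ker ρ ≤ RingHom.ker q := fun x hx => by
    rw [hker] at hx
    rw [RingHom.mem_ker]
    exact Ideal.Quotient.eq_zero_iff_mem.2 ((map_map_algHom (I ^ k) φ).le (Ideal.mem_map_of_mem φ hx))
  let g : MvPolynomial (Fin n) (R ⧸ I ^ k) →+* A ⧸ (I ^ k).map (algebraMap R A) :=
    ρ.toRingHom.liftOfSurjective hρ ⟨q, hle⟩
  have hg : ∀ x, g (ρ x) = q x := fun x =>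
    RingHom.liftOfRightInverse_comp_apply _ _ _ ⟨q, hle⟩ x
  refine ⟨ρ, g, hρ, hker, ?_, fun y => ?_, ?_⟩
  · refine Ideal.Quotient.ringHom_ext (RingHom.ext fun r => ?_)
    have h1 : ρ (algebraMap R _ r) = C (Ideal.Quotient.mk (I ^ k) r) := by
      rw [ρ.commutes, IsScalarTower.algebraMap_apply R (R ⧸ I ^ k)]
      rfl
    simp only [RingHom.comp_apply, Ideal.quotientMap_mk]
    rw [← h1, hg]
    exact congr_arg (Ideal.Quotient.mk _) (φ.commutes r)
  · obtain ⟨x, rfl⟩ := hq y
    exact ⟨ρ x, hg x⟩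
  · refine le_antisymm (fun y hy => ?_) (Ideal.map_le_iff_le_comap.2 fun x hx => ?_)
    · obtain ⟨x, rfl⟩ := hρ y
      rw [RingHom.mem_ker, hg] at hy
      have hmem : φ x ∈ ((I ^ k).map (algebraMap R (AdicRing.RPow R I n))).map φ := by
        rw [map_map_algHom]
        exact Ideal.Quotient.eq_zero_iff_mem.1 hy
      obtain ⟨z, hz, hzx⟩ := (Ideal.mem_map_iff_of_surjective φ hφ).1 hmem
      rw [← hker, RingHom.mem_ker] at hz
      have : ρ x = ρ (x - z) := by rw [map_sub, hz, sub_zero]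
      rw [this]
      refine Ideal.mem_map_of_mem _ ?_
      rw [RingHom.mem_ker, map_sub, hzx, sub_self]
    · rw [Ideal.mem_comap, RingHom.mem_ker, hg]
      exact (congr_arg (Ideal.Quotient.mk _) (RingHom.mem_ker.1 hx)).trans (map_zero _)

/-- S11530, forwards. -/
theorem finitePresentation_trunc (hI : I.FG) {A : Type u} [CommRing A] [Algebra R A]
    (hA : AdicRing.TopFinitePresentation R I A) (k : ℕ) : (sMap I k A).FinitePresentation := by
  obtain ⟨n, φ, hφ, hK⟩ := hA
  obtain ⟨ρ, g, -, -, hgC, hg, hkg⟩ := exists_trunc_map hI φ hφ k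
  rw [← hgC]
  refine RingHom.FinitePresentation.comp ?_ ?_
  · exact RingHom.FinitePresentation.of_surjective g hg (hkg ▸ hK.map _)
  · rw [← algebraMap_eq, RingHom.finitePresentation_algebraMap]
    infer_instance

theorem exists_surjection (hI : I.FG) {A : Type u} [CommRing A] [Algebra R A]
    [IsAdicComplete (I.map (algebraMap R A)) A] (hA : HasDense R I A) :
    AdicRing.TopFiniteType R I A := by
  obtain ⟨n, b, hb⟩ := hA
  obtain ⟨φ, hφ⟩ := Restricted.exists_eval I b
  exact ⟨n, φ, Restricted.surjective_eval I hI b φ hφ hb⟩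

theorem hasDense_of_finiteType {A : Type u} [CommRing A] [Algebra R A]
    (h : (sMap I 1 A).FiniteType) : HasDense R I A := by
  have h1 : ((sMap I 1 A).comp (Ideal.Quotient.mk (I ^ 1))).FiniteType :=
    h.comp (RingHom.FiniteType.of_surjective _ Ideal.Quotient.mk_surjective)
  have h2 : (algebraMap R (A ⧸ (I ^ 1).map (algebraMap R A))).FiniteType := h1
  obtain ⟨r, b, hb⟩ := Restricted.exists_aeval_of_finiteType (A := R) (J := (I ^ 1).map (algebraMap R A))
    (RingHom.finiteType_algebraMap.1 h2)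
  exact ⟨r, b, fun y => by simpa [pow_one] using hb y⟩

/-- S11530, backwards. -/
theorem topFinitePresentation_of_trunc (hR : AdicRing.IsBase R I) {A : Type u} [CommRing A]
    [Algebra R A] [IsAdicComplete (I.map (algebraMap R A)) A]
    (h : ∀ k : ℕ, (sMap I (k + 1) A).FinitePresentation) :
    AdicRing.TopFinitePresentation R I A := by
  have hI := fg_base hR
  obtain ⟨n, φ, hφ⟩ := exists_surjection hI (hasDense_of_finiteType (RingHom.FiniteType.of_finitePresentation (h 0)))
  refine ⟨n, φ, hφ, ?_⟩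
  obtain ⟨n₀, hn₀⟩ := ArtinRees.artinRees hR (topFiniteType_rpow n) (M := AdicRing.RPow R I n)
    (RingHom.ker φ.toRingHom)
  obtain ⟨ρ, g, hρ, hker, hgC, hg, hkg⟩ := exists_trunc_map hI φ hφ (n₀ + 1)
  have hfg : ((RingHom.ker φ).map ρ).FG := by
    rw [← hkg]
    letI := (sMap I (n₀ + 1) A).toAlgebra
    haveI : Algebra.FinitePresentation (R ⧸ I ^ (n₀ + 1)) (A ⧸ (I ^ (n₀ + 1)).map (algebraMap R A)) :=
      h n₀
    exact Algebra.FinitePresentation.ker_fG_of_surjective
      ({ g with commutes' := fun r => DFunLike.congr_fun hgC r } :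
        MvPolynomial (Fin n) (R ⧸ I ^ (n₀ + 1)) →ₐ[R ⧸ I ^ (n₀ + 1)] _) hg
  classical
  obtain ⟨S, hS⟩ := hfg
  have hl : ∀ y ∈ S, ∃ x, x ∈ RingHom.ker φ ∧ ρ x = y := fun y hy =>
    (Ideal.mem_map_iff_of_surjective ρ hρ).1 (hS ▸ Ideal.subset_span hy)
  choose! s hsK hs using hl
  let G : Ideal (AdicRing.RPow R I n) := Ideal.span (S.image s : Finset _)
  have hGK : G ≤ RingHom.ker φ.toRingHom := by
    rw [Ideal.span_le, Finset.coe_image]
    rintro _ ⟨y, hy, rfl⟩
    exact hsK y hy
  haveI : IsAdicComplete I (AdicRing.RPow R I n) := Restricted.isAdicComplete_RS I hI n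
  haveI : IsAdicComplete (I.map (algebraMap R (AdicRing.RPow R I n))) (AdicRing.RPow R I n) :=
    (IsAdicComplete.map_algebraMap_iff I (AdicRing.RPow R I n)).2 ‹_›
  have hle : RingHom.ker φ.toRingHom ≤
      G ⊔ I.map (algebraMap R (AdicRing.RPow R I n)) • RingHom.ker φ.toRingHom := by
    intro x hx
    have hxG : ρ x ∈ G.map ρ := by
      have h1 : ρ x ∈ Ideal.span (S : Set (MvPolynomial (Fin n) (R ⧸ I ^ (n₀ + 1)))) := by
        rw [show Ideal.span (S : Set (MvPolynomial (Fin n) (R ⧸ I ^ (n₀ + 1)))) = _ from hS]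
        exact Ideal.mem_map_of_mem _ hx
      refine (Ideal.span_le.2 fun y hy => ?_) h1
      rw [← hs y hy]
      exact Ideal.mem_map_of_mem _ (Ideal.subset_span (Finset.mem_coe.2 (Finset.mem_image_of_mem s hy)))
    obtain ⟨z, hz, hzx⟩ := (Ideal.mem_map_iff_of_surjective ρ hρ).1 hxG
    refine Submodule.mem_sup.2 ⟨z, hz, x - z, ?_, add_sub_cancel z x⟩
    have h1 : x - z ∈ (I ^ (n₀ + 1)).map (algebraMap R (AdicRing.RPow R I n)) := by
      rw [← hker, RingHom.mem_ker, map_sub, hzx, sub_self]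
    have h2 := hn₀ 1 (x := x - z) ⟨by
      rw [Ideal.smul_top_eq_map, add_comm]; exact h1, sub_mem hx (hGK hz)⟩
    rw [pow_one] at h2
    rw [← Ideal.smul_restrictScalars] at h2
    exact h2
  rw [le_antisymm (Complete.le_of_le_sup_smul ⟨_, rfl⟩ hGK hle) hGK]
  exact ⟨_, rfl⟩

/-- The completion does not change the truncations. -/
theorem trunc_completion_equiv (hI : I.FG) (C : Type u) [CommRing C] [Algebra R C] (k : ℕ) :
    ∃ e : (C ⧸ (I ^ k).map (algebraMap R C)) ≃+*
      (AdicCompletion (I.map (algebraMap R C)) C ⧸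
        (I ^ k).map (algebraMap R (AdicCompletion (I.map (algebraMap R C)) C))),
      e.toRingHom.comp (sMap I k C) = sMap I k (AdicCompletion (I.map (algebraMap R C)) C) := by
  let Ĉ := AdicCompletion (I.map (algebraMap R C)) C
  let j : C →ₐ[R] Ĉ := IsScalarTower.toAlgHom R C Ĉ
  have hj : (I ^ k).map (algebraMap R C) ≤ ((I ^ k).map (algebraMap R Ĉ)).comap j.toRingHom :=
    Ideal.map_le_iff_le_comap.1 (map_map_algHom (I ^ k) j).le
  let f := Ideal.quotientMap ((I ^ k).map (algebraMap R Ĉ)) j.toRingHom hj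
  have hf : Function.Bijective f := by
    refine ⟨(injective_iff_map_eq_zero f).2 fun x hx => ?_, fun y => ?_⟩
    · obtain ⟨c, rfl⟩ := Ideal.Quotient.mk_surjective x
      rw [Ideal.quotientMap_mk, Ideal.Quotient.eq_zero_iff_mem] at hx
      have he : (I ^ k).map (algebraMap R Ĉ) ≤
          RingHom.ker (AdicCompletion.evalₐ (I.map (algebraMap R C)) k) := by
        rw [Ideal.map_le_iff_le_comap]
        intro r hr
        rw [Ideal.mem_comap, RingHom.mem_ker, IsScalarTower.algebraMap_apply R C Ĉ, AlgHom.commutes,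
          Ideal.Quotient.algebraMap_eq, Ideal.Quotient.eq_zero_iff_mem, ← Ideal.map_pow]
        exact Ideal.mem_map_of_mem _ hr
      have h := he hx
      rw [RingHom.mem_ker] at h
      change AdicCompletion.evalₐ (I.map (algebraMap R C)) k (AdicCompletion.of _ _ c) = 0 at h
      rw [AdicCompletion.evalₐ_of, Ideal.Quotient.eq_zero_iff_mem, ← Ideal.map_pow] at h
      exact Ideal.Quotient.eq_zero_iff_mem.2 h
    · obtain ⟨x, rfl⟩ := Ideal.Quotient.mk_surjective y
      obtain ⟨c, hc⟩ := Lift.exists_of_sub_mem (R := R) (I := I) hI (C := C) x k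
      refine ⟨Ideal.Quotient.mk _ c, ?_⟩
      rw [Ideal.quotientMap_mk]
      refine (Ideal.Quotient.eq.2 ?_).symm
      rw [← Ideal.map_pow] at hc
      exact hc
  refine ⟨RingEquiv.ofBijective f hf, Ideal.Quotient.ringHom_ext (RingHom.ext fun r => ?_)⟩
  simp only [RingHom.comp_apply, Ideal.quotientMap_mk]
  change f (Ideal.Quotient.mk _ (algebraMap R C r)) = _
  rw [Ideal.quotientMap_mk]
  exact congr_arg (Ideal.Quotient.mk _) (j.commutes r)

end Groth.Agent.Lib.Adic.Bosch.Trunc
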