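import Groth.Agent.Lib.Adic.Bosch.Point
import Groth.Agent.Lib.Adic.Bosch.Completion
import Groth.Agent.Lib.Adic.Bosch.Trunc
import Mathlib.RingTheory.Localization.BaseChange
import Mathlib.RingTheory.Localization.Away.Basic

/-! Admissible blowing-up charts and finite extensions inside the generic fibre. -/

set_option autoImplicit false
set_option linter.unusedSectionVars false
set_option linter.style.haveILetI false

universe u

open scoped TensorProduct

namespace Groth.Agent.Lib.Adic.Bosch.Blow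

open Groth.Agent.Lib.Adic.Bosch.IdealFG Groth.Agent.Lib.Adic.Bosch.Basic

section Chart

variable {R : Type u} [CommRing R] {I : Ideal R}

theorem chart_rel {A : Type u} [CommRing A] {r : ℕ} (f : Fin (r + 1) → A) (i : Fin (r + 1))
    (j : {j : Fin (r + 1) // j ≠ i}) :
    algebraMap A (AdicRing.chartAlg f i) (f i) *
        (Ideal.Quotient.mk _ (MvPolynomial.X j) : AdicRing.chartAlg f i) =
      algebraMap A (AdicRing.chartAlg f i) (f j.1) := by
  rw [← Ideal.Quotient.mk_algebraMap, ← Ideal.Quotient.mk_algebraMap, ← map_mul, Ideal.Quotient.eq,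
    MvPolynomial.algebraMap_eq]
  exact Ideal.subset_span (Set.mem_range_self j)

theorem map_le_span_chart {A : Type u} [CommRing A] [Algebra R A] {r : ℕ} (f : Fin (r + 1) → A)
    {k : ℕ} (hopen : (I ^ k).map (algebraMap R A) ≤ Ideal.span (Set.range f)) (i : Fin (r + 1)) :
    (I ^ k).map (algebraMap R (AdicRing.chartAlg f i)) ≤
      Ideal.span {algebraMap A (AdicRing.chartAlg f i) (f i)} := by
  rw [IsScalarTower.algebraMap_eq R A (AdicRing.chartAlg f i), ← Ideal.map_map]
  refine (Ideal.map_mono hopen).trans ?_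
  rw [Ideal.map_span, Ideal.span_le]
  rintro _ ⟨_, ⟨j, rfl⟩, rfl⟩
  rw [SetLike.mem_coe]
  rcases eq_or_ne j i with hj | hj
  · rw [hj]; exact Ideal.mem_span_singleton_self _
  · exact chart_rel f i ⟨j, hj⟩ ▸ Ideal.mul_mem_right _ _ (Ideal.mem_span_singleton_self _)

theorem torsion_chartAlg {A : Type u} [CommRing A] [Algebra R A] (hI : I.FG)
    (hT : AdicRing.NoPowTorsion I A) {r : ℕ} (f : Fin (r + 1) → A) (i : Fin (r + 1))
    (y : AdicRing.chartAlg f i) {n : ℕ} (hy : ∀ a ∈ I ^ n, a • y = 0) :
    ∃ N : ℕ, algebraMap A (AdicRing.chartAlg f i) (f i) ^ N * y = 0 := by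
  classical
  let ι := algebraMap A (AdicRing.chartAlg f i)
  have key : ∀ z : AdicRing.chartAlg f i, ∃ (e : ℕ) (a : A), ι (f i) ^ e * z = ι a := by
    intro z
    obtain ⟨p, rfl⟩ := Ideal.Quotient.mk_surjective z
    induction p using MvPolynomial.induction_on with
    | C a => exact ⟨0, a, by rw [pow_zero, one_mul]; rfl⟩
    | add p q hp hq =>
        obtain ⟨e, a, ha⟩ := hp
        obtain ⟨e', a', ha'⟩ := hq
        refine ⟨e + e', f i ^ e' * a + f i ^ e * a', ?_⟩
        rw [map_add (Ideal.Quotient.mk _), mul_add, map_add ι, map_mul ι, map_mul ι, map_pow, map_pow,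
          ← ha, ← ha']
        ring
    | mul_X p j hp =>
        obtain ⟨e, a, ha⟩ := hp
        refine ⟨e + 1, a * f j.1, ?_⟩
        have hrel : ι (f i) * Ideal.Quotient.mk _ (MvPolynomial.X j) = ι (f j.1) := chart_rel f i j
        rw [map_mul (Ideal.Quotient.mk _), map_mul ι, ← ha, ← hrel, pow_succ]
        ring
  -- `A → chartAlg` is injective up to `f i`-torsion
  have hinj : ∀ a : A, ι a = 0 → ∃ N : ℕ, f i ^ N * a = 0 := by
    intro a ha
    let Af := Localization.Away (f i)
    let g : MvPolynomial {j // j ≠ i} A →ₐ[A] Af :=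
      MvPolynomial.aeval fun j => algebraMap A Af (f j.1) * IsLocalization.Away.invSelf (f i)
    have hle : Ideal.span (Set.range fun j : {j : Fin (r + 1) // j ≠ i} =>
        MvPolynomial.C (f i) * MvPolynomial.X j - MvPolynomial.C (f j.1)) ≤ RingHom.ker g := by
      rw [Ideal.span_le]
      rintro _ ⟨j, rfl⟩
      simp only [SetLike.mem_coe, RingHom.mem_ker, g, map_sub, map_mul, MvPolynomial.aeval_C,
        MvPolynomial.aeval_X]
      rw [mul_left_comm, IsLocalization.Away.mul_invSelf, mul_one, sub_self]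
    have h1 := hle (Ideal.Quotient.eq_zero_iff_mem.1 ha : MvPolynomial.C a ∈ _)
    rw [RingHom.mem_ker, MvPolynomial.aeval_C] at h1
    obtain ⟨⟨_, N, rfl⟩, hN⟩ := (IsLocalization.map_eq_zero_iff (Submonoid.powers (f i)) Af a).1 h1
    exact ⟨N, hN⟩
  obtain ⟨e, a, hea⟩ := key y
  obtain ⟨s, gI, hgI⟩ := Submodule.fg_iff_exists_fin_generating_family.1 (hI.pow (n := n))
  have h2 : ∀ j, ∃ N : ℕ, f i ^ N * (gI j • a) = 0 := by
    intro j
    refine hinj _ ?_
    have : ι (gI j • a) = gI j • ι a :=
      (IsScalarTower.toAlgHom R A (AdicRing.chartAlg f i)).toLinearMap.map_smul (gI j) a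
    rw [this, ← hea, ← mul_smul_comm, hy _ (hgI ▸ Submodule.subset_span ⟨j, rfl⟩), mul_zero]
  choose N hN using h2
  have h3 : f i ^ Finset.univ.sup N * a = 0 := by
    refine hT _ n fun b hb => ?_
    rw [← hgI] at hb
    obtain ⟨c, rfl⟩ := (Submodule.mem_span_range_iff_exists_fun R).1 hb
    rw [Finset.sum_smul]
    refine Finset.sum_eq_zero fun j _ => ?_
    have hle : N j ≤ Finset.univ.sup N := Finset.le_sup (Finset.mem_univ j)
    rw [smul_assoc, ← mul_smul_comm, ← Nat.sub_add_cancel hle, pow_add, mul_assoc, hN, mul_zero,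
      smul_zero]
  refine ⟨Finset.univ.sup N + e, ?_⟩
  rw [pow_add, mul_assoc, hea, ← map_pow, ← map_mul, h3, map_zero]

/-- Power torsion of a flat algebra. -/
theorem torsion_flat {A B C : Type u} [CommRing A] [CommRing B] [CommRing C] [Algebra R B]
    [Algebra A B] [Algebra B C] [Algebra R C] [Algebra A C] [IsScalarTower R B C]
    [IsScalarTower A B C] [Module.Flat B C] (hI : I.FG) (a : A) {n : ℕ}
    (h : ∀ y : B, (∀ b ∈ I ^ n, b • y = 0) → ∃ N : ℕ, algebraMap A B a ^ N * y = 0)
    (x : C) (hn : ∀ b ∈ I ^ n, b • x = 0) : ∃ N : ℕ, algebraMap A C a ^ N * x = 0 := by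
  obtain ⟨s, gI, hgI⟩ := Submodule.fg_iff_exists_fin_generating_family.1 (hI.pow (n := n))
  let l : B →ₗ[B] (Fin s → B) := LinearMap.pi fun j => LinearMap.mulLeft B (algebraMap R B (gI j))
  have h2 : ∀ c : C, TensorProduct.piScalarRight B B C (Fin s) (l.lTensor C (c ⊗ₜ[B] (1 : B))) =
      fun j => gI j • c := fun c => funext fun j => by
    simp [l, Algebra.smul_def, ← IsScalarTower.algebraMap_apply R B C]
  have h3 : l.lTensor C (x ⊗ₜ[B] (1 : B)) = 0 := by
    apply (TensorProduct.piScalarRight B B C (Fin s)).injective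
    rw [h2, map_zero]
    funext j
    exact hn (gI j) (hgI ▸ Submodule.subset_span ⟨j, rfl⟩)
  obtain ⟨z, hz⟩ := (Module.Flat.lTensor_exact C (LinearMap.exact_subtype_ker_map l) _).1 h3
  have key : ∀ z : C ⊗[B] LinearMap.ker l, ∃ N : ℕ,
      algebraMap A C a ^ N *
        TensorProduct.rid B C ((LinearMap.ker l).subtype.lTensor C z) = 0 := by
    intro z
    induction z using TensorProduct.induction_on with
    | zero => exact ⟨0, by simp⟩
    | add u v hu hv =>
        obtain ⟨N, hN⟩ := hu
        obtain ⟨N', hN'⟩ := hv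
        refine ⟨N + N', ?_⟩
        rw [map_add, map_add, mul_add, pow_add, mul_right_comm, hN, zero_mul, zero_add, mul_assoc,
          hN', mul_zero]
    | tmul c y =>
        have hy : ∀ b ∈ I ^ n, b • (y : B) = 0 := by
          intro b hb
          rw [← hgI] at hb
          obtain ⟨d, rfl⟩ := (Submodule.mem_span_range_iff_exists_fun R).1 hb
          rw [Finset.sum_smul]
          refine Finset.sum_eq_zero fun j _ => ?_
          have hj : algebraMap R B (gI j) * (y : B) = 0 := congr_fun (LinearMap.mem_ker.1 y.2) j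
          rw [smul_assoc, Algebra.smul_def (gI j), hj, smul_zero]
        obtain ⟨N, hN⟩ := h (y : B) hy
        refine ⟨N, ?_⟩
        rw [LinearMap.lTensor_tmul, TensorProduct.rid_tmul, Submodule.subtype_apply, Algebra.smul_def,
          ← mul_assoc, IsScalarTower.algebraMap_apply A B C, ← map_pow, ← map_mul, hN, map_zero,
          zero_mul]
  obtain ⟨N, hN⟩ := key z
  refine ⟨N, ?_⟩
  rw [hz, TensorProduct.rid_tmul, one_smul] at hN
  exact hN

/-- S11540. -/
theorem torsion_chartCompl (hR : AdicRing.IsBase R I) {A : Type u} [CommRing A] [Algebra R A]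
    (hA : AdicRing.Admissible R I A) {r : ℕ} (f : Fin (r + 1) → A) {k : ℕ}
    (hopen : (I ^ k).map (algebraMap R A) ≤ Ideal.span (Set.range f)) (i : Fin (r + 1))
    (x : AdicRing.chartCompl I f i) :
    (∃ n : ℕ, ∀ a ∈ I ^ n, a • x = 0) ↔
      ∃ n : ℕ, algebraMap A (AdicRing.chartCompl I f i) (f i) ^ n * x = 0 := by
  classical
  let B := AdicRing.chartAlg f i
  let Ĉ := AdicRing.chartCompl I f i
  constructor
  · rintro ⟨n, hn⟩
    obtain ⟨m, φ, hφ, -⟩ := hA.1
    haveI : Algebra.FiniteType A B :=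
      Algebra.FiniteType.of_surjective (Ideal.Quotient.mkₐ A _) Ideal.Quotient.mk_surjective
    haveI : Module.Flat B Ĉ := Completion.flat_completion
      (Completion.good_of_finiteType hR (⟨m, φ, hφ⟩ : AdicRing.TopFiniteType R I A) (B := B))
      ((fg_base hR).map _)
    exact torsion_flat (B := B) (C := Ĉ) (fg_base hR) (f i)
      (fun y hy => torsion_chartAlg (fg_base hR) hA.2 f i y hy) x hn
  · rintro ⟨n, hn⟩
    refine ⟨k * n, fun a ha => ?_⟩
    have h1 : algebraMap R B a ∈ Ideal.span {algebraMap A B (f i)} ^ n := by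
      refine Ideal.pow_right_mono (map_le_span_chart f hopen i) n ?_
      rw [← Ideal.map_pow, ← pow_mul]
      exact Ideal.mem_map_of_mem _ ha
    rw [Ideal.span_singleton_pow, Ideal.mem_span_singleton'] at h1
    obtain ⟨d, hd⟩ := h1
    refine (Algebra.smul_def a x).trans ?_
    rw [IsScalarTower.algebraMap_apply R B Ĉ, ← hd, map_mul, map_pow,
      ← IsScalarTower.algebraMap_apply, mul_assoc, hn, mul_zero]

end Chart

section Generic

variable {R : Type u} [CommRing R] [IsDomain R] [ValuationRing R] [Ring.KrullDimLE 1 R]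
variable {t : R} [IsAdicComplete (Ideal.span {t}) R]

theorem isUnit_generic {A : Type u} [CommRing A] [Algebra R A] {c : R} (hc : c ≠ 0) :
    IsUnit (algebraMap R (A ⊗[R] FractionRing R) c) := by
  rw [IsScalarTower.algebraMap_apply R A (A ⊗[R] FractionRing R)]
  haveI : IsLocalization (Algebra.algebraMapSubmonoid A (nonZeroDivisors R)) (A ⊗[R] FractionRing R) :=
    IsLocalization.tensor (FractionRing R) (nonZeroDivisors R)
  exact IsLocalization.map_units (A ⊗[R] FractionRing R)
    (⟨_, c, mem_nonZeroDivisors_of_ne_zero hc, rfl⟩ :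
      Algebra.algebraMapSubmonoid A (nonZeroDivisors R))

theorem regular_of_ne_zero {A : Type u} [CommRing A] [Algebra R A]
    (hT : AdicRing.NoPowTorsion (Ideal.span {t}) A) {c : R} (hc : c ≠ 0) {a : A}
    (ha : algebraMap R A c * a = 0) : a = 0 := by
  obtain ⟨N, hN⟩ := exists_pow_mem (a := t) Valuation.mem_maximalIdeal hc
  obtain ⟨e, he⟩ := Ideal.mem_span_singleton'.1 hN
  refine hT a N fun b hb => ?_
  rw [Ideal.span_singleton_pow, Ideal.mem_span_singleton'] at hb
  obtain ⟨b, rfl⟩ := hb
  rw [Algebra.smul_def, ← he, map_mul, map_mul, mul_assoc, mul_assoc, ha, mul_zero, mul_zero]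

theorem injective_generic {A : Type u} [CommRing A] [Algebra R A]
    (hT : AdicRing.NoPowTorsion (Ideal.span {t}) A) :
    Function.Injective (algebraMap A (A ⊗[R] FractionRing R)) := by
  haveI : IsLocalization (Algebra.algebraMapSubmonoid A (nonZeroDivisors R)) (A ⊗[R] FractionRing R) :=
    IsLocalization.tensor (FractionRing R) (nonZeroDivisors R)
  refine (injective_iff_map_eq_zero _).2 fun a ha => ?_
  obtain ⟨⟨_, c, hc, rfl⟩, hca⟩ :=
    (IsLocalization.map_eq_zero_iff (Algebra.algebraMapSubmonoid A (nonZeroDivisors R)) _ a).1 ha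
  exact regular_of_ne_zero hT (nonZeroDivisors.ne_zero hc) hca

theorem hasDense_adjoin {A K : Type u} [CommRing A] [CommRing K] [Algebra R A] [Algebra A K]
    [Algebra R K] [IsScalarTower R A K] {I : Ideal R} (hA : Localization.HasDense R I A) {n : ℕ}
    (f : Fin n → K) : Localization.HasDense R I ↥(Algebra.adjoin A (Set.range f)) := by
  classical
  obtain ⟨p, b, hb⟩ := hA
  let A' := Algebra.adjoin A (Set.range f)
  refine ⟨p + n, Fin.append (fun i => algebraMap A A' (b i))
    (fun j => ⟨f j, Algebra.subset_adjoin (Set.mem_range_self j)⟩), fun y => ?_⟩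
  obtain ⟨y, hy⟩ := y
  induction hy using Algebra.adjoin_induction with
  | mem z hz =>
      obtain ⟨j, rfl⟩ := hz
      exact ⟨MvPolynomial.X (Fin.natAdd p j), by simp⟩
  | algebraMap a =>
      obtain ⟨q, hq⟩ := hb a
      refine ⟨MvPolynomial.rename (Fin.castAdd n) q, ?_⟩
      have h := (Localization.map_map_algHom I (IsScalarTower.toAlgHom R A A')).le
        (Ideal.mem_map_of_mem (IsScalarTower.toAlgHom R A A') hq)
      rw [map_sub, MvPolynomial.comp_aeval_apply] at h
      rw [MvPolynomial.aeval_rename]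
      convert! h using 2
      · rw [show (Fin.append (fun i => algebraMap A A' (b i))
            (fun j => (⟨f j, Algebra.subset_adjoin (Set.mem_range_self j)⟩ : A'))) ∘ Fin.castAdd n =
            fun i => algebraMap A A' (b i) from funext fun i => Fin.append_left _ _ i]
        rfl
  | add x z hx hz ihx ihz =>
      obtain ⟨q, hq⟩ := ihx
      obtain ⟨q', hq'⟩ := ihz
      exact ⟨q + q', by rw [map_add]; convert! add_mem hq hq' using 1; exact (add_sub_add_comm (⟨x, hx⟩ : A') ⟨z, hz⟩ _ _)⟩
  | mul x z hx hz ihx ihz =>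
      obtain ⟨q, hq⟩ := ihx
      obtain ⟨q', hq'⟩ := ihz
      refine ⟨q * q', ?_⟩
      rw [map_mul]
      have h2 := add_mem (Ideal.mul_mem_right (⟨z, hz⟩ : A') _ hq)
        (Ideal.mul_mem_left _ (MvPolynomial.aeval (Fin.append (fun i => algebraMap A A' (b i))
          (fun j => (⟨f j, Algebra.subset_adjoin (Set.mem_range_self j)⟩ : A'))) q) hq')
      convert! h2 using 1
      rw [sub_mul, mul_sub, sub_add_sub_cancel]
      rfl

/-- S13352. -/
theorem admissible_adjoin (ht : t ≠ 0) {A : Type u} [CommRing A] [Algebra R A]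
    (hA : AdicRing.Admissible R (Ideal.span {t}) A) {n : ℕ} (f : Fin n → A ⊗[R] FractionRing R)
    (hf : ∀ i, IsIntegral A (f i)) :
    AdicRing.Admissible R (Ideal.span {t}) ↥(Algebra.adjoin A (Set.range f)) ∧
      Module.Finite A ↥(Algebra.adjoin A (Set.range f)) := by
  classical
  have hR := Point.isBase (R := R) ht
  have hI : (Ideal.span {t}).FG := Submodule.fg_span_singleton t
  obtain ⟨m, φ, hφ, -⟩ := hA.1
  have hA' : AdicRing.TopFiniteType R (Ideal.span {t}) A := ⟨m, φ, hφ⟩
  let A' := Algebra.adjoin A (Set.range f)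
  haveI : Module.Finite A A' :=
    Module.Finite.iff_fg.2 (fg_adjoin_of_finite (Set.finite_range f) (by rintro _ ⟨i, rfl⟩; exact hf i))
  haveI : IsAdicComplete (Ideal.span {t}) A' := ArtinRees.isAdicComplete (A := A) hR hA'
  haveI : IsAdicComplete ((Ideal.span {t}).map (algebraMap R A')) A' :=
    (IsAdicComplete.map_algebraMap_iff _ A').2 ‹_›
  have hdense : Localization.HasDense R (Ideal.span {t}) A' :=
    hasDense_adjoin (Localization.hasDense_of_topFiniteType hI hA') f
  have hT : AdicRing.NoPowTorsion (Ideal.span {t}) A' := by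
    intro x k hx
    have h1 : ((t ^ k • x : A') : A ⊗[R] FractionRing R) = 0 := congr_arg Subtype.val
      (hx (t ^ k) (Ideal.pow_mem_pow (Ideal.mem_span_singleton_self t) k))
    have h2 : algebraMap R (A ⊗[R] FractionRing R) (t ^ k) * (x : A ⊗[R] FractionRing R) = 0 :=
      (Algebra.smul_def (t ^ k) (x : A ⊗[R] FractionRing R)).symm.trans h1
    exact Subtype.ext (((isUnit_generic (A := A) (pow_ne_zero k ht)).mul_right_eq_zero).1 h2)
  exact ⟨⟨Basic.topFinitePresentation_of_noPowTorsion hR (Trunc.exists_surjection hI hdense) hT, hT⟩, ‹_›⟩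

/-- S13353. -/
theorem existsUnique_extension (ht : t ≠ 0) {A : Type u} [CommRing A] [Algebra R A]
    (hA : AdicRing.Admissible R (Ideal.span {t}) A) {n : ℕ} (f : Fin n → A ⊗[R] FractionRing R)
    (hf : ∀ i, IsIntegral A (f i)) {c : R} (hc : c ≠ 0) (g : Fin n → A)
    (hg : ∀ i, algebraMap A (A ⊗[R] FractionRing R) (g i) = c • f i)
    {D : Type u} [CommRing D] [Algebra R D] (hD : AdicRing.Admissible R (Ideal.span {t}) D)
    (φ : A →ₐ[R] D)
    (hgen : (Ideal.span (insert (algebraMap R A c) (Set.range g))).map φ =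
          Ideal.span {algebraMap R D c} ∨
      ∃ i, (Ideal.span (insert (algebraMap R A c) (Set.range g))).map φ = Ideal.span {φ (g i)}) :
    (Ideal.span (insert (algebraMap R A c) (Set.range g))).map φ = Ideal.span {algebraMap R D c} ∧
      ∃! ψ : ↥(Algebra.adjoin A (Set.range f)) →ₐ[R] D,
        ψ.comp (IsScalarTower.toAlgHom R A ↥(Algebra.adjoin A (Set.range f))) = φ := by
  classical
  have hsm : ∀ x : A ⊗[R] FractionRing R, c • x = algebraMap R (A ⊗[R] FractionRing R) c * x :=
    fun x => Algebra.smul_def c x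
  set a : Ideal A := Ideal.span (insert (algebraMap R A c) (Set.range g)) with hadef
  have hmem : ∀ j, g j ∈ a := fun j => Ideal.subset_span (Set.mem_insert_of_mem _ ⟨j, rfl⟩)
  have hcD : ∀ d : D, algebraMap R D c * d = 0 → d = 0 := fun d hd => regular_of_ne_zero hD.2 hc hd
  have h1 : a.map φ = Ideal.span {algebraMap R D c} := by
    rcases hgen with h | ⟨i, h⟩
    · exact h
    obtain ⟨d, hd⟩ : ∃ d, d * φ (g i) = algebraMap R D c := by
      rw [← Ideal.mem_span_singleton', ← h, ← φ.commutes c]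
      exact Ideal.mem_map_of_mem φ (Ideal.subset_span (Set.mem_insert _ _))
    -- the integral equation of `g i`
    obtain ⟨p, hp, hp0⟩ := hf i
    have hq : Polynomial.eval (g i) (p.scaleRoots (algebraMap R A c)) = 0 := by
      refine injective_generic hA.2 ?_
      rw [map_zero, ← Polynomial.eval₂_at_apply, hg, hsm,
        IsScalarTower.algebraMap_apply R A (A ⊗[R] FractionRing R)]
      exact Polynomial.scaleRoots_eval₂_eq_zero _ hp0
    have hG : ∀ y : D, φ (g i) * y = 0 → y = 0 := fun y hy => hcD y (by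
      rw [← hd, mul_assoc, hy, mul_zero])
    set m := p.natDegree with hm
    have hq' := congr_arg φ hq
    have hh : φ.toRingHom ((p.scaleRoots (algebraMap R A c)).eval₂ (RingHom.id A) (g i)) = _ :=
      Polynomial.hom_eval₂ _ _ _ _
    rw [map_zero] at hq'
    replace hq' : (p.scaleRoots (algebraMap R A c)).eval₂ (φ.toRingHom.comp (RingHom.id A)) (φ (g i)) = 0 :=
      hh.symm.trans hq'
    rw [Polynomial.eval₂_eq_sum_range, Polynomial.natDegree_scaleRoots] at hq'
    have hfac : φ (g i) ^ m * (1 + d * ∑ j ∈ Finset.range m,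
        φ (p.coeff j) * d ^ (m - j - 1)) = 0 := by
      refine Eq.trans ?_ hq'
      rw [Finset.sum_range_succ, Polynomial.coeff_scaleRoots, hm, Nat.sub_self, pow_zero, mul_one,
        Polynomial.coeff_natDegree, hp.leadingCoeff, map_one, one_mul, add_comm _ (_ ^ _), mul_add,
        mul_one, ← hm, Finset.mul_sum, Finset.mul_sum]
      congr 1
      refine Finset.sum_congr rfl fun j hj => ?_
      have hj' := Finset.mem_range.1 hj
      simp only [RingHom.comp_id, AlgHom.toRingHom_eq_coe, RingHom.coe_coe, Polynomial.coeff_scaleRoots,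
        map_mul, map_pow, φ.commutes, ← hd, ← hm, mul_pow]
      obtain ⟨s, hs⟩ : ∃ s, m = j + (s + 1) := ⟨m - j - 1, by omega⟩
      rw [hs, show j + (s + 1) - j - 1 = s by omega, show j + (s + 1) - j = s + 1 by omega, pow_add,
        pow_succ]
      ring
    have hunit : IsUnit d := by
      have hpow : ∀ (k : ℕ) (y : D), φ (g i) ^ k * y = 0 → y = 0 := by
        intro k
        induction k with
        | zero => simp
        | succ k ih => intro y hy; rw [pow_succ', mul_assoc] at hy; exact ih y (hG _ hy)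
      have h0 := hpow _ _ hfac
      refine IsUnit.of_mul_eq_one (-∑ j ∈ Finset.range m, φ (p.coeff j) * d ^ (m - j - 1)) ?_
      linear_combination -h0
    rw [h, ← hd, Ideal.span_singleton_mul_left_unit hunit]
  refine ⟨h1, ?_⟩
  have hdj : ∀ j, ∃ d, d * algebraMap R D c = φ (g j) := fun j =>
    Ideal.mem_span_singleton'.1 (h1 ▸ Ideal.mem_map_of_mem φ (hmem j))
  choose d hd using hdj
  let Ψ : A ⊗[R] FractionRing R →ₐ[R] D ⊗[R] FractionRing R :=
    Algebra.TensorProduct.map φ (AlgHom.id R (FractionRing R))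
  let jD : D →ₐ[R] D ⊗[R] FractionRing R := Algebra.TensorProduct.includeLeft
  have hjinj : Function.Injective jD := injective_generic hD.2
  have hjA : ∀ x, Ψ (algebraMap A _ x) = jD (φ x) := fun x => rfl
  have hsub : ∀ x : Algebra.adjoin A (Set.range f), ∃ y, jD y = Ψ x := by
    rintro ⟨x, hx⟩
    induction hx using Algebra.adjoin_induction with
    | mem z hz =>
        obtain ⟨j, rfl⟩ := hz
        refine ⟨d j, (isUnit_generic (A := D) hc).mul_left_cancel ?_⟩
        rw [← jD.commutes, ← map_mul, mul_comm, hd, ← hjA, hg, hsm, map_mul Ψ, jD.commutes, Ψ.commutes]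
    | algebraMap a => exact ⟨φ a, (hjA a).symm⟩
    | add x y _ _ ihx ihy =>
        obtain ⟨u, hu⟩ := ihx
        obtain ⟨v, hv⟩ := ihy
        exact ⟨u + v, by rw [map_add jD, hu, hv, ← map_add Ψ]⟩
    | mul x y _ _ ihx ihy =>
        obtain ⟨u, hu⟩ := ihx
        obtain ⟨v, hv⟩ := ihy
        exact ⟨u * v, by rw [map_mul jD, hu, hv, ← map_mul Ψ]⟩
  choose ψ hψ using hsub
  let ψ' : ↥(Algebra.adjoin A (Set.range f)) →ₐ[R] D :=
    { toFun := ψ
      map_one' := hjinj (by rw [hψ, map_one jD, OneMemClass.coe_one, map_one Ψ])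
      map_mul' := fun x y => hjinj (by rw [hψ, map_mul jD, hψ, hψ, MulMemClass.coe_mul, map_mul Ψ])
      map_zero' := hjinj (by rw [hψ, map_zero jD, ZeroMemClass.coe_zero, map_zero Ψ])
      map_add' := fun x y => hjinj (by rw [hψ, map_add jD, hψ, hψ, AddMemClass.coe_add, map_add Ψ])
      commutes' := fun r => hjinj (by
        rw [hψ, jD.commutes]
        exact Ψ.commutes r) }
  refine ⟨ψ', AlgHom.ext fun x => hjinj ((hψ _).trans (hjA x)), fun χ hχ => AlgHom.ext fun x => ?_⟩
  obtain ⟨x, hx⟩ := x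
  induction hx using Algebra.adjoin_induction with
  | mem z hz =>
      obtain ⟨j, rfl⟩ := hz
      let F : ↥(Algebra.adjoin A (Set.range f)) := ⟨f j, Algebra.subset_adjoin (Set.mem_range_self j)⟩
      have hF : algebraMap R _ c * F = algebraMap A _ (g j) := Subtype.ext (by
        rw [MulMemClass.coe_mul]
        change algebraMap R (A ⊗[R] FractionRing R) c * f j = algebraMap A _ (g j)
        rw [hg, hsm])
      have e : ∀ θ : ↥(Algebra.adjoin A (Set.range f)) →ₐ[R] D,
          θ.comp (IsScalarTower.toAlgHom R A _) = φ → algebraMap R D c * θ F = φ (g j) := fun θ hθ => by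
        rw [← θ.commutes, ← map_mul, hF, ← hθ]; rfl
      refine sub_eq_zero.1 (hcD _ ?_)
      rw [mul_sub, e χ hχ, e ψ' (AlgHom.ext fun x => hjinj ((hψ _).trans (hjA x))), sub_self]
  | algebraMap a =>
      refine (DFunLike.congr_fun hχ a).trans ?_
      exact (hjinj ((hψ _).trans (hjA a))).symm
  | add x y hx' hy' ihx ihy =>
      rw [show (⟨x + y, _⟩ : ↥(Algebra.adjoin A (Set.range f))) = ⟨x, hx'⟩ + ⟨y, hy'⟩ from rfl,
        map_add, map_add, ihx, ihy]
  | mul x y hx' hy' ihx ihy =>
      rw [show (⟨x * y, _⟩ : ↥(Algebra.adjoin A (Set.range f))) = ⟨x, hx'⟩ * ⟨y, hy'⟩ from rfl,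
        map_mul, map_mul, ihx, ihy]

end Generic

end Groth.Agent.Lib.Adic.Bosch.Blow
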