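import Groth.Agent.Lib.Adic.Bosch.Ideal
import Groth.Agent.Lib.Adic.Complete
import Mathlib.RingTheory.Polynomial.Quotient
import Mathlib.RingTheory.AdjoinRoot
import Mathlib.RingTheory.IntegralClosure.IntegrallyClosed
import Mathlib.RingTheory.Norm.Basic
import Mathlib.FieldTheory.Minpoly.IsIntegrallyClosed

/-! Algebraic extensions of complete height-one valued fields: integrality. -/

set_option autoImplicit false
set_option linter.unusedSectionVars false
set_option linter.style.haveILetI false

universe u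

namespace Groth.Agent.Lib.Adic.Bosch.Extension

open Polynomial Groth.Agent.Lib.Adic.Bosch.IdealFG

variable {R : Type u} [CommRing R] [IsDomain R] [ValuationRing R] [Ring.KrullDimLE 1 R]
variable {t : R} [IsAdicComplete (Ideal.span {t}) R]

/-- A polynomial congruent to `0` modulo the maximal ideal has a power divisible by `t`. -/
theorem exists_pow_dvd (ht : t ≠ 0) {h : R[X]} (hh : ∀ i, h.coeff i ∈ IsLocalRing.maximalIdeal R) :
    ∃ N : ℕ, C t ∣ h ^ N := by
  classical
  obtain ⟨δ, hδ, hdvd⟩ := exists_dvd_all (s := insert t (h.support.image h.coeff))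
    (Finset.insert_nonempty _ _)
  have hδm : δ ∈ IsLocalRing.maximalIdeal R := by
    rcases Finset.mem_insert.1 hδ with rfl | h'
    · exact Valuation.mem_maximalIdeal
    · obtain ⟨i, -, rfl⟩ := Finset.mem_image.1 h'
      exact hh i
  obtain ⟨N, hN⟩ := exists_pow_mem hδm ht
  refine ⟨N, ?_⟩
  have hC : C δ ∣ h := C_dvd_iff_dvd_coeff δ h |>.2 fun i => by
    by_cases hi : i ∈ h.support
    · exact hdvd _ (Finset.mem_insert_of_mem (Finset.mem_image_of_mem _ hi))
    · rw [notMem_support_iff.1 hi]; exact dvd_zero _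
  refine dvd_trans ?_ (pow_dvd_pow_of_dvd hC N)
  rw [← C_pow]
  exact map_dvd C (Ideal.mem_span_singleton.1 hN)

variable {L : Type u} [Field L] [Algebra R L] [Algebra (FractionRing R) L]
  [IsScalarTower R (FractionRing R) L]

/-- If a scalar multiple of the minimal polynomial is integral and has a unit coefficient in
positive degree, the element is integral. -/
theorem isIntegral_of_isUnit_coeff (ht : t ≠ 0) {x : L} (hx : IsIntegral (FractionRing R) x)
    {g : R[X]} {c : FractionRing R} (hc : c ≠ 0)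
    (hg : g.map (algebraMap R (FractionRing R)) = C c * minpoly (FractionRing R) x)
    {r : ℕ} (hr : 1 ≤ r) (hu : IsUnit (g.coeff r)) : IsIntegral R x := by
  classical
  -- choose `r` maximal
  have hne : (g.support.filter fun i => IsUnit (g.coeff i)).Nonempty :=
    ⟨r, Finset.mem_filter.2 ⟨mem_support_iff.2 hu.ne_zero, hu⟩⟩
  obtain ⟨s, hs, hmax⟩ := Finset.exists_max_image _ id hne
  have hs1 : 1 ≤ s := hr.trans (hmax r (Finset.mem_filter.2 ⟨mem_support_iff.2 hu.ne_zero, hu⟩))
  have hsu : IsUnit (g.coeff s) := (Finset.mem_filter.1 hs).2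
  have hhigh : ∀ i, s < i → g.coeff i ∈ IsLocalRing.maximalIdeal R := fun i hi => by
    by_contra h
    have hiu := IsLocalRing.notMem_maximalIdeal.1 h
    exact absurd (hmax i (Finset.mem_filter.2 ⟨mem_support_iff.2 hiu.ne_zero, hiu⟩)) (not_le.2 hi)
  obtain ⟨v, hv⟩ := hsu
  let low : R[X] := ∑ i ∈ Finset.range s, monomial i (((v⁻¹ : Rˣ) : R) * g.coeff i)
  have hlowdeg : low.degree < (s : WithBot ℕ) := by
    refine (degree_sum_le _ _).trans_lt ((Finset.sup_lt_iff (WithBot.bot_lt_coe _)).2 fun i hi => ?_)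
    exact (degree_monomial_le _ _).trans_lt (WithBot.coe_lt_coe.2 (Finset.mem_range.1 hi))
  have hf₀ : (X ^ s + low).Monic := monic_X_pow_add hlowdeg
  have hdiff : ∀ i, (C (v : R) * (X ^ s + low) - g).coeff i ∈ IsLocalRing.maximalIdeal R := by
    intro i
    have hlc : low.coeff i = if i < s then ((v⁻¹ : Rˣ) : R) * g.coeff i else 0 := by
      simp [low, finset_sum_coeff, coeff_monomial]
    rw [coeff_sub, coeff_C_mul, coeff_add, coeff_X_pow, hlc]
    rcases lt_trichotomy i s with h | rfl | h
    · rw [if_neg h.ne, if_pos h, zero_add, Units.mul_inv_cancel_left, sub_self]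
      exact zero_mem _
    · rw [if_pos rfl, if_neg (lt_irrefl _), add_zero, mul_one, hv, sub_self]
      exact zero_mem _
    · rw [if_neg h.ne', if_neg h.not_gt, add_zero, mul_zero, zero_sub, neg_mem_iff]
      exact hhigh i h
  obtain ⟨N, q, hq⟩ := exists_pow_dvd ht hdiff
  -- the completed algebra
  let Cg := R[X] ⧸ Ideal.span {g}
  let J : Ideal Cg := (Ideal.span {t}).map (algebraMap R Cg)
  have hJ : J = Ideal.span {algebraMap R Cg t} := by
    simp only [J, Ideal.map_span, Set.image_singleton]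
  let Ĉ := AdicCompletion J Cg
  let ι : R[X] →ₐ[R] Ĉ := (IsScalarTower.toAlgHom R Cg Ĉ).comp (Ideal.Quotient.mkₐ R _)
  have hg0 : ι g = 0 := by
    have : Ideal.Quotient.mkₐ R (Ideal.span {g}) g = 0 :=
      Ideal.Quotient.eq_zero_iff_mem.2 (Ideal.mem_span_singleton_self g)
    change IsScalarTower.toAlgHom R Cg Ĉ (Ideal.Quotient.mkₐ R (Ideal.span {g}) g) = 0
    rw [this, map_zero]
  have hgreg : ∀ y : Cg, algebraMap R Cg t * y = 0 → y = 0 := by
    intro y hy
    obtain ⟨p, rfl⟩ := Ideal.Quotient.mk_surjective y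
    rw [← Ideal.Quotient.mk_algebraMap, ← map_mul, Ideal.Quotient.eq_zero_iff_mem,
      Ideal.mem_span_singleton'] at hy
    obtain ⟨w, hw⟩ := hy
    rw [Ideal.Quotient.eq_zero_iff_mem, Ideal.mem_span_singleton']
    have hw0 : w.map (Ideal.Quotient.mk (Ideal.span {t})) = 0 := by
      have h1 := congr_arg (Polynomial.map (Ideal.Quotient.mk (Ideal.span {t}))) hw
      rw [Polynomial.map_mul, Polynomial.map_mul, algebraMap_eq, Polynomial.map_C,
        Ideal.Quotient.eq_zero_iff_mem.2 (Ideal.mem_span_singleton_self t), C_0, zero_mul] at h1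
      by_contra hne
      have hgz := (Polynomial.notMem_nonZeroDivisors_iff).1
        (fun hmem => hne ((mem_nonZeroDivisors_iff_right.1 hmem) _ h1))
      obtain ⟨a, ha, hag⟩ := hgz
      refine ha ?_
      have := congr_arg (fun p => coeff p s) hag
      simp only [coeff_smul, coeff_map, coeff_zero, smul_eq_mul] at this
      exact ((hv ▸ v.isUnit).map (Ideal.Quotient.mk (Ideal.span {t}))).mul_left_eq_zero.1 this
    have hdvd : C t ∣ w := (C_dvd_iff_dvd_coeff t w).2 fun i => by
      have := congr_arg (coeff · i) hw0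
      simp only [coeff_map, coeff_zero] at this
      exact Ideal.mem_span_singleton.1 (Ideal.Quotient.eq_zero_iff_mem.1 this)
    obtain ⟨w', rfl⟩ := hdvd
    refine ⟨w', mul_left_cancel₀ (C_ne_zero.2 ht) ?_⟩
    rw [algebraMap_eq] at hw
    rw [← mul_assoc, hw]
  have htf : ∀ y : Ĉ, t • y = 0 → y = 0 := fun y hy => by
    refine Valuation.completion_torsionFree (s := algebraMap R Cg t) ?_ hJ y (by rwa [algebraMap_smul])
    intro a b hab
    refine sub_eq_zero.1 (hgreg _ ?_)
    rw [mul_sub, sub_eq_zero, mul_comm, mul_comm _ b]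
    exact hab
  have hfgJ : (Ideal.span {t}).FG := Submodule.fg_span_singleton t
  haveI : IsAdicComplete J Ĉ := AdicCompletion.isAdicComplete (Ideal.FG.map hfgJ _)
  haveI : IsAdicComplete (Ideal.span {t}) Ĉ :=
    (IsAdicComplete.map_algebraMap_iff (S := Cg) _ Ĉ).1 ‹_›
  let f := (X ^ s + low) ^ N
  have hf : f.Monic := hf₀.pow N
  haveI : Module.Finite R (R[X] ⧸ Ideal.span {f}) := hf.finite_quotient
  have hfJ : ι f ∈ (Ideal.span {t}).map (algebraMap R Ĉ) := by
    have h1 : ι (C (v : R) * (X ^ s + low) - g) ^ N = algebraMap R Ĉ t * ι q := by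
      rw [← map_pow, hq, map_mul, ← algebraMap_eq, AlgHom.commutes]
    rw [map_sub, hg0, sub_zero, map_mul, mul_pow, ← algebraMap_eq, AlgHom.commutes] at h1
    have h2 : ι f = ((algebraMap R Ĉ) ((v⁻¹ : Rˣ) : R)) ^ N * (algebraMap R Ĉ t * ι q) := by
      rw [← h1, ← mul_assoc, ← mul_pow, ← map_mul, Units.inv_mul, map_one, one_pow, one_mul]
      simp [f]
    rw [h2]
    exact Ideal.mul_mem_left _ _ (Ideal.mul_mem_right _ _
      (Ideal.mem_map_of_mem _ (Ideal.mem_span_singleton_self t)))
  haveI : Module.Finite R (Ĉ ⧸ (Ideal.span {t} • ⊤ : Submodule R Ĉ)) := by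
    let q₁ : R[X] →ₗ[R] Ĉ ⧸ (Ideal.span {t} • ⊤ : Submodule R Ĉ) :=
      (Submodule.mkQ _).comp ι.toLinearMap
    have hker : (Ideal.span {f}).restrictScalars R ≤ LinearMap.ker q₁ := by
      intro p hp
      obtain ⟨a, rfl⟩ := Ideal.mem_span_singleton'.1 hp
      rw [LinearMap.mem_ker, LinearMap.comp_apply, Submodule.mkQ_apply, Submodule.Quotient.mk_eq_zero,
        Ideal.smul_top_eq_map, Submodule.restrictScalars_mem, AlgHom.toLinearMap_apply, map_mul]
      exact Ideal.mul_mem_left _ _ hfJ
    refine Module.Finite.of_surjective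
      ((Submodule.liftQ ((Ideal.span {f}).restrictScalars R) q₁ hker).comp
        (Submodule.Quotient.restrictScalarsEquiv R (Ideal.span {f})).symm.toLinearMap) fun y => ?_
    obtain ⟨y, rfl⟩ := Submodule.mkQ_surjective _ y
    obtain ⟨c', hc'⟩ := Lift.exists_of_sub_mem (R := R) (I := Ideal.span {t}) hfgJ (C := Cg) y 1
    obtain ⟨p, rfl⟩ := Ideal.Quotient.mk_surjective c'
    refine ⟨Submodule.Quotient.mk p, ?_⟩
    rw [pow_one] at hc'
    change Submodule.Quotient.mk (ι p) = Submodule.Quotient.mk y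
    rw [Submodule.Quotient.eq, ← neg_mem_iff, neg_sub, Ideal.smul_top_eq_map]
    exact hc'
  haveI : Module.Finite R Ĉ := Complete.finite_of_finite_quotient (I := Ideal.span {t}) ‹_›
  obtain ⟨h, hh, hh0⟩ := Algebra.IsIntegral.isIntegral (R := R) (ι X)
  refine ⟨h, hh, ?_⟩
  by_contra hhx
  have hh0' : ι h = 0 := by
    rw [← hh0, ← aeval_def, aeval_algHom_apply, aeval_X_left_apply]
  -- Bezout in `K[X]`
  have hcop : IsCoprime (h.map (algebraMap R (FractionRing R))) (minpoly (FractionRing R) x) := by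
    refine ((minpoly.irreducible hx).coprime_iff_not_dvd.2 fun hd => hhx ?_).symm
    obtain ⟨w, hw⟩ := hd
    have := congr_arg (aeval x) hw
    rw [aeval_map_algebraMap, map_mul, minpoly.aeval, zero_mul] at this
    rwa [← aeval_def]
  obtain ⟨a, b, hab⟩ := hcop
  obtain ⟨da, hdam, hda⟩ := IsLocalization.integerNormalization_spec (nonZeroDivisors R) a
  obtain ⟨db, hdbm, hdb⟩ := IsLocalization.integerNormalization_spec (nonZeroDivisors R) (b * C c⁻¹)
  set a' := IsLocalization.integerNormalization (nonZeroDivisors R) a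
  set b' := IsLocalization.integerNormalization (nonZeroDivisors R) (b * C c⁻¹)
  have key : C (db : R) * (a' * h) + C (da : R) * (b' * g) = C ((da : R) * (db : R)) := by
    apply Polynomial.map_injective _ (IsFractionRing.injective R (FractionRing R))
    simp only [Polynomial.map_add, Polynomial.map_mul, Polynomial.map_C, hda, hdb, hg,
      Algebra.smul_def, ← IsScalarTower.algebraMap_apply, map_mul]
    rw [IsScalarTower.algebraMap_apply R (FractionRing R) (FractionRing R)[X], algebraMap_eq,
      IsScalarTower.algebraMap_apply R (FractionRing R) (FractionRing R)[X], algebraMap_eq]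
    have hcc : C c⁻¹ * C c = (1 : (FractionRing R)[X]) := by rw [← C_mul, inv_mul_cancel₀ hc, C_1]
    linear_combination (C (algebraMap R (FractionRing R) (da : R)) *
      C (algebraMap R (FractionRing R) (db : R))) * hab +
      (C (algebraMap R (FractionRing R) (da : R)) * C (algebraMap R (FractionRing R) (db : R)) * b *
        minpoly (FractionRing R) x) * hcc
  have h1 := congr_arg ι key
  rw [map_add, map_mul, map_mul, map_mul, map_mul, hh0', hg0, mul_zero, mul_zero, mul_zero, mul_zero,
    add_zero, ← algebraMap_eq, AlgHom.commutes] at h1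
  have hne : (da : R) * (db : R) ≠ 0 :=
    mul_ne_zero (nonZeroDivisors.ne_zero hdam) (nonZeroDivisors.ne_zero hdbm)
  obtain ⟨k, hk⟩ := exists_pow_mem (a := t) Valuation.mem_maximalIdeal hne
  obtain ⟨d, hd⟩ := Ideal.mem_span_singleton'.1 hk
  have hone : ∀ j : ℕ, t ^ j • (1 : Ĉ) = 0 → (1 : Ĉ) = 0 := by
    intro j
    induction j with
    | zero => simp
    | succ j ih => intro hj; rw [pow_succ', mul_smul] at hj; exact ih (htf _ hj)
  have h10 : (1 : Ĉ) = 0 := hone k (by
    rw [← hd, Algebra.smul_def, mul_one, map_mul, ← h1, mul_zero])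
  -- but the completion is nontrivial
  have hev := congr_arg (AdicCompletion.evalₐ J 1) h10
  rw [map_one, map_zero, eq_comm, ← map_zero (Ideal.Quotient.mk (J ^ 1)), ← map_one (Ideal.Quotient.mk (J ^ 1)),
    Ideal.Quotient.eq, Submodule.pow_one, zero_sub, neg_mem_iff, hJ, Ideal.mem_span_singleton'] at hev
  obtain ⟨w, hw⟩ := hev
  obtain ⟨w, rfl⟩ := Ideal.Quotient.mk_surjective w
  rw [← Ideal.Quotient.mk_algebraMap, ← map_mul, ← map_one (Ideal.Quotient.mk (Ideal.span {g})),
    Ideal.Quotient.eq, Ideal.mem_span_singleton'] at hw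
  obtain ⟨z, hz⟩ := hw
  have hm := congr_arg (Polynomial.map (IsLocalRing.residue R)) hz
  rw [Polynomial.map_sub, Polynomial.map_mul, Polynomial.map_mul, algebraMap_eq, Polynomial.map_C,
    (IsLocalRing.residue_eq_zero_iff t).2 Valuation.mem_maximalIdeal, C_0, mul_zero, zero_sub,
    Polynomial.map_one] at hm
  have hunit : IsUnit (g.map (IsLocalRing.residue R)) :=
    isUnit_iff_exists_inv'.2 ⟨-(z.map (IsLocalRing.residue R)), by rw [neg_mul, hm, neg_neg]⟩
  have hdeg := Polynomial.natDegree_eq_zero_of_isUnit hunit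
  have : (g.map (IsLocalRing.residue R)).coeff s ≠ 0 := by
    rw [coeff_map, ← hv]
    exact (v.isUnit.map _).ne_zero
  exact absurd (le_natDegree_of_ne_zero this) (by omega)

/-- Scaling a polynomial over the fraction field to one with a unit coefficient. -/
theorem exists_primitive {p : (FractionRing R)[X]} (hp : p ≠ 0) :
    ∃ (g : R[X]) (c : FractionRing R) (r : ℕ), c ≠ 0 ∧
      g.map (algebraMap R (FractionRing R)) = C c * p ∧ IsUnit (g.coeff r) := by
  classical
  obtain ⟨d, hdm, hd⟩ := IsLocalization.integerNormalization_spec (nonZeroDivisors R) p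
  set g₀ := IsLocalization.integerNormalization (nonZeroDivisors R) p
  have hg₀ : g₀.map (algebraMap R (FractionRing R)) = C (algebraMap R (FractionRing R) d) * p := by
    rw [hd, Algebra.smul_def, IsScalarTower.algebraMap_apply R (FractionRing R) (FractionRing R)[X],
      algebraMap_eq]
  have hd0 : algebraMap R (FractionRing R) d ≠ 0 :=
    (map_ne_zero_iff _ (IsFractionRing.injective R _)).2 (nonZeroDivisors.ne_zero hdm)
  have hg0 : g₀ ≠ 0 := fun h => by
    rw [h, Polynomial.map_zero, eq_comm, mul_eq_zero, C_eq_zero] at hg₀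
    exact hg₀.elim hd0 hp
  obtain ⟨a, ha, hdvd⟩ := exists_dvd_all (s := g₀.support.image g₀.coeff)
    ((Finset.nonempty_iff_ne_empty.2 (mt support_eq_empty.1 hg0)).image _)
  obtain ⟨r, hr, rfl⟩ := Finset.mem_image.1 ha
  obtain ⟨g, hg⟩ := (C_dvd_iff_dvd_coeff (g₀.coeff r) g₀).2 fun i => by
    by_cases hi : i ∈ g₀.support
    · exact hdvd _ (Finset.mem_image_of_mem _ hi)
    · rw [notMem_support_iff.1 hi]; exact dvd_zero _
  have hr0 : g₀.coeff r ≠ 0 := mem_support_iff.1 hr
  have hg1 : g.coeff r = 1 := by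
    have := congr_arg (coeff · r) hg
    simp only [coeff_C_mul] at this
    exact mul_left_cancel₀ hr0 (this.symm.trans (mul_one _).symm)
  have hr0' : algebraMap R (FractionRing R) (g₀.coeff r) ≠ 0 :=
    (map_ne_zero_iff _ (IsFractionRing.injective R _)).2 hr0
  refine ⟨g, (algebraMap R (FractionRing R) (g₀.coeff r))⁻¹ * algebraMap R (FractionRing R) d, r,
    mul_ne_zero (inv_ne_zero hr0') hd0, ?_, hg1 ▸ isUnit_one⟩
  rw [C_mul, mul_assoc, ← hg₀]
  have hmap := congr_arg (Polynomial.map (algebraMap R (FractionRing R))) hg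
  rw [Polynomial.map_mul, Polynomial.map_C] at hmap
  rw [hmap, ← mul_assoc, ← C_mul, inv_mul_cancel₀ hr0', C_1, one_mul]

/-- `x` or `x⁻¹` is integral. -/
theorem isIntegral_or_inv (ht : t ≠ 0) {x : L} (hx : IsIntegral (FractionRing R) x) :
    IsIntegral R x ∨ IsIntegral R x⁻¹ := by
  classical
  obtain ⟨g, c, r, hc, hg, hu⟩ := exists_primitive (R := R) (minpoly.ne_zero hx)
  by_cases h0 : ∃ r', 1 ≤ r' ∧ IsUnit (g.coeff r')
  · obtain ⟨r', hr', hu'⟩ := h0
    exact Or.inl (isIntegral_of_isUnit_coeff ht hx hc hg hr' hu')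
  · have hr : r = 0 := by
      by_contra hr
      exact h0 ⟨r, Nat.one_le_iff_ne_zero.2 hr, hu⟩
    subst hr
    by_cases hx0 : x = 0
    · left; rw [hx0]; exact isIntegral_zero
    right
    have hgx : aeval x g = 0 := by
      rw [← aeval_map_algebraMap (FractionRing R), hg, map_mul, minpoly.aeval, mul_zero]
    refine ⟨C (↑(hu.unit⁻¹) : R) * g.reverse, ?_, ?_⟩
    · refine monic_C_mul_of_mul_leadingCoeff_eq_one ?_
      rw [reverse_leadingCoeff, trailingCoeff, natTrailingDegree_eq_zero.2 (Or.inr hu.ne_zero)]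
      exact hu.val_inv_mul
    · letI : Invertible x := invertibleOfNonzero hx0
      rw [eval₂_mul, ← invOf_eq_inv, (eval₂_reverse_eq_zero_iff _ x g).2 (by rwa [← aeval_def]), mul_zero]

/-- The integral closure in an algebraic extension is a valuation ring. -/
theorem preValuationRing_integralClosure (ht : t ≠ 0) [Algebra.IsAlgebraic (FractionRing R) L] :
    PreValuationRing (integralClosure R L) := by
  refine ⟨fun a b => ?_⟩
  by_cases hb : b = 0
  · exact ⟨0, Or.inl (by rw [hb, mul_zero])⟩
  have hb' : (b : L) ≠ 0 := fun h => hb (Subtype.ext h)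
  by_cases ha : a = 0
  · exact ⟨0, Or.inr (by rw [ha, mul_zero])⟩
  have ha' : (a : L) ≠ 0 := fun h => ha (Subtype.ext h)
  rcases isIntegral_or_inv (R := R) ht (Algebra.IsIntegral.isIntegral (R := FractionRing R) ((a : L) / b)) with h | h
  · exact ⟨⟨_, h⟩, Or.inr (Subtype.ext (by simp [mul_div_cancel₀ _ hb']))⟩
  · refine ⟨⟨_, h⟩, Or.inl (Subtype.ext ?_)⟩
    simp [mul_div_cancel₀ _ ha']

/-- An element is integral iff the norm is. -/
theorem isIntegral_of_coeff_zero (ht : t ≠ 0) {x : L} (hx : IsIntegral (FractionRing R) x) {a : R}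
    (ha : algebraMap R (FractionRing R) a = (minpoly (FractionRing R) x).coeff 0) : IsIntegral R x := by
  classical
  obtain ⟨g, c, r, hc, hg, hu⟩ := exists_primitive (R := R) (minpoly.ne_zero hx)
  have hn := minpoly.natDegree_pos hx
  by_cases h0 : ∃ r', 1 ≤ r' ∧ IsUnit (g.coeff r')
  · obtain ⟨r', hr', hu'⟩ := h0
    exact isIntegral_of_isUnit_coeff ht hx hc hg hr' hu'
  · exfalso
    have hr : r = 0 := by
      by_contra hr
      exact h0 ⟨r, Nat.one_le_iff_ne_zero.2 hr, hu⟩
    subst hr
    set n := (minpoly (FractionRing R) x).natDegree with hndef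
    have h1 := congr_arg (coeff · n) hg
    simp only [coeff_map, coeff_C_mul, hndef, coeff_natDegree, (minpoly.monic hx).leadingCoeff, mul_one] at h1
    have h2 := congr_arg (coeff · 0) hg
    simp only [coeff_map, coeff_C_mul, ← ha, ← h1, ← map_mul] at h2
    have h3 := IsFractionRing.injective R (FractionRing R) h2
    exact h0 ⟨n, hn, isUnit_of_mul_isUnit_left (h3 ▸ hu)⟩

end Groth.Agent.Lib.Adic.Bosch.Extension
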