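import Groth.Agent.Lib.Adic.Bosch.ArtinRees
import Mathlib.RingTheory.Flat.Tensor
import Mathlib.RingTheory.Flat.FaithfullyFlat.Basic
import Mathlib.RingTheory.Flat.Stability
import Mathlib.RingTheory.TensorProduct.Finite

/-! The flatness criterion by truncations. -/

set_option autoImplicit false
set_option linter.unusedSectionVars false
set_option linter.style.haveILetI false

universe u

open scoped TensorProduct

namespace Groth.Agent.Lib.Adic.Bosch.Flat

open Groth.Agent.Lib.Adic.Bosch.Basic Groth.Agent.Lib.Adic.Bosch.ArtinRees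

variable {A : Type u} [CommRing A]

/-- If `Q ⊗ M` is flat over a quotient `Q` of `A`, kernel elements of `M ⊗ J → M ⊗ A` come from
`M ⊗ (J ∩ 𝔮)`. -/
theorem mem_range_of_flat_quotient {M : Type u} [AddCommGroup M] [Module A M] (𝔮 : Ideal A)
    [Module.Flat (A ⧸ 𝔮) ((A ⧸ 𝔮) ⊗[A] M)] {J : Ideal A} (x : M ⊗[A] J)
    (hx : J.subtype.lTensor M x = 0) :
    x ∈ LinearMap.range ((Submodule.inclusion (inf_le_left : J ⊓ 𝔮 ≤ J)).lTensor M) := by
  let X : Ideal (A ⧸ 𝔮) := J.map (Ideal.Quotient.mk 𝔮)
  let q : J →ₗ[A] X :=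
    { toFun := fun j => ⟨Ideal.Quotient.mk 𝔮 j.1, Ideal.mem_map_of_mem _ j.2⟩
      map_add' := fun _ _ => Subtype.ext rfl
      map_smul' := fun _ _ => Subtype.ext rfl }
  have hq : Function.Surjective q := fun y => by
    obtain ⟨j, hj, hjy⟩ := (Ideal.mem_map_iff_of_surjective _ Ideal.Quotient.mk_surjective).1 y.2
    exact ⟨⟨j, hj⟩, Subtype.ext hjy⟩
  have hex : Function.Exact (Submodule.inclusion (inf_le_left : J ⊓ 𝔮 ≤ J)) q := by
    intro j
    constructor
    · intro hj
      have : Ideal.Quotient.mk 𝔮 j.1 = 0 := congr_arg Subtype.val hj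
      exact ⟨⟨j.1, j.2, Ideal.Quotient.eq_zero_iff_mem.1 this⟩, rfl⟩
    · rintro ⟨y, rfl⟩
      exact Subtype.ext (Ideal.Quotient.eq_zero_iff_mem.2 y.2.2)
  refine (lTensor_exact M hex hq x).1 ?_
  let e : ∀ (N : Type u) [AddCommGroup N] [Module (A ⧸ 𝔮) N] [Module A N]
      [IsScalarTower A (A ⧸ 𝔮) N],
      N ⊗[A ⧸ 𝔮] ((A ⧸ 𝔮) ⊗[A] M) ≃ₗ[A ⧸ 𝔮] N ⊗[A] M := fun N _ _ _ _ =>
    TensorProduct.AlgebraTensorModule.cancelBaseChange A (A ⧸ 𝔮) (A ⧸ 𝔮) N M
  have hinj : Function.Injective ((X.subtype.restrictScalars A).rTensor M) := by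
    have h1 := Module.Flat.rTensor_preserves_injective_linearMap
      (M := (A ⧸ 𝔮) ⊗[A] M) X.subtype X.injective_subtype
    have h2 : ∀ z, (X.subtype.restrictScalars A).rTensor M (e X z) =
        e (A ⧸ 𝔮) (X.subtype.rTensor _ z) := by
      intro z
      induction z using TensorProduct.induction_on with
      | zero => simp
      | add a b ha hb => simp only [map_add, ha, hb]
      | tmul n y =>
        induction y using TensorProduct.induction_on with
        | zero => simp
        | add a b ha hb => simp only [TensorProduct.tmul_add, map_add, ha, hb]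
        | tmul a m => simp [e]
    intro u v huv
    obtain ⟨z, rfl⟩ := (e X).surjective u
    obtain ⟨w, rfl⟩ := (e X).surjective v
    rw [h2, h2] at huv
    rw [h1 ((e _).injective huv)]
  have hinj' : Function.Injective ((X.subtype.restrictScalars A).lTensor M) :=
    (LinearMap.lTensor_inj_iff_rTensor_inj _ _).2 hinj
  apply hinj'
  rw [map_zero, ← LinearMap.comp_apply, ← LinearMap.lTensor_comp,
    show (X.subtype.restrictScalars A).comp q = (Algebra.linearMap A (A ⧸ 𝔮)).comp J.subtype from rfl,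
    LinearMap.lTensor_comp, LinearMap.comp_apply, hx, map_zero]

variable {R : Type u} [CommRing R] [Algebra R A] {I : Ideal R}
variable {B : Type u} [CommRing B] [Algebra R B] [Algebra A B] [IsScalarTower R A B]
variable {M : Type u} [AddCommGroup M] [Module B M] [Module A M] [IsScalarTower A B M]
  [Module.Finite B M]

/-- S11531. -/
theorem flat_of_flat_trunc (hR : AdicRing.IsBase R I) (hA : AdicRing.TopFiniteType R I A)
    (hB : AdicRing.TopFiniteType R I B)
    (h : ∀ n : ℕ, Module.Flat (AdicRing.trunc A I n) ((AdicRing.trunc A I n) ⊗[A] M)) :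
    Module.Flat A M := by
  letI : Module R M := Module.compHom M (algebraMap R A)
  haveI : IsScalarTower R A M := IsScalarTower.of_algebraMap_smul fun _ _ => rfl
  haveI : IsScalarTower R B M := IsScalarTower.of_algebraMap_smul fun r m => by
    rw [IsScalarTower.algebraMap_apply R A B, algebraMap_smul]
    rfl
  rw [Module.Flat.iff_lTensor_injective]
  intro J hJ
  haveI : Module.Finite A J := Module.Finite.iff_fg.2 hJ
  haveI : Module.Finite B (M ⊗[A] J) := by
    obtain ⟨s, g, hg⟩ := Module.Finite.exists_fin' A J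
    let l : ((Fin s → M)) →ₗ[B] M ⊗[A] J :=
      { toFun := fun v => ∑ i, v i ⊗ₜ g (Pi.single i 1)
        map_add' := fun v w => by simp [TensorProduct.add_tmul, Finset.sum_add_distrib]
        map_smul' := fun b v => by simp [Finset.smul_sum, TensorProduct.smul_tmul'] }
    refine Module.Finite.of_surjective l fun x => ?_
    induction x using TensorProduct.induction_on with
    | zero => exact ⟨0, map_zero l⟩
    | add a b ha hb =>
        obtain ⟨a, rfl⟩ := ha
        obtain ⟨b, rfl⟩ := hb
        exact ⟨a + b, map_add l a b⟩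
    | tmul m j =>
        obtain ⟨c, rfl⟩ := hg j
        refine ⟨fun i => c i • m, ?_⟩
        change ∑ i, (c i • m) ⊗ₜ[A] g (Pi.single i 1) = m ⊗ₜ[A] g c
        conv_rhs => rw [pi_eq_sum_univ' c, map_sum, TensorProduct.tmul_sum]
        simp only [map_smul, TensorProduct.tmul_smul, TensorProduct.smul_tmul']
  haveI hH : IsHausdorff I (M ⊗[A] J) := ArtinRees.isHausdorff (A := B) hR hB
  refine (injective_iff_map_eq_zero _).2 fun x hx => ?_
  refine IsHausdorff.haus hH x fun m => SModEq.zero.2 ?_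
  obtain ⟨n₀, hn₀⟩ := ArtinRees.artinRees hR hA (M := A) J
  haveI := h (m + n₀)
  obtain ⟨y, rfl⟩ := mem_range_of_flat_quotient ((I ^ (m + n₀ + 1)).map (algebraMap R A)) x hx
  clear hx
  induction y using TensorProduct.induction_on with
  | zero => simp
  | add a b ha hb => rw [map_add]; exact add_mem ha hb
  | tmul v j =>
    have hj : (j : A) ∈ I ^ m • (J.restrictScalars R) := by
      refine hn₀ m ⟨?_, j.2.1⟩
      rw [Ideal.smul_top_eq_map]
      exact Ideal.map_mono (Ideal.pow_le_pow_right (Nat.le_succ _)) j.2.2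
    rw [LinearMap.lTensor_tmul]
    change v ⊗ₜ[A] (⟨j.1, j.2.1⟩ : J) ∈ _
    generalize hjJ : (⟨j.1, j.2.1⟩ : J) = z
    have hz : (z : A) ∈ I ^ m • (J.restrictScalars R) := by rw [← hjJ]; exact hj
    clear hjJ hj j
    obtain ⟨z, hzJ⟩ := z
    replace hz : z ∈ I ^ m • (J.restrictScalars R) := hz
    induction hz using Submodule.smul_induction_on' with
    | smul r hr n hn =>
        have : v ⊗ₜ[A] (⟨r • n, hzJ⟩ : J) = r • (v ⊗ₜ[A] (⟨n, hn⟩ : J)) := by
          rw [TensorProduct.smul_tmul', ← algebraMap_smul A r v, TensorProduct.smul_tmul]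
          congr 1
          exact Subtype.ext (algebra_compatible_smul A r n)
        rw [this]
        exact Submodule.smul_mem_smul hr Submodule.mem_top
    | add a ha b hb ha' hb' =>
        have haJ : a ∈ J := (Submodule.smul_le_right : I ^ m • J.restrictScalars R ≤ J.restrictScalars R) ha
        have hbJ : b ∈ J := (Submodule.smul_le_right : I ^ m • J.restrictScalars R ≤ J.restrictScalars R) hb
        rw [show (⟨a + b, hzJ⟩ : J) = ⟨a, haJ⟩ + ⟨b, hbJ⟩ from rfl, TensorProduct.tmul_add]
        exact add_mem (ha' haJ) (hb' hbJ)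

/-- S11532. -/
theorem faithfullyFlat_of_trunc (hR : AdicRing.IsBase R I) (hA : AdicRing.TopFiniteType R I A)
    (hB : AdicRing.TopFiniteType R I B)
    (h : ∀ n : ℕ, Module.FaithfullyFlat (AdicRing.trunc A I n) ((AdicRing.trunc A I n) ⊗[A] M)) :
    Module.FaithfullyFlat A M := by
  rw [Module.FaithfullyFlat.iff_flat_and_proper_ideal]
  refine ⟨flat_of_flat_trunc hR hA hB fun n => (h n).toFlat, fun 𝔞 h𝔞 htop => ?_⟩
  obtain ⟨𝔪, h𝔪, hle⟩ := Ideal.exists_le_maximal 𝔞 h𝔞
  have hI : (I ^ (0 + 1)).map (algebraMap R A) ≤ 𝔪 := by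
    rw [zero_add, pow_one]
    refine (map_le_jacobson hR hA).trans ?_
    exact (sInf_le ⟨bot_le, h𝔪⟩)
  haveI := h 0
  have hne : 𝔪.map (Ideal.Quotient.mk ((I ^ (0 + 1)).map (algebraMap R A))) ≠ ⊤ := fun ht => by
    apply h𝔪.ne_top
    have h1 := Ideal.comap_map_of_surjective' (Ideal.Quotient.mk ((I ^ (0 + 1)).map (algebraMap R A)))
      Ideal.Quotient.mk_surjective 𝔪
    rw [ht, Ideal.comap_top, Ideal.mk_ker, sup_eq_left.2 hI] at h1
    exact h1.symm
  apply ((Module.FaithfullyFlat.iff_flat_and_proper_ideal (AdicRing.trunc A I 0)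
    ((AdicRing.trunc A I 0) ⊗[A] M)).1 (h 0)).2 _ hne
  rw [eq_top_iff]
  rintro x -
  induction x using TensorProduct.induction_on with
  | zero => simp
  | add a b ha hb => exact add_mem ha hb
  | tmul a v =>
    have hv : v ∈ 𝔞 • (⊤ : Submodule A M) := by rw [htop]; trivial
    induction hv using Submodule.smul_induction_on' with
    | smul r hr n _ =>
        rw [TensorProduct.tmul_smul, ← algebraMap_smul (AdicRing.trunc A I 0) r (a ⊗ₜ[A] n)]
        exact Submodule.smul_mem_smul (Ideal.mem_map_of_mem _ (hle hr)) Submodule.mem_top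
    | add b _ c _ hb hc => rw [TensorProduct.tmul_add]; exact add_mem hb hc

end Groth.Agent.Lib.Adic.Bosch.Flat
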