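import Groth.Agent.Lib.Adic.Bosch.Ideal
import Mathlib.Algebra.TrivSqZeroExt.Basic

/-! Saturated submodules of free modules over restricted power series are finitely generated. -/

set_option autoImplicit false
set_option linter.unusedSectionVars false

universe u v w

namespace Groth.Agent.Lib.Adic.Bosch.Free

open MvPolynomial Groth.Agent.Lib.Adic.Bosch.Reduction Groth.Agent.Lib.Adic.Bosch.IdealFG

section General

variable {R : Type u} [CommRing R] {I : Ideal R}

theorem isAdicComplete_pi [IsAdicComplete I R] (ι : Type v) [Fintype ι] :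
    IsAdicComplete I (ι → R) :=
  { toIsHausdorff := ⟨fun x hx => funext fun i => IsHausdorff.haus' (I := I) (x i) fun n => by
      rw [SModEq.zero, Complete.pow_mul_top]
      exact Complete.mem_of_mem_smul_top_pi (SModEq.zero.1 (hx n)) i⟩
    toIsPrecomplete := Complete.isPrecomplete_pi ι }

theorem isAdicComplete_of_linearEquiv {M : Type v} {N : Type w} [AddCommGroup M] [Module R M]
    [AddCommGroup N] [Module R N] [IsAdicComplete I M] (e : M ≃ₗ[R] N) : IsAdicComplete I N :=
  { toIsHausdorff := ⟨fun x hx => e.symm.injective <| by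
      rw [map_zero]
      refine IsHausdorff.haus' (I := I) (e.symm x) fun n => ?_
      rw [SModEq.zero]
      have := Submodule.mem_map_of_mem (f := e.symm.toLinearMap) (SModEq.zero.1 (hx n))
      rw [Submodule.map_smul''] at this
      exact Submodule.smul_mono le_rfl le_top this⟩
    toIsPrecomplete := Complete.isPrecomplete_of_surjective (f := e.toLinearMap) e.surjective }

end General

variable {R : Type u} [CommRing R] [IsDomain R] [ValuationRing R] [Ring.KrullDimLE 1 R]
variable {t : R} [IsAdicComplete (Ideal.span {t}) R]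

variable {n s : ℕ}

set_option quotPrecheck false in
local notation "P" => AdicRing.RPow R (Ideal.span {t}) n

set_option quotPrecheck false in
local notation "B" => TrivSqZeroExt P (Fin s → P)

/-- Saturated submodules of `R⟨ζ⟩^s` are finitely generated. -/
theorem fg_of_saturated (ht : t ≠ 0)
    {N : Submodule P (Fin s → P)}
    (hsat : ∀ x, algebraMap R P t • x ∈ N → x ∈ N) : N.FG := by
  have hP : IsAdicComplete (Ideal.span {t}) P := isAdicComplete_rpow
  have hP' : IsAdicComplete ((Ideal.span {t}).map (algebraMap R P)) P :=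
    (IsAdicComplete.map_algebraMap_iff _ P).2 hP
  haveI : IsAdicComplete ((Ideal.span {t}).map (algebraMap R P)) (Fin (s + 1) → P) :=
    isAdicComplete_pi _
  let e : (Fin (s + 1) → P) ≃ₗ[P] B :=
    { toFun := fun v => (v 0, fun i => v i.succ)
      invFun := fun x => Fin.cons x.fst x.snd
      map_add' := fun _ _ => rfl
      map_smul' := fun _ _ => rfl
      left_inv := fun v => Fin.cons_self_tail v
      right_inv := fun _ => rfl }
  haveI : IsAdicComplete (Ideal.span {t}) B :=
    (IsAdicComplete.map_algebraMap_iff (S := P) _ B).1 (isAdicComplete_of_linearEquiv e)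
  haveI : IsAdicComplete ((Ideal.span {t}).map (algebraMap R B)) B :=
    (IsAdicComplete.map_algebraMap_iff _ B).2 ‹_›
  let b : Fin (n + s) → B := Fin.append
    (fun i => TrivSqZeroExt.inl (ofPoly t n (X i)))
    (fun j => TrivSqZeroExt.inr (Pi.single j 1))
  obtain ⟨φ, hφ⟩ := Restricted.exists_eval (Ideal.span {t}) b
  have hinl : ∀ c : MvPolynomial (Fin n) R,
      aeval b (rename (Fin.castAdd s) c) = TrivSqZeroExt.inl (ofPoly t n c) := by
    intro c
    have : (aeval b).comp (rename (Fin.castAdd s)) =
        ((TrivSqZeroExt.inlAlgHom P P (Fin s → P)).restrictScalars R).comp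
          (IsScalarTower.toAlgHom R (MvPolynomial (Fin n) R) P) := by
      refine MvPolynomial.algHom_ext fun i => ?_
      simp [b, ofPoly]
      rfl
    exact DFunLike.congr_fun this c
  have hsurj : Function.Surjective φ := by
    refine Restricted.surjective_eval _ (Submodule.fg_span_singleton t) b φ hφ fun y => ?_
    obtain ⟨c, w, hc⟩ := exists_approx (R := R) (t := t) (n := n) y.fst
    choose d z hd using fun j => exists_approx (R := R) (t := t) (n := n) (y.snd j)
    refine ⟨rename (Fin.castAdd s) c + ∑ j, rename (Fin.castAdd s) (d j) * X (Fin.natAdd n j), ?_⟩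
    rw [mem_map_singleton_iff]
    refine ⟨TrivSqZeroExt.inl w + TrivSqZeroExt.inr z, ?_⟩
    simp only [map_add, map_sum, map_mul, hinl, aeval_X, b, Fin.append_right,
      TrivSqZeroExt.inl_mul_inr, TrivSqZeroExt.algebraMap_eq_inl', ← TrivSqZeroExt.inr_sum]
    refine TrivSqZeroExt.ext ?_ (funext fun j => ?_)
    · simp [hc]
    · simp [hd, Pi.single_apply, Algebra.smul_def, ofPoly]
  let K : Ideal B :=
    { carrier := {x | x.fst = 0 ∧ x.snd ∈ N}
      add_mem' := fun {x y} hx hy => ⟨by simp [hx.1, hy.1], by simpa using add_mem hx.2 hy.2⟩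
      zero_mem' := ⟨rfl, N.zero_mem⟩
      smul_mem' := fun b x hx => ⟨by simp [hx.1], by
        rw [smul_eq_mul, TrivSqZeroExt.snd_mul, hx.1]
        simpa using N.smul_mem b.fst hx.2⟩ }
  have hK : (K.comap φ).FG := by
    refine IdealFG.fg_of_saturated ht fun x hx => ?_
    rw [Ideal.mem_comap, map_mul, AlgHom.commutes, TrivSqZeroExt.algebraMap_eq_inl'] at hx
    obtain ⟨h1, h2⟩ := hx
    rw [TrivSqZeroExt.fst_mul, TrivSqZeroExt.fst_inl] at h1
    refine ⟨torsionFree ht _ h1, hsat _ ?_⟩
    simpa using h2
  have hK' : K.FG := by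
    rw [← Ideal.map_comap_of_surjective φ hsurj K]
    exact hK.map _
  obtain ⟨S, hS⟩ := hK'
  classical
  refine ⟨S.image TrivSqZeroExt.snd, le_antisymm (Submodule.span_le.2 fun x hx => ?_) fun x hx => ?_⟩
  · obtain ⟨y, hy, rfl⟩ := Finset.mem_image.1 hx
    exact (hS ▸ Submodule.subset_span hy : y ∈ K).2
  · have hmem : TrivSqZeroExt.inr x ∈ Submodule.span B (S : Set B) := by
      rw [show Submodule.span B (S : Set B) = K from hS]
      exact ⟨TrivSqZeroExt.fst_inr P x, by simpa using hx⟩
    obtain ⟨f, -, hf⟩ := Submodule.mem_span_finset.1 hmem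
    have := congr_arg TrivSqZeroExt.snd hf
    rw [TrivSqZeroExt.snd_inr, TrivSqZeroExt.snd_sum] at this
    rw [← this]
    refine Submodule.sum_mem _ fun a ha => ?_
    have haK : a ∈ K := hS ▸ Submodule.subset_span ha
    rw [smul_eq_mul, TrivSqZeroExt.snd_mul, haK.1]
    simpa using Submodule.smul_mem _ _ (Submodule.subset_span (Finset.mem_coe.2 (Finset.mem_image_of_mem _ ha)))

end Groth.Agent.Lib.Adic.Bosch.Free
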