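import Groth.Agent.Lib.Adic.Bosch.Trunc
import Mathlib.RingTheory.Flat.FaithfullyFlat.Algebra
import Mathlib.LinearAlgebra.TensorProduct.Pi

/-! Locality of topological finite type, presentation and admissibility. -/

set_option autoImplicit false
set_option linter.unusedSectionVars false
set_option linter.style.haveILetI false

universe u

open scoped TensorProduct

namespace Groth.Agent.Lib.Adic.Bosch.Local

open Groth.Agent.Lib.Adic.Bosch.Basic Groth.Agent.Lib.Adic.Bosch.Localization
  Groth.Agent.Lib.Adic.Bosch.Trunc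

variable {R : Type u} [CommRing R] {I : Ideal R} {A : Type u} [CommRing A] [Algebra R A]

/-- The truncation of `A → A_f`. -/
noncomputable abbrev toLoc (I : Ideal R) (k : ℕ) (f : A) :
    A ⧸ (I ^ k).map (algebraMap R A) →+*
      Localization.Away f ⧸ (I ^ k).map (algebraMap R (Localization.Away f)) :=
  Ideal.quotientMap _ (algebraMap A (Localization.Away f))
    (Ideal.map_le_iff_le_comap.1
      (map_map_algHom (I ^ k) (IsScalarTower.toAlgHom R A (Localization.Away f))).le)

theorem toLoc_comp (k : ℕ) (f : A) :
    (toLoc I k f).comp (sMap I k A) = sMap I k (Localization.Away f) := by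
  refine Ideal.Quotient.ringHom_ext (RingHom.ext fun r => ?_)
  simp only [RingHom.comp_apply, Ideal.quotientMap_mk, ← IsScalarTower.algebraMap_apply]

theorem isLocalization_toLoc (k : ℕ) (f : A) :
    @IsLocalization.Away _ _ (Ideal.Quotient.mk ((I ^ k).map (algebraMap R A)) f) _ _
      (toLoc I k f).toAlgebra := by
  letI := (toLoc I k f).toAlgebra
  have h := IsLocalization.of_surjective (Submonoid.powers f) (Localization.Away f)
    (Ideal.Quotient.mk ((I ^ k).map (algebraMap R A))) Ideal.Quotient.mk_surjective
    (Ideal.Quotient.mk ((I ^ k).map (algebraMap R (Localization.Away f))))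
    Ideal.Quotient.mk_surjective rfl (by
      rw [Ideal.mk_ker, Ideal.mk_ker, Ideal.map_map, ← IsScalarTower.algebraMap_eq])
  rwa [Submonoid.map_powers] at h

theorem finitePresentation_loc (k : ℕ) (f : A) (h : (sMap I k A).FinitePresentation) :
    (sMap I k (Localization.Away f)).FinitePresentation := by
  rw [← toLoc_comp k f]
  refine RingHom.FinitePresentation.comp ?_ h
  letI := (toLoc I k f).toAlgebra
  haveI := isLocalization_toLoc (I := I) k f
  exact RingHom.finitePresentation_holdsForLocalizationAway _ (Ideal.Quotient.mk ((I ^ k).map (algebraMap R A)) f)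

theorem span_mk_eq_top (k : ℕ) {r : ℕ} (f : Fin r → A) (hf : Ideal.span (Set.range f) = ⊤) :
    Ideal.span (Set.range fun i => Ideal.Quotient.mk ((I ^ k).map (algebraMap R A)) (f i)) = ⊤ := by
  have h := congr_arg (Ideal.map (Ideal.Quotient.mk ((I ^ k).map (algebraMap R A)))) hf
  rwa [Ideal.map_span, Ideal.map_top, ← Set.range_comp] at h

theorem finitePresentation_of_loc (k : ℕ) {r : ℕ} (f : Fin r → A)
    (hf : Ideal.span (Set.range f) = ⊤)
    (h : ∀ i, (sMap I k (Localization.Away (f i))).FinitePresentation) :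
    (sMap I k A).FinitePresentation := by
  letI := (sMap I k A).toAlgebra
  letI := fun i => (sMap I k (Localization.Away (f i))).toAlgebra
  letI := fun i => (toLoc I k (f i)).toAlgebra
  haveI := fun i => isLocalization_toLoc (I := I) k (f i)
  haveI : ∀ i, IsScalarTower (R ⧸ I ^ k) (A ⧸ (I ^ k).map (algebraMap R A))
      (Localization.Away (f i) ⧸ (I ^ k).map (algebraMap R (Localization.Away (f i)))) :=
    fun i => IsScalarTower.of_algebraMap_eq' (toLoc_comp k (f i)).symm
  haveI : ∀ i, Algebra.FinitePresentation (R ⧸ I ^ k)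
      (Localization.Away (f i) ⧸ (I ^ k).map (algebraMap R (Localization.Away (f i)))) := h
  exact Algebra.FinitePresentation.of_span_eq_top_target_of_isLocalizationAway _
    (span_mk_eq_top k f hf)
    (fun i => Localization.Away (f i) ⧸ (I ^ k).map (algebraMap R (Localization.Away (f i))))

theorem finiteType_of_loc (k : ℕ) {r : ℕ} (f : Fin r → A)
    (hf : Ideal.span (Set.range f) = ⊤)
    (h : ∀ i, (sMap I k (Localization.Away (f i))).FiniteType) :
    (sMap I k A).FiniteType := by
  letI := (sMap I k A).toAlgebra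
  letI := fun i => (sMap I k (Localization.Away (f i))).toAlgebra
  letI := fun i => (toLoc I k (f i)).toAlgebra
  haveI := fun i => isLocalization_toLoc (I := I) k (f i)
  haveI : ∀ i, IsScalarTower (R ⧸ I ^ k) (A ⧸ (I ^ k).map (algebraMap R A))
      (Localization.Away (f i) ⧸ (I ^ k).map (algebraMap R (Localization.Away (f i)))) :=
    fun i => IsScalarTower.of_algebraMap_eq' (toLoc_comp k (f i)).symm
  refine Algebra.FiniteType.of_span_eq_top_target _ (span_mk_eq_top k f hf) ?_
  rintro - ⟨i, rfl⟩
  haveI : Algebra.FiniteType (R ⧸ I ^ k)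
      (Localization.Away (f i) ⧸ (I ^ k).map (algebraMap R (Localization.Away (f i)))) := h i
  exact Algebra.FiniteType.equiv ‹_› ((IsLocalization.algEquiv
    (Submonoid.powers (Ideal.Quotient.mk ((I ^ k).map (algebraMap R A)) (f i))) _ _).symm.restrictScalars _)

theorem finiteType_trunc (hI : I.FG) (hA : AdicRing.TopFiniteType R I A) (k : ℕ) :
    (sMap I k A).FiniteType := by
  obtain ⟨n, φ, hφ⟩ := hA
  obtain ⟨ρ, g, -, -, hgC, hg, -⟩ := exists_trunc_map hI φ hφ k
  rw [← hgC]
  refine RingHom.FiniteType.comp (RingHom.FiniteType.of_surjective g hg) ?_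
  rw [← MvPolynomial.algebraMap_eq, RingHom.finiteType_algebraMap]
  infer_instance

/-- S11534. -/
theorem topFiniteType_iff (hI : I.FG) [IsAdicComplete (I.map (algebraMap R A)) A] {r : ℕ}
    (f : Fin r → A) (hf : Ideal.span (Set.range f) = ⊤) :
    AdicRing.TopFiniteType R I A ↔ ∀ i, AdicRing.TopFiniteType R I (AdicRing.CLoc I (f i)) := by
  refine ⟨fun h i => topFiniteType_cLoc hI h (f i), fun h => ?_⟩
  refine exists_surjection hI (hasDense_of_finiteType (finiteType_of_loc 1 f hf fun i => ?_))
  obtain ⟨e, he⟩ := trunc_completion_equiv hI (Localization.Away (f i)) 1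
  have h1 := finiteType_trunc hI (h i) 1
  have h2 : sMap I 1 (Localization.Away (f i)) =
      e.symm.toRingHom.comp (sMap I 1 (AdicRing.CLoc I (f i))) := by
    rw [← he]; ext x; simp
  rw [h2]
  exact RingHom.FiniteType.comp (RingHom.FiniteType.of_surjective _ e.symm.surjective) h1

theorem isAdicComplete_cLoc (hI : I.FG) (f : A) :
    IsAdicComplete (I.map (algebraMap R (AdicRing.CLoc I f))) (AdicRing.CLoc I f) := by
  have h : IsAdicComplete (I.map (algebraMap R (Localization.Away f))) (AdicRing.CLoc I f) :=
    AdicCompletion.isAdicComplete (Ideal.FG.map hI _)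
  exact (IsAdicComplete.map_algebraMap_iff I _).2
    ((IsAdicComplete.map_algebraMap_iff (S := Localization.Away f) I _).1 h)

/-- S11535. -/
theorem topFinitePresentation_iff (hR : AdicRing.IsBase R I)
    [IsAdicComplete (I.map (algebraMap R A)) A] {r : ℕ}
    (f : Fin r → A) (hf : Ideal.span (Set.range f) = ⊤) :
    AdicRing.TopFinitePresentation R I A ↔
      ∀ i, AdicRing.TopFinitePresentation R I (AdicRing.CLoc I (f i)) := by
  have hI := fg_base hR
  constructor
  · intro h i
    haveI := isAdicComplete_cLoc hI (f i)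
    refine topFinitePresentation_of_trunc hR fun k => ?_
    obtain ⟨e, he⟩ := trunc_completion_equiv hI (Localization.Away (f i)) (k + 1)
    rw [show sMap I (k + 1) (AdicRing.CLoc I (f i)) = e.toRingHom.comp (sMap I (k + 1) _) from he.symm]
    exact RingHom.finitePresentation_respectsIso.1 _ e
      (finitePresentation_loc (k + 1) (f i) (finitePresentation_trunc hI h (k + 1)))
  · intro h
    refine topFinitePresentation_of_trunc hR fun k => finitePresentation_of_loc (k + 1) f hf fun i => ?_
    obtain ⟨e, he⟩ := trunc_completion_equiv hI (Localization.Away (f i)) (k + 1)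
    have h2 : sMap I (k + 1) (Localization.Away (f i)) =
        e.symm.toRingHom.comp (sMap I (k + 1) (AdicRing.CLoc I (f i))) := by
      rw [← he]; ext x; simp
    rw [h2]
    exact RingHom.finitePresentation_respectsIso.1 _ e.symm (finitePresentation_trunc hI (h i) (k + 1))

/-- Flat algebras inherit the absence of power torsion. -/
theorem noPowTorsion_of_flat (hI : I.FG) {B : Type u} [CommRing B] [Algebra R B] [Algebra A B]
    [IsScalarTower R A B] [Module.Flat A B] (hT : AdicRing.NoPowTorsion I A) :
    AdicRing.NoPowTorsion I B := by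
  classical
  intro y n hy
  obtain ⟨m, g, hg⟩ := Submodule.fg_iff_exists_fin_generating_family.1 (hI.pow (n := n))
  let l : A →ₗ[A] (Fin m → A) := LinearMap.pi fun j => LinearMap.mulLeft A (algebraMap R A (g j))
  have hl : Function.Injective l := (injective_iff_map_eq_zero l).2 fun x hx => by
    refine hT x n fun a ha => ?_
    rw [← hg] at ha
    obtain ⟨c, rfl⟩ := (Submodule.mem_span_range_iff_exists_fun R).1 ha
    rw [Finset.sum_smul]
    refine Finset.sum_eq_zero fun j _ => ?_
    have hj : algebraMap R A (g j) * x = 0 := congr_fun hx j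
    rw [smul_assoc, Algebra.smul_def (g j) x, hj, smul_zero]
  have h2 : ∀ b : B, TensorProduct.piScalarRight A A B (Fin m) (l.lTensor B (b ⊗ₜ[A] (1 : A))) =
      fun j => g j • b := fun b => funext fun j => by
    simp [l, Algebra.smul_def, ← IsScalarTower.algebraMap_apply]
  have h3 : TensorProduct.piScalarRight A A B (Fin m) (l.lTensor B (y ⊗ₜ[A] (1 : A))) = 0 := by
    rw [h2]
    funext j
    exact hy (g j) (hg ▸ Submodule.subset_span ⟨j, rfl⟩)
  rw [← (TensorProduct.piScalarRight A A B (Fin m)).map_zero] at h3
  have h4 := (Module.Flat.lTensor_preserves_injective_linearMap l hl)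
    (((TensorProduct.piScalarRight A A B (Fin m)).injective h3).trans (map_zero _).symm)
  simpa using congr_arg (TensorProduct.rid A B) h4

/-- S11536. -/
theorem admissible_iff (hR : AdicRing.IsBase R I)
    [IsAdicComplete (I.map (algebraMap R A)) A] {r : ℕ}
    (f : Fin r → A) (hf : Ideal.span (Set.range f) = ⊤) :
    AdicRing.Admissible R I A ↔ ∀ i, AdicRing.Admissible R I (AdicRing.CLoc I (f i)) := by
  have hI := fg_base hR
  constructor
  · rintro ⟨⟨n, φ, hφ, hK⟩, hT⟩ i
    haveI := flat_cLoc hR (⟨n, φ, hφ⟩ : AdicRing.TopFiniteType R I A) (f i)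
    exact ⟨(topFinitePresentation_iff hR f hf).1 ⟨n, φ, hφ, hK⟩ i, noPowTorsion_of_flat hI hT⟩
  · intro h
    obtain ⟨n, φ, hφ, hK⟩ := (topFinitePresentation_iff hR f hf).2 fun i => (h i).1
    haveI := faithfullyFlat_pi_cLoc hR (⟨n, φ, hφ⟩ : AdicRing.TopFiniteType R I A) f hf
    refine ⟨⟨n, φ, hφ, hK⟩, fun x k hx => ?_⟩
    refine FaithfulSMul.algebraMap_injective A (∀ i, AdicRing.CLoc I (f i)) ?_
    rw [map_zero]
    funext i
    refine (h i).2 _ k fun a ha => ?_
    rw [Pi.algebraMap_apply, ← IsScalarTower.toAlgHom_apply R A (AdicRing.CLoc I (f i)), ← map_smul,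
      hx a ha, map_zero]

end Groth.Agent.Lib.Adic.Bosch.Local
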