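import Groth.Agent.Lib.Adic.Bosch.Flat
import Mathlib.RingTheory.Localization.Away.Basic
import Mathlib.RingTheory.Flat.Localization

/-! Complete localizations. -/

set_option autoImplicit false
set_option linter.unusedSectionVars false
set_option linter.style.haveILetI false

universe u

open scoped TensorProduct

namespace Groth.Agent.Lib.Adic.Bosch.Localization

open Groth.Agent.Lib.Adic.Bosch.Basic

variable {R : Type u} [CommRing R] {I : Ideal R}

/-- `C / I C` is generated by finitely many elements. -/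
def HasDense (R : Type u) [CommRing R] (I : Ideal R) (C : Type u) [CommRing C] [Algebra R C] : Prop :=
  ∃ (n : ℕ) (b : Fin n → C), ∀ y : C, ∃ p : MvPolynomial (Fin n) R,
    y - MvPolynomial.aeval b p ∈ I.map (algebraMap R C)

theorem map_map_algHom {S T : Type u} [CommRing S] [CommRing T] [Algebra R S] [Algebra R T]
    (J : Ideal R) (φ : S →ₐ[R] T) :
    (J.map (algebraMap R S)).map φ = J.map (algebraMap R T) := by
  refine le_antisymm ?_ ?_
  · rw [Ideal.map_le_iff_le_comap, Ideal.map_le_iff_le_comap]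
    intro r hr
    simpa using Ideal.mem_map_of_mem (algebraMap R T) hr
  · rw [Ideal.map_le_iff_le_comap]
    intro r hr
    rw [Ideal.mem_comap, ← φ.commutes r]
    exact Ideal.mem_map_of_mem _ (Ideal.mem_map_of_mem _ hr)

theorem hasDense_of_topFiniteType (hI : I.FG) {A : Type u} [CommRing A] [Algebra R A]
    (hA : AdicRing.TopFiniteType R I A) : HasDense R I A := by
  obtain ⟨n, φ, hφ⟩ := hA
  let ψ : MvPolynomial (Fin n) R →ₐ[R] A :=
    φ.comp (IsScalarTower.toAlgHom R (MvPolynomial (Fin n) R) (AdicRing.RPow R I n))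
  refine ⟨n, fun i => ψ (MvPolynomial.X i), fun a => ?_⟩
  obtain ⟨x, rfl⟩ := hφ a
  obtain ⟨c, hc⟩ := Lift.exists_of_sub_mem (R := R) (I := I) hI (C := MvPolynomial (Fin n) R) x 1
  refine ⟨c, ?_⟩
  rw [pow_one] at hc
  have := (map_map_algHom I φ).le (Ideal.mem_map_of_mem φ hc)
  change φ x - MvPolynomial.aeval (fun i => ψ (MvPolynomial.X i)) c ∈ _
  rw [show (MvPolynomial.aeval fun i => ψ (MvPolynomial.X i)) = ψ from (MvPolynomial.aeval_unique ψ).symm]
  exact (congrArg (· ∈ I.map (algebraMap R A)) (map_sub φ x _)).mp this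

/-- The completion of an algebra with a dense finitely generated subalgebra is TFT. -/
theorem topFiniteType_completion (hI : I.FG) {C : Type u} [CommRing C] [Algebra R C]
    (hC : HasDense R I C) :
    AdicRing.TopFiniteType R I (AdicCompletion (I.map (algebraMap R C)) C) := by
  obtain ⟨n, b, hb⟩ := hC
  let Ĉ := AdicCompletion (I.map (algebraMap R C)) C
  let j : C →ₐ[R] Ĉ := IsScalarTower.toAlgHom R C Ĉ
  haveI : IsAdicComplete (I.map (algebraMap R Ĉ)) Ĉ := by
    have h : IsAdicComplete (I.map (algebraMap R C)) Ĉ := AdicCompletion.isAdicComplete (Ideal.FG.map hI _)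
    exact (IsAdicComplete.map_algebraMap_iff I Ĉ).2 ((IsAdicComplete.map_algebraMap_iff (S := C) I Ĉ).1 h)
  obtain ⟨φ, hφ⟩ := Restricted.exists_eval I fun i => j (b i)
  refine ⟨n, φ, Restricted.surjective_eval I hI _ φ hφ fun y => ?_⟩
  obtain ⟨c, hc⟩ := Lift.exists_of_sub_mem (R := R) (I := I) hI (C := C) y 1
  obtain ⟨p, hp⟩ := hb c
  refine ⟨p, ?_⟩
  rw [pow_one] at hc
  have hp' := Ideal.mem_map_of_mem j hp
  rw [map_map_algHom, map_sub, MvPolynomial.comp_aeval_apply] at hp'
  have := add_mem hc hp'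
  change (y - j c) + (j c - _) ∈ _ at this
  rwa [sub_add_sub_cancel] at this

/-- Truncations of a completion agree with those of the ring. -/
theorem lTensor_completion_bijective (hI : I.FG) {A C : Type u} [CommRing A] [CommRing C]
    [Algebra R A] [Algebra R C] [Algebra A C] [IsScalarTower R A C] (n : ℕ) :
    Function.Bijective ((IsScalarTower.toAlgHom A C
      (AdicCompletion (I.map (algebraMap R C)) C)).toLinearMap.baseChange (AdicRing.trunc A I n)) := by
  let Ĉ := AdicCompletion (I.map (algebraMap R C)) C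
  let T := AdicRing.trunc A I n
  let Q := C ⧸ (I.map (algebraMap R C)) ^ (n + 1)
  have h0 : ∀ (r : R), r ∈ I ^ (n + 1) → algebraMap A T (algebraMap R A r) = 0 := fun r hr =>
    Ideal.Quotient.eq_zero_iff_mem.2 (Ideal.mem_map_of_mem _ hr)
  have hle : ((I.map (algebraMap R C)) ^ (n + 1)).restrictScalars A ≤
      LinearMap.ker (TensorProduct.mk A T C 1) := by
    rw [← Ideal.map_pow]
    intro z hz
    induction hz using Submodule.span_induction with
    | mem w hw =>
        obtain ⟨r, hr, rfl⟩ := hw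
        rw [LinearMap.mem_ker, TensorProduct.mk_apply, IsScalarTower.algebraMap_apply R A C,
          Algebra.algebraMap_eq_smul_one (algebraMap R A r), TensorProduct.tmul_smul,
          TensorProduct.smul_tmul', Algebra.smul_def, h0 r hr, zero_mul, TensorProduct.zero_tmul]
    | zero => simp
    | add a b _ _ ha hb => exact add_mem ha hb
    | smul c a _ ha =>
        rw [LinearMap.mem_ker, TensorProduct.mk_apply] at ha ⊢
        have := congr_arg (LinearMap.lTensor T (LinearMap.mulLeft A c)) ha
        simpa using this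
  let g₀ : Q →ₗ[A] T ⊗[A] C :=
    Submodule.liftQ (((I.map (algebraMap R C)) ^ (n + 1)).restrictScalars A) (TensorProduct.mk A T C 1) hle
  let g : Ĉ →ₗ[A] T ⊗[A] C :=
    g₀.comp ((AdicCompletion.evalₐ (I.map (algebraMap R C)) (n + 1)).toLinearMap.restrictScalars A)
  let back : T ⊗[A] Ĉ →ₗ[T] T ⊗[A] C := LinearMap.liftBaseChange T g
  refine ⟨Function.LeftInverse.injective (g := back) fun z => ?_, fun z => ?_⟩
  · induction z using TensorProduct.induction_on with
    | zero => simp
    | add a b ha hb => simp only [map_add, ha, hb]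
    | tmul a c =>
        simp only [back, LinearMap.baseChange_tmul, LinearMap.liftBaseChange_tmul]
        change a • g₀ (AdicCompletion.evalₐ (I.map (algebraMap R C)) (n + 1)
          (AdicCompletion.of _ _ c)) = a ⊗ₜ[A] c
        rw [AdicCompletion.evalₐ_of]
        change a • ((1 : T) ⊗ₜ[A] c) = a ⊗ₜ[A] c
        rw [TensorProduct.smul_tmul', smul_eq_mul, mul_one]
  · induction z using TensorProduct.induction_on with
    | zero => exact ⟨0, map_zero _⟩
    | add a b ha hb =>
        obtain ⟨a, rfl⟩ := ha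
        obtain ⟨b, rfl⟩ := hb
        exact ⟨a + b, map_add _ _ _⟩
    | tmul a y =>
        obtain ⟨c, hc⟩ := Lift.exists_of_sub_mem (R := R) (I := I) hI (C := C) y (n + 1)
        refine ⟨a ⊗ₜ[A] c, ?_⟩
        rw [LinearMap.baseChange_tmul]
        rw [← sub_eq_zero, ← TensorProduct.tmul_sub]
        have hyc : (IsScalarTower.toAlgHom A C Ĉ).toLinearMap c - y ∈
            (I ^ (n + 1)).map (algebraMap R Ĉ) := by
          rw [Ideal.map_pow, ← neg_mem_iff, neg_sub]
          exact hc
        generalize (IsScalarTower.toAlgHom A C Ĉ).toLinearMap c - y = w at hyc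
        induction hyc using Submodule.span_induction generalizing a with
        | mem w hw =>
            obtain ⟨r, hr, rfl⟩ := hw
            rw [IsScalarTower.algebraMap_apply R A Ĉ, Algebra.algebraMap_eq_smul_one (algebraMap R A r),
              TensorProduct.tmul_smul, TensorProduct.smul_tmul', Algebra.smul_def, h0 r hr, zero_mul,
              TensorProduct.zero_tmul]
        | zero => simp
        | add u v _ _ hu hv => rw [TensorProduct.tmul_add, hu, hv, add_zero]
        | smul c' u _ hu =>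
            have := congr_arg (LinearMap.lTensor T (LinearMap.mulLeft A c')) (hu a)
            simpa using this

/-- S11533, the flatness of complete localizations. -/
theorem hasDense_away (hI : I.FG) {A : Type u} [CommRing A] [Algebra R A]
    (hA : AdicRing.TopFiniteType R I A) (f : A) : HasDense R I (Localization.Away f) := by
  obtain ⟨n, b, hb⟩ := hasDense_of_topFiniteType hI hA
  let S := Localization.Away f
  let j : A →ₐ[R] S := IsScalarTower.toAlgHom R A S
  refine ⟨n + 1, Fin.snoc (fun i => j (b i)) (IsLocalization.Away.invSelf f), fun y => ?_⟩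
  obtain ⟨k, a, rfl⟩ : ∃ (k : ℕ) (a : A), y = j a * IsLocalization.Away.invSelf (S := S) f ^ k := by
    obtain ⟨k, a, ha⟩ := IsLocalization.Away.surj f y
    refine ⟨k, a, ?_⟩
    change y = algebraMap A S a * _
    rw [← ha, mul_assoc, ← mul_pow, IsLocalization.Away.mul_invSelf, one_pow, mul_one]
  obtain ⟨p, hp⟩ := hb a
  refine ⟨MvPolynomial.rename Fin.castSucc p * MvPolynomial.X (Fin.last n) ^ k, ?_⟩
  rw [map_mul, map_pow, MvPolynomial.aeval_X, Fin.snoc_last, MvPolynomial.aeval_rename, ← sub_mul]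
  refine Ideal.mul_mem_right _ _ ?_
  have := Ideal.mem_map_of_mem j hp
  rw [map_map_algHom, map_sub, MvPolynomial.comp_aeval_apply] at this
  have e : (Fin.snoc (fun i => j (b i)) (IsLocalization.Away.invSelf (S := S) f) : Fin (n + 1) → S) ∘
      Fin.castSucc = fun i => j (b i) := funext fun i => Fin.snoc_castSucc _ _ i
  rw [e]
  exact this

theorem topFiniteType_cLoc (hI : I.FG) {A : Type u} [CommRing A] [Algebra R A]
    (hA : AdicRing.TopFiniteType R I A) (f : A) :
    AdicRing.TopFiniteType R I (AdicRing.CLoc I f) :=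
  topFiniteType_completion hI (hasDense_away hI hA f)

theorem flat_cLoc (hR : AdicRing.IsBase R I) {A : Type u} [CommRing A] [Algebra R A]
    (hA : AdicRing.TopFiniteType R I A) (f : A) : Module.Flat A (AdicRing.CLoc I f) := by
  refine Flat.flat_of_flat_trunc (B := AdicRing.CLoc I f) hR hA
    (topFiniteType_cLoc (fg_base hR) hA f) fun n => ?_
  haveI : Module.Flat A (Localization.Away f) := IsLocalization.flat _ (Submonoid.powers f)
  exact Module.Flat.of_linearEquiv (LinearEquiv.ofBijective _
    (lTensor_completion_bijective (fg_base hR) (A := A) (C := Localization.Away f) n)).symm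

/-- The evaluation of a complete localization at a residue field of a point of the special fibre. -/
theorem exists_residue {A : Type u} [CommRing A] [Algebra R A] (𝔪 : Ideal A) [𝔪.IsMaximal]
    (hI𝔪 : I.map (algebraMap R A) ≤ 𝔪) {f : A} (hf : f ∉ 𝔪) :
    ∃ χ : AdicRing.CLoc I f →ₐ[R] A ⧸ 𝔪, ∀ a, χ (algebraMap A _ a) = Ideal.Quotient.mk 𝔪 a := by
  letI : Field (A ⧸ 𝔪) := Ideal.Quotient.field 𝔪
  have hu : IsUnit (Algebra.ofId A (A ⧸ 𝔪) f) := by
    rw [isUnit_iff_ne_zero]
    exact fun h => hf (Ideal.Quotient.eq_zero_iff_mem.1 h)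
  have hbot : I.map (algebraMap R (A ⧸ 𝔪)) = ⊥ := by
    rw [Ideal.map_eq_bot_iff_le_ker]
    intro r hr
    rw [RingHom.mem_ker, IsScalarTower.algebraMap_apply R A (A ⧸ 𝔪), Ideal.Quotient.algebraMap_eq,
      Ideal.Quotient.eq_zero_iff_mem]
    exact hI𝔪 (Ideal.mem_map_of_mem _ hr)
  haveI : IsAdicComplete (I.map (algebraMap R (A ⧸ 𝔪))) (A ⧸ 𝔪) := by rw [hbot]; infer_instance
  let g : Localization.Away f →ₐ[A] A ⧸ 𝔪 :=
    { toRingHom := IsLocalization.Away.lift (g := algebraMap A (A ⧸ 𝔪)) f hu
      commutes' := fun a => IsLocalization.Away.lift_eq f hu a }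
  obtain ⟨χ, hχ⟩ := Lift.exists_lift (I := I) (g.restrictScalars R)
  exact ⟨χ, fun a => (hχ (algebraMap A _ a)).trans (g.commutes a)⟩

/-- S11533. -/
theorem faithfullyFlat_pi_cLoc (hR : AdicRing.IsBase R I) {A : Type u} [CommRing A] [Algebra R A]
    (hA : AdicRing.TopFiniteType R I A) {r : ℕ} (f : Fin r → A)
    (hf : Ideal.span (Set.range f) = ⊤) :
    Module.FaithfullyFlat A (∀ i, AdicRing.CLoc I (f i)) := by
  classical
  haveI := fun i => flat_cLoc hR hA (f i)
  rw [Module.FaithfullyFlat.iff_flat_and_proper_ideal]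
  refine ⟨Module.Flat.of_linearEquiv
    (DirectSum.linearEquivFunOnFintype A (Fin r) fun i => AdicRing.CLoc I (f i)).symm,
    fun 𝔞 h𝔞 htop => ?_⟩
  obtain ⟨𝔪, h𝔪, hle⟩ := Ideal.exists_le_maximal 𝔞 h𝔞
  have hI𝔪 : I.map (algebraMap R A) ≤ 𝔪 :=
    (ArtinRees.map_le_jacobson hR hA).trans (sInf_le ⟨bot_le, h𝔪⟩)
  obtain ⟨i, hi⟩ : ∃ i, f i ∉ 𝔪 := by
    by_contra! h
    exact h𝔪.ne_top (top_le_iff.1 (hf ▸ Ideal.span_le.2 (by rintro _ ⟨i, rfl⟩; exact h i)))
  obtain ⟨χ, hχ⟩ := exists_residue 𝔪 hI𝔪 hi
  have h1 : ∀ x ∈ (𝔞 • ⊤ : Submodule A (∀ i, AdicRing.CLoc I (f i))), χ (x i) = 0 := fun x hx => by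
    induction hx using Submodule.smul_induction_on' with
    | smul a ha y _ =>
        rw [Pi.smul_apply, Algebra.smul_def, map_mul, hχ, Ideal.Quotient.eq_zero_iff_mem.2 (hle ha),
          zero_mul]
    | add x _ y _ hx hy => rw [Pi.add_apply, map_add, hx, hy, add_zero]
  have h2 := h1 1 (by rw [htop]; trivial)
  rw [Pi.one_apply, map_one] at h2
  exact h𝔪.ne_top ((Ideal.eq_top_iff_one 𝔪).2 (Ideal.Quotient.eq_zero_iff_mem.1 h2))

end Groth.Agent.Lib.Adic.Bosch.Localization
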