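import Groth.Agent.Lib.Adic.Bosch.Extension
import Groth.Agent.Lib.Adic.Bosch.Localization
import Groth.Agent.Lib.Dim.Integral
import Mathlib.RingTheory.Jacobson.Artinian
import Mathlib.RingTheory.HopkinsLevitzki

/-! Rig-points: domains finite over a complete height-one valuation ring. -/

set_option autoImplicit false
set_option linter.unusedSectionVars false
set_option linter.style.haveILetI false

universe u

namespace Groth.Agent.Lib.Adic.Bosch.Point

open Groth.Agent.Lib.Adic.Bosch.IdealFG Groth.Agent.Lib.Adic.Bosch.Basic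

variable {R : Type u} [CommRing R] [IsDomain R] [ValuationRing R] [Ring.KrullDimLE 1 R]
variable {t : R} [IsAdicComplete (Ideal.span {t}) R]

theorem isBase (ht : t ≠ 0) : AdicRing.IsBase R (Ideal.span {t}) :=
  ⟨‹_›, Or.inr ⟨‹_›, ValuationRing.toPreValuationRing, ‹_›, t, ht, rfl⟩⟩

theorem injective_algebraMap (ht : t ≠ 0) {B : Type u} [CommRing B] [IsDomain B] [Algebra R B]
    (htB : algebraMap R B t ≠ 0) : Function.Injective (algebraMap R B) := by
  refine (injective_iff_map_eq_zero _).2 fun c hc => ?_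
  by_contra h
  obtain ⟨N, hN⟩ := exists_pow_mem (a := t) Valuation.mem_maximalIdeal h
  obtain ⟨d, hd⟩ := Ideal.mem_span_singleton'.1 hN
  refine pow_ne_zero N htB ?_
  rw [← map_pow, ← hd, map_mul, hc, mul_zero]

theorem dim_base (ht : t ≠ 0) : ringKrullDim R = 1 := by
  refine le_antisymm ((Order.krullDimLE_iff 1 (PrimeSpectrum R)).1 ‹Ring.KrullDimLE 1 R›) ?_
  have h0 : (⟨⊥, Ideal.isPrime_bot⟩ : PrimeSpectrum R) <
      ⟨IsLocalRing.maximalIdeal R, inferInstance⟩ := by
    change (⊥ : Ideal R) < IsLocalRing.maximalIdeal R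
    refine bot_lt_iff_ne_bot.2 fun h => ht ?_
    have := Valuation.mem_maximalIdeal (R := R) (t := t)
    rwa [h, Ideal.mem_bot] at this
  exact le_iSup_of_le ((RelSeries.singleton _ (⟨⊥, Ideal.isPrime_bot⟩ : PrimeSpectrum R)).snoc
    ⟨IsLocalRing.maximalIdeal R, inferInstance⟩ h0) (le_of_eq rfl)

theorem exists_pow_mem_map (ht : t ≠ 0) {B : Type u} [CommRing B] [Algebra R B] {x : B}
    (hx : x ∈ (IsLocalRing.maximalIdeal R).map (algebraMap R B)) :
    ∃ N : ℕ, x ^ N ∈ (Ideal.span {t}).map (algebraMap R B) := by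
  classical
  obtain ⟨s, hs, hxs⟩ : ∃ s : Finset R, (∀ a ∈ s, a ∈ IsLocalRing.maximalIdeal R) ∧
      x ∈ (Ideal.span (s : Set R)).map (algebraMap R B) := by
    induction hx using Submodule.span_induction with
    | mem y hy =>
        obtain ⟨a, ha, rfl⟩ := hy
        exact ⟨{a}, by simpa using ha, Ideal.mem_map_of_mem _ (Ideal.subset_span (by simp))⟩
    | zero => exact ⟨∅, by simp, zero_mem _⟩
    | add a b _ _ ha hb =>
        obtain ⟨s₁, h₁, h₁'⟩ := ha
        obtain ⟨s₂, h₂, h₂'⟩ := hb
        refine ⟨s₁ ∪ s₂, fun a ha => (Finset.mem_union.1 ha).elim (h₁ a) (h₂ a), add_mem ?_ ?_⟩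
        · exact Ideal.map_mono (Ideal.span_mono (by simp)) h₁'
        · exact Ideal.map_mono (Ideal.span_mono (by simp)) h₂'
    | smul c a _ ha =>
        obtain ⟨s₁, h₁, h₁'⟩ := ha
        exact ⟨s₁, h₁, Ideal.mul_mem_left _ c h₁'⟩
  obtain ⟨δ, hδ, hdvd⟩ := exists_dvd_all (s := insert t s) (Finset.insert_nonempty _ _)
  have hδm : δ ∈ IsLocalRing.maximalIdeal R := by
    rcases Finset.mem_insert.1 hδ with rfl | h
    · exact Valuation.mem_maximalIdeal
    · exact hs δ h
  obtain ⟨N, hN⟩ := exists_pow_mem hδm ht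
  refine ⟨N, ?_⟩
  have hle : Ideal.span (s : Set R) ≤ Ideal.span {δ} := Ideal.span_le.2 fun a ha =>
    Ideal.mem_span_singleton.2 (hdvd a (Finset.mem_insert_of_mem ha))
  have h1 := Ideal.pow_mem_pow (Ideal.map_mono hle hxs) N
  rw [← Ideal.map_pow, Ideal.span_singleton_pow] at h1
  exact Ideal.map_mono ((Ideal.span_singleton_le_iff_mem _).2 hN) h1

variable {B : Type u} [CommRing B] [Algebra R B]

/-- The structure of the special fibre over the residue field. -/
noncomputable abbrev fibreAlg : Algebra (R ⧸ IsLocalRing.maximalIdeal R)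
    (B ⧸ (IsLocalRing.maximalIdeal R).map (algebraMap R B)) :=
  (Ideal.quotientMap _ (algebraMap R B) Ideal.le_comap_map).toAlgebra

/-- The special fibre is of finite type. -/
theorem finiteType_fibre (ht : t ≠ 0) (hB : AdicRing.TopFiniteType R (Ideal.span {t}) B) :
    @Algebra.FiniteType (R ⧸ IsLocalRing.maximalIdeal R)
      (B ⧸ (IsLocalRing.maximalIdeal R).map (algebraMap R B)) _ _ fibreAlg := by
  classical
  have hI : (Ideal.span {t}).FG := Submodule.fg_span_singleton t
  let 𝔫 : Ideal B := (IsLocalRing.maximalIdeal R).map (algebraMap R B)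
  have htn : algebraMap R B t ∈ 𝔫 := Ideal.mem_map_of_mem _ Valuation.mem_maximalIdeal
  letI : Field (R ⧸ IsLocalRing.maximalIdeal R) := Ideal.Quotient.field _
  obtain ⟨n, b, hb⟩ := Localization.hasDense_of_topFiniteType hI hB
  have hgen : ∀ y : B, ∃ p : MvPolynomial (Fin n) R, Ideal.Quotient.mk 𝔫 y =
      MvPolynomial.aeval (fun i => Ideal.Quotient.mk 𝔫 (b i)) p := by
    intro y
    obtain ⟨p, hp⟩ := hb y
    refine ⟨p, ?_⟩
    rw [show (fun i => Ideal.Quotient.mk 𝔫 (b i)) = fun i => Ideal.Quotient.mkₐ R 𝔫 (b i) from rfl,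
      ← MvPolynomial.comp_aeval_apply]
    exact Ideal.Quotient.eq.2 ((Ideal.map_le_iff_le_comap.2 (by
      rw [Ideal.span_le, Set.singleton_subset_iff]; exact htn)) hp)
  haveI : Algebra.FiniteType R (B ⧸ 𝔫) :=
    ⟨⟨Finset.univ.image fun i => Ideal.Quotient.mk 𝔫 (b i), by
      classical
      rw [Finset.coe_image, Finset.coe_univ, Set.image_univ, Algebra.eq_top_iff]
      intro y
      obtain ⟨y, rfl⟩ := Ideal.Quotient.mk_surjective y
      obtain ⟨p, hp⟩ := hgen y
      rw [hp, Algebra.adjoin_range_eq_range_aeval]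
      exact ⟨p, rfl⟩⟩⟩
  letI : Algebra (R ⧸ IsLocalRing.maximalIdeal R) (B ⧸ 𝔫) :=
    (Ideal.quotientMap 𝔫 (algebraMap R B) Ideal.le_comap_map).toAlgebra
  haveI : IsScalarTower R (R ⧸ IsLocalRing.maximalIdeal R) (B ⧸ 𝔫) :=
    IsScalarTower.of_algebraMap_eq fun r => rfl
  exact Algebra.FiniteType.of_restrictScalars_finiteType R _ _

/-- A TFT algebra with finite special fibre is finite. -/
theorem finite_of_finite_fibre (ht : t ≠ 0) (hB : AdicRing.TopFiniteType R (Ideal.span {t}) B)
    (hfib : @Module.Finite (R ⧸ IsLocalRing.maximalIdeal R)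
      (B ⧸ (IsLocalRing.maximalIdeal R).map (algebraMap R B)) _ _ fibreAlg.toModule) :
    Module.Finite R B := by
  classical
  have hR := isBase (R := R) ht
  have hI : (Ideal.span {t}).FG := Submodule.fg_span_singleton t
  have hC : IsAdicComplete (Ideal.span {t}) B := ArtinRees.isAdicComplete (A := B) hR hB
  let 𝔫 : Ideal B := (IsLocalRing.maximalIdeal R).map (algebraMap R B)
  obtain ⟨n, b, hb⟩ := Localization.hasDense_of_topFiniteType hI hB
  letI : Algebra (R ⧸ IsLocalRing.maximalIdeal R) (B ⧸ 𝔫) := fibreAlg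
  haveI : IsScalarTower R (R ⧸ IsLocalRing.maximalIdeal R) (B ⧸ 𝔫) :=
    IsScalarTower.of_algebraMap_eq fun r => rfl
  haveI : Module.Finite (R ⧸ IsLocalRing.maximalIdeal R) (B ⧸ 𝔫) := hfib
  let J : Ideal B := (Ideal.span {t}).map (algebraMap R B)
  have hint : ∀ y : B, IsIntegral R (Ideal.Quotient.mk J y) := by
    intro y
    obtain ⟨f, hf, hf0⟩ : IsIntegral R (Ideal.Quotient.mk 𝔫 y) :=
      isIntegral_trans (A := R ⧸ IsLocalRing.maximalIdeal R) _
        (Algebra.IsIntegral.isIntegral _)
    rw [← Polynomial.aeval_def, show Ideal.Quotient.mk 𝔫 y = Ideal.Quotient.mkₐ R 𝔫 y from rfl,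
      Polynomial.aeval_algHom_apply] at hf0
    obtain ⟨N, hN⟩ := exists_pow_mem_map ht (Ideal.Quotient.eq_zero_iff_mem.1 hf0)
    refine ⟨f ^ N, hf.pow N, ?_⟩
    rw [← Polynomial.aeval_def, show Ideal.Quotient.mk J y = Ideal.Quotient.mkₐ R J y from rfl,
      Polynomial.aeval_algHom_apply, map_pow (Polynomial.aeval y)]
    exact Ideal.Quotient.eq_zero_iff_mem.2 hN
  haveI : Algebra.IsIntegral R (B ⧸ J) := ⟨fun z => by
    obtain ⟨y, rfl⟩ := Ideal.Quotient.mk_surjective z
    exact hint y⟩
  haveI : Algebra.FiniteType R (B ⧸ J) :=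
    ⟨⟨Finset.univ.image fun i => Ideal.Quotient.mk J (b i), by
      classical
      rw [Finset.coe_image, Finset.coe_univ, Set.image_univ, Algebra.eq_top_iff]
      intro y
      obtain ⟨y, rfl⟩ := Ideal.Quotient.mk_surjective y
      obtain ⟨p, hp⟩ := hb y
      rw [Algebra.adjoin_range_eq_range_aeval]
      exact ⟨p, (Ideal.Quotient.eq.2 hp).trans (MvPolynomial.comp_aeval_apply b (Ideal.Quotient.mkₐ R J) p) |>.symm⟩⟩⟩
  haveI : Module.Finite R (B ⧸ J) := Algebra.IsIntegral.finite
  refine Complete.finite_of_finite_quotient (I := Ideal.span {t}) ?_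
  have hJ : (Ideal.span {t} • ⊤ : Submodule R B) = J.restrictScalars R := Ideal.smul_top_eq_map _
  rw [hJ]
  exact Module.Finite.equiv (Submodule.Quotient.restrictScalarsEquiv R J).symm

/-- A TFT domain of dimension at most one is finite over the base. -/
theorem finite_of_dim_one (ht : t ≠ 0) [IsDomain B]
    (hB : AdicRing.TopFiniteType R (Ideal.span {t}) B) (htB : algebraMap R B t ≠ 0)
    [Ring.KrullDimLE 1 B] : Module.Finite R B := by
  let 𝔫 : Ideal B := (IsLocalRing.maximalIdeal R).map (algebraMap R B)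
  have htn : algebraMap R B t ∈ 𝔫 := Ideal.mem_map_of_mem _ Valuation.mem_maximalIdeal
  letI : Field (R ⧸ IsLocalRing.maximalIdeal R) := Ideal.Quotient.field _
  letI : Algebra (R ⧸ IsLocalRing.maximalIdeal R) (B ⧸ 𝔫) := fibreAlg
  haveI : Algebra.FiniteType (R ⧸ IsLocalRing.maximalIdeal R) (B ⧸ 𝔫) := finiteType_fibre ht hB
  haveI : Ring.KrullDimLE 0 (B ⧸ 𝔫) := by
    refine Ring.krullDimLE_zero_iff.2 fun P hP => ?_
    have h1 : (P.comap (Ideal.Quotient.mk 𝔫)).IsPrime := Ideal.comap_isPrime _ _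
    have h2 : P.comap (Ideal.Quotient.mk 𝔫) ≠ ⊥ := fun h => htB (by
      have : algebraMap R B t ∈ P.comap (Ideal.Quotient.mk 𝔫) := by
        rw [Ideal.mem_comap, Ideal.Quotient.eq_zero_iff_mem.2 htn]; exact P.zero_mem
      rwa [h, Ideal.mem_bot] at this)
    have h3 := h1.isMaximal_of_ne_bot h2
    have h4 := Ideal.map_comap_of_surjective _ (Ideal.Quotient.mk_surjective (I := 𝔫)) P
    rw [← h4]
    exact (Ideal.map_eq_top_or_isMaximal_of_surjective _ Ideal.Quotient.mk_surjective h3).resolve_left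
      (by rw [h4]; exact hP.ne_top)
  exact finite_of_finite_fibre ht hB ((Module.finite_iff_krullDimLE_zero _ _).2 ‹_›)

/-- The integral closure of such a domain in its fraction field is a valuation ring. -/
theorem preValuationRing_integralClosure_of_finite (ht : t ≠ 0) [IsDomain B] [Algebra.IsIntegral R B]
    (htB : algebraMap R B t ≠ 0) : PreValuationRing (integralClosure B (FractionRing B)) := by
  let L := FractionRing B
  have hinjB := injective_algebraMap ht htB
  have hinj : Function.Injective (algebraMap R L) := by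
    rw [IsScalarTower.algebraMap_eq R B L]
    exact (IsFractionRing.injective B L).comp hinjB
  haveI : FaithfulSMul R L := (faithfulSMul_iff_algebraMap_injective R L).2 hinj
  letI : Algebra (FractionRing R) L := FractionRing.liftAlgebra R L
  haveI : Algebra.IsAlgebraic (FractionRing R) L := ⟨fun x => by
    obtain ⟨a, s, hs, rfl⟩ := IsFractionRing.div_surjective (A := B) x
    have h : ∀ b : B, IsIntegral (FractionRing R) (algebraMap B L b) := fun b =>
      IsIntegral.tower_top ((Algebra.IsIntegral.isIntegral (R := R) b).algebraMap)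
    rw [div_eq_mul_inv]
    exact ((h a).mul (h s).inv).isAlgebraic⟩
  have key := Extension.preValuationRing_integralClosure (R := R) (L := L) ht
  refine ⟨fun a b => ?_⟩
  have hA : ∀ x : integralClosure B L, IsIntegral R (x : L) := fun x =>
    isIntegral_trans (A := B) (x : L) x.2
  obtain ⟨⟨c, hc⟩, h⟩ := key.cond ⟨a, hA a⟩ ⟨b, hA b⟩
  refine ⟨⟨c, IsIntegral.tower_top hc⟩, h.imp (fun h => ?_) (fun h => ?_)⟩ <;>
    exact Subtype.ext (congr_arg Subtype.val h :)

/-- Domains integral over the base are local. -/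
theorem isLocalRing_of_finite (ht : t ≠ 0) [IsDomain B] [Algebra.IsIntegral R B]
    (htB : algebraMap R B t ≠ 0) : IsLocalRing B := by
  haveI := preValuationRing_integralClosure_of_finite ht htB
  haveI : ValuationRing (integralClosure B (FractionRing B)) := {}
  haveI : IsLocalHom (algebraMap B (integralClosure B (FractionRing B))) :=
    RingHom.IsIntegral.isLocalHom (Algebra.IsIntegral.isIntegral (R := B)) fun x y h =>
      IsFractionRing.injective B (FractionRing B) (congr_arg Subtype.val h)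
  exact RingHom.domain_isLocalRing (algebraMap B (integralClosure B (FractionRing B)))

theorem dim_of_finite (ht : t ≠ 0) [IsDomain B] [Algebra.IsIntegral R B]
    (htB : algebraMap R B t ≠ 0) : ringKrullDim B = 1 := by
  haveI : FaithfulSMul R B :=
    (faithfulSMul_iff_algebraMap_injective R B).2 (injective_algebraMap ht htB)
  rw [Dim.Integral.ringKrullDim_eq_of_isIntegral (R := R) (A := B), dim_base (t := t) ht]

theorem algebraMap_t_ne_zero [Nontrivial B]
    (hB : AdicRing.Admissible R (Ideal.span {t}) B) : algebraMap R B t ≠ 0 := fun h =>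
  one_ne_zero (α := B) (hB.2 1 1 fun a ha => by
    rw [pow_one, Ideal.mem_span_singleton'] at ha
    obtain ⟨c, rfl⟩ := ha
    rw [Algebra.smul_def, map_mul, h, mul_zero, zero_mul])

theorem noPowTorsion_of_isDomain [IsDomain B] (htB : algebraMap R B t ≠ 0) :
    AdicRing.NoPowTorsion (Ideal.span {t}) B := fun x k hx => by
  have := hx (t ^ k) (Ideal.pow_mem_pow (Ideal.mem_span_singleton_self t) k)
  rw [Algebra.smul_def, map_pow] at this
  exact (mul_eq_zero.1 this).resolve_left (pow_ne_zero k htB)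

end Groth.Agent.Lib.Adic.Bosch.Point
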