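import Groth.Agent.Lib.Adic.Bosch.Step
import Groth.Agent.Lib.Adic.Bosch.Free
import Mathlib.RingTheory.MvPolynomial.Homogeneous

/-! Saturated ideals of polynomial rings over restricted power series are finitely generated. -/

set_option autoImplicit false
set_option linter.unusedSectionVars false
set_option linter.style.haveILetI false

universe u

namespace Groth.Agent.Lib.Adic.Bosch.Poly

open MvPolynomial Groth.Agent.Lib.Adic.Bosch.Reduction Groth.Agent.Lib.Adic.Bosch.IdealFG

section Flatten

variable {Q : Type u} [CommRing Q] {m n : ℕ}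

/-- Polynomials in `m` variables over polynomials in `n` variables. -/
noncomputable def flat : MvPolynomial (Fin m) (MvPolynomial (Fin n) Q) →+* MvPolynomial (Fin (m + n)) Q :=
  eval₂Hom (rename (Fin.natAdd m)).toRingHom fun i => X (Fin.castAdd n i)

/-- The inverse of `flat`. -/
noncomputable def unflat : MvPolynomial (Fin (m + n)) Q →+* MvPolynomial (Fin m) (MvPolynomial (Fin n) Q) :=
  eval₂Hom (C.comp C) (Fin.append X fun j => C (X j))

theorem unflat_flat (x : MvPolynomial (Fin m) (MvPolynomial (Fin n) Q)) : unflat (flat x) = x := by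
  have h1 : ∀ c : MvPolynomial (Fin n) Q, unflat (m := m) (rename (Fin.natAdd m) c) = C c := fun c => by
    induction c using MvPolynomial.induction_on with
    | C a => simp [unflat]
    | add p q hp hq => simp [map_add, hp, hq]
    | mul_X p i hp => rw [map_mul, map_mul, hp]; simp [unflat, map_mul]
  induction x using MvPolynomial.induction_on with
  | C a => simpa [flat] using h1 a
  | add p q hp hq => simp [map_add, hp, hq]
  | mul_X p i hp => rw [map_mul, map_mul, hp]; simp [flat, unflat]

theorem flat_injective : Function.Injective (flat (Q := Q) (m := m) (n := n)) :=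
  Function.LeftInverse.injective unflat_flat

end Flatten

variable {R : Type u} [CommRing R] [IsDomain R] [ValuationRing R] [Ring.KrullDimLE 1 R]
variable {t : R} [IsAdicComplete (Ideal.span {t}) R] {n m : ℕ}

set_option quotPrecheck false in
local notation "P" => AdicRing.RPow R (Ideal.span {t}) n

theorem exists_model (ht : t ≠ 0) : Nonempty (Step.Model t (m + n) (MvPolynomial (Fin m) P)) := by
  let op : MvPolynomial (Fin (m + n)) R →ₐ[R] MvPolynomial (Fin m) P :=
    aeval (Fin.append X fun j => C (ofPoly t n (X j)))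
  have hop : ∀ c : MvPolynomial (Fin n) R, op (rename (Fin.natAdd m) c) = C (ofPoly t n c) := fun c => by
    induction c using MvPolynomial.induction_on with
    | C a =>
        simp only [op, rename_C, aeval_C]
        rw [IsScalarTower.algebraMap_apply R P (MvPolynomial (Fin m) P), algebraMap_eq,
          IsScalarTower.algebraMap_apply R (MvPolynomial (Fin n) R) P, algebraMap_eq]
    | add p q hp hq => simp [map_add, hp, hq]
    | mul_X p i hp => rw [map_mul, map_mul, hp]; simp [op, map_mul]
  refine ⟨{ ofPoly := op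
            rho := fun 𝔞 h => flat.comp (map (rho (n := n) 𝔞 h).toRingHom)
            rho_ofPoly := fun 𝔞 h c => ?_
            exists_approx := fun x => ?_
            eq_zero := fun 𝔞 h x hx => ?_
            torsionFree := fun x hx => ?_ }⟩
  · induction x using MvPolynomial.induction_on with
    | C p =>
        obtain ⟨c, y, rfl⟩ := exists_approx (R := R) (t := t) (n := n) p
        refine ⟨rename (Fin.natAdd m) c, C y, ?_⟩
        rw [hop, map_add, map_mul, IsScalarTower.algebraMap_apply R P (MvPolynomial (Fin m) P),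
          algebraMap_eq]
    | add p q hp hq =>
        obtain ⟨c, y, rfl⟩ := hp
        obtain ⟨c', y', rfl⟩ := hq
        exact ⟨c + c', y + y', by rw [map_add, mul_add]; abel⟩
    | mul_X p i hp =>
        obtain ⟨c, y, rfl⟩ := hp
        refine ⟨c * X (Fin.castAdd n i), y * X i, ?_⟩
        rw [map_mul, show op (X (Fin.castAdd n i)) = X i by simp [op], add_mul, mul_assoc]
  · induction c using MvPolynomial.induction_on with
    | C a =>
        rw [RingHom.comp_apply, show op (C a) = C (algebraMap R P a) from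
          (aeval_C _ a).trans (IsScalarTower.algebraMap_apply R P (MvPolynomial (Fin m) P) a), map_C, map_C]
        change flat (C (rho 𝔞 h (algebraMap R P a))) = _
        rw [AlgHom.commutes, IsScalarTower.algebraMap_apply R (R ⧸ 𝔞), algebraMap_eq]
        simp [flat, Ideal.Quotient.algebraMap_eq]
    | add p q hp hq => simp only [map_add, hp, hq]
    | mul_X p i hp =>
        rw [map_mul, map_mul, hp, map_mul, map_X]
        congr 1
        induction i using Fin.addCases with
        | left i => simp [op, flat]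
        | right j =>
            simp only [op, aeval_X, Fin.append_right, RingHom.comp_apply, map_C]
            change flat (C (rho 𝔞 h (ofPoly t n (X j)))) = _
            rw [rho_ofPoly, map_X]
            simp [flat]
  · rw [RingHom.comp_apply, ← map_zero (flat (Q := R ⧸ 𝔞) (m := m) (n := n))] at hx
    have hx' := flat_injective hx
    rw [IsScalarTower.algebraMap_eq R P (MvPolynomial (Fin m) P), ← Ideal.map_map, algebraMap_eq,
      mem_map_C_iff]
    intro d
    refine (rho_eq_zero_iff 𝔞 h _).1 ?_
    have := congr_arg (coeff d) hx'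
    rw [coeff_map, coeff_zero] at this
    exact this
  · ext d
    have := congr_arg (coeff d) hx
    rw [IsScalarTower.algebraMap_apply R P (MvPolynomial (Fin m) P), algebraMap_eq, coeff_C_mul,
      coeff_zero] at this
    rw [torsionFree ht _ this, coeff_zero]

section Graded

variable {σ : Type} {A : Type u} [CommRing A]

theorem homogeneousComponent_mul_of_isHomogeneous {a G : MvPolynomial σ A} {e : ℕ}
    (ha : a.IsHomogeneous e) (d : ℕ) :
    homogeneousComponent d (a * G) = if e ≤ d then a * homogeneousComponent (d - e) G else 0 := by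
  conv_lhs => rw [← sum_homogeneousComponent G, Finset.mul_sum, map_sum]
  have hterm : ∀ j, homogeneousComponent d (a * homogeneousComponent j G) =
      if d = e + j then a * homogeneousComponent j G else 0 := fun j =>
    homogeneousComponent_of_mem ((mem_homogeneousSubmodule _ _).2
      (ha.mul (homogeneousComponent_isHomogeneous j G)))
  simp only [hterm]
  by_cases hed : e ≤ d
  · rw [if_pos hed, Finset.sum_eq_single (d - e)]
    · rw [if_pos (by omega)]
    · intro j _ hj; rw [if_neg (by omega)]
    · intro hj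
      rw [Finset.mem_range] at hj
      rw [homogeneousComponent_eq_zero _ _ (by omega), mul_zero, ite_self]
  · rw [if_neg hed]
    exact Finset.sum_eq_zero fun j _ => if_neg (by omega)

theorem isHausdorff_mvPolynomial {J : Ideal A} [IsHausdorff J A] :
    IsHausdorff J (MvPolynomial σ A) := by
  refine ⟨fun x hx => MvPolynomial.ext _ _ fun d => ?_⟩
  rw [coeff_zero]
  refine IsHausdorff.haus' (I := J) _ fun k => ?_
  rw [SModEq.zero, Complete.pow_mul_top]
  have h : ∀ y ∈ (J ^ k • ⊤ : Submodule A (MvPolynomial σ A)), coeff d y ∈ J ^ k := fun y hy => by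
    induction hy using Submodule.smul_induction_on' with
    | smul a ha z _ => rw [coeff_smul, smul_eq_mul]; exact Ideal.mul_mem_right _ _ ha
    | add a _ b _ ha hb => rw [coeff_add]; exact add_mem ha hb
  exact h x (SModEq.zero.1 (hx k))

/-- Setting the first variable to `1`. -/
noncomputable def dehom : MvPolynomial (Fin (m + 1)) A →ₐ[A] MvPolynomial (Fin m) A :=
  aeval (Fin.cons 1 X)

theorem exists_homogeneous (f : MvPolynomial (Fin m) A) :
    ∃ d F, F.IsHomogeneous d ∧ dehom F = f := by
  refine ⟨f.totalDegree, ∑ j ∈ Finset.range (f.totalDegree + 1),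
    X 0 ^ (f.totalDegree - j) * rename Fin.succ (homogeneousComponent j f),
    IsHomogeneous.sum _ _ _ fun j hj => ?_, ?_⟩
  · have := (isHomogeneous_X_pow (R := A) (0 : Fin (m + 1)) (f.totalDegree - j)).mul
      ((homogeneousComponent_isHomogeneous j f).rename_isHomogeneous (f := Fin.succ))
    rwa [Nat.sub_add_cancel (Nat.lt_succ_iff.1 (Finset.mem_range.1 hj))] at this
  · conv_rhs => rw [← sum_homogeneousComponent f]
    rw [map_sum]
    refine Finset.sum_congr rfl fun j _ => ?_
    rw [map_mul, map_pow, dehom, aeval_X, Fin.cons_zero, one_pow, one_mul, aeval_rename]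
    have : (Fin.cons 1 X : Fin (m + 1) → MvPolynomial (Fin m) A) ∘ Fin.succ = X := by
      funext i; simp
    rw [this, aeval_X_left_apply]

end Graded

/-- Saturated ideals of `R⟨ζ⟩[X]` are finitely generated. -/
theorem fg_of_saturated (ht : t ≠ 0) {N : Ideal (MvPolynomial (Fin m) P)}
    (hsat : ∀ x, algebraMap R (MvPolynomial (Fin m) P) t * x ∈ N → x ∈ N) : N.FG := by
  classical
  obtain ⟨D⟩ := exists_model (R := R) (t := t) (n := n) (m := m + 1) ht
  let Nh : Ideal (MvPolynomial (Fin (m + 1)) P) :=
    { carrier := {F | ∀ d, dehom (homogeneousComponent d F) ∈ N}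
      zero_mem' := fun d => by simp
      add_mem' := fun {F G} hF hG d => by rw [map_add, map_add]; exact add_mem (hF d) (hG d)
      smul_mem' := fun c F hF d => by
        rw [smul_eq_mul, ← sum_homogeneousComponent c, Finset.sum_mul, map_sum, map_sum]
        refine Ideal.sum_mem _ fun j _ => ?_
        rw [homogeneousComponent_mul_of_isHomogeneous (homogeneousComponent_isHomogeneous j c)]
        split_ifs
        · rw [map_mul]; exact N.mul_mem_left _ (hF _)
        · simp }
  have hmul : ∀ (a : P) (F : MvPolynomial (Fin (m + 1)) P) d,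
      homogeneousComponent d (C a * F) = C a * homogeneousComponent d F := fun a F d => by
    rw [C_mul', C_mul', map_smul]
  have hNsat : ∀ x, algebraMap R (MvPolynomial (Fin (m + 1)) P) t * x ∈ Nh → x ∈ Nh := fun x hx d => by
    refine hsat _ ?_
    have h := hx d
    rw [IsScalarTower.algebraMap_apply R P, algebraMap_eq, hmul, map_mul, dehom, aeval_C] at h
    rwa [IsScalarTower.algebraMap_apply R P (MvPolynomial (Fin m) P)]
  obtain ⟨δ, hδ, G, hG, hGJ, hJ⟩ := Step.exists_step D ht hNsat
  obtain ⟨k₀, hk₀⟩ := exists_pow_mem hδ ht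
  have hk : ∀ k, Nh ≤ G ⊔ Ideal.span {algebraMap R (MvPolynomial (Fin (m + 1)) P) δ ^ k} * Nh := by
    intro k
    induction k with
    | zero => rw [pow_zero, Ideal.span_singleton_one, Ideal.top_mul]; exact le_sup_right
    | succ k ih =>
        refine ih.trans (sup_le le_sup_left ?_)
        refine (Ideal.mul_mono_right hJ).trans ?_
        rw [Ideal.mul_sup, ← mul_assoc, Ideal.span_singleton_mul_span_singleton, ← pow_succ]
        exact sup_le (le_sup_of_le_left Ideal.mul_le_right) le_sup_right
  -- homogeneous generators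
  obtain ⟨s, hs⟩ := hG
  let ι := Σ g : s, Fin ((g : MvPolynomial (Fin (m + 1)) P).totalDegree + 1)
  let h : ι → MvPolynomial (Fin (m + 1)) P := fun i => homogeneousComponent i.2 i.1.1
  have hhom : ∀ i, (h i).IsHomogeneous (i.2 : ℕ) := fun i => homogeneousComponent_isHomogeneous _ _
  have hhN : ∀ i, dehom (h i) ∈ N := fun i =>
    (hGJ (hs ▸ Ideal.subset_span i.1.2) : (i.1 : MvPolynomial (Fin (m + 1)) P) ∈ Nh) i.2
  have hGh : G ≤ Ideal.span (Set.range h) := by
    rw [← hs, Ideal.span_le]
    intro g hg
    rw [← sum_homogeneousComponent g]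
    refine Ideal.sum_mem _ fun j hj => Ideal.subset_span ⟨⟨⟨g, hg⟩, ⟨j, Finset.mem_range.1 hj⟩⟩, rfl⟩
  refine ⟨Finset.univ.image fun i => dehom (h i), le_antisymm ?_ fun f hf => ?_⟩
  · rw [Ideal.span_le, Finset.coe_image]
    rintro _ ⟨i, -, rfl⟩
    exact hhN i
  obtain ⟨d, F, hF, rfl⟩ := exists_homogeneous f
  let Nd : Submodule P (MvPolynomial (Fin (m + 1)) P) :=
    homogeneousSubmodule (Fin (m + 1)) P d ⊓ Nh.restrictScalars P
  let Gd : Submodule P (MvPolynomial (Fin (m + 1)) P) :=
    (Finset.univ : Finset ι).sup fun i => if (i.2 : ℕ) ≤ d then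
      (homogeneousSubmodule (Fin (m + 1)) P (d - i.2)).map (LinearMap.mulLeft P (h i)) else ⊥
  have hGd : Gd.FG := by
    refine Submodule.fg_finset_sup _ _ fun i _ => ?_
    split_ifs
    · exact (homogeneousSubmodule_fg _ _ _).map _
    · exact Submodule.fg_bot
  have hGdle : Gd ≤ (Ideal.span (Set.range h)).restrictScalars P := by
    refine Finset.sup_le fun i _ => ?_
    split_ifs
    · rintro _ ⟨y, -, rfl⟩
      exact Ideal.mul_mem_right _ _ (Ideal.subset_span ⟨i, rfl⟩)
    · exact bot_le
  have hhNh : ∀ i, h i ∈ Nh := fun i e => by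
    rw [homogeneousComponent_of_mem ((mem_homogeneousSubmodule _ _).2 (hhom i))]
    split_ifs
    · exact hhN i
    · simp
  have hGdN : Gd ≤ Nd := by
    refine Finset.sup_le fun i _ => ?_
    split_ifs with hi
    · rintro _ ⟨y, hy, rfl⟩
      refine ⟨?_, Ideal.mul_mem_right _ _ (hhNh i)⟩
      have := (hhom i).mul ((mem_homogeneousSubmodule _ _).1 hy)
      rw [Nat.add_sub_cancel' hi] at this
      exact (mem_homogeneousSubmodule _ _).2 this
    · exact bot_le
  haveI := isAdicComplete_rpow (t := t) (n := n) (R := R)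
  haveI : IsAdicComplete ((Ideal.span {t}).map (algebraMap R P)) P :=
    (IsAdicComplete.map_algebraMap_iff (Ideal.span {t}) P).2 ‹_›
  haveI := isHausdorff_mvPolynomial (σ := Fin (m + 1)) (A := P) (J := (Ideal.span {t}).map (algebraMap R P))
  have hle : Nd ≤ Gd ⊔ (Ideal.span {t}).map (algebraMap R P) • Nd := by
    rintro E ⟨hE1, hE2⟩
    obtain ⟨u, hu, v, hv, rfl⟩ := Submodule.mem_sup.1 (hk k₀ hE2)
    obtain ⟨w, hw, rfl⟩ := Ideal.mem_span_singleton_mul.1 hv
    obtain ⟨c, hc⟩ := (Submodule.mem_span_range_iff_exists_fun _).1 (hGh hu)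
    have hE : u + algebraMap R _ δ ^ k₀ * w = homogeneousComponent d u +
        C (algebraMap R P (δ ^ k₀)) * homogeneousComponent d w := by
      conv_lhs => rw [← homogeneousComponent_eq_self ((mem_homogeneousSubmodule _ _).1 hE1)]
      rw [map_add, ← map_pow, IsScalarTower.algebraMap_apply R P, algebraMap_eq, hmul]
    rw [hE]
    refine Submodule.mem_sup.2 ⟨_, ?_, _, ?_, rfl⟩
    · rw [← hc, map_sum]
      refine Submodule.sum_mem _ fun i _ => ?_
      rw [smul_eq_mul, mul_comm, homogeneousComponent_mul_of_isHomogeneous (hhom i)]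
      split_ifs with hi
      · exact Finset.le_sup (f := fun i : ι => if (i.2 : ℕ) ≤ d then
          (homogeneousSubmodule (Fin (m + 1)) P (d - i.2)).map (LinearMap.mulLeft P (h i)) else ⊥)
          (Finset.mem_univ i) (by
            rw [if_pos hi]
            exact Submodule.mem_map_of_mem (homogeneousComponent_mem _ _))
      · exact zero_mem _
    · rw [C_mul']
      refine Submodule.smul_mem_smul (Ideal.mem_map_of_mem _ hk₀) ⟨homogeneousComponent_mem _ _, fun e => ?_⟩
      rw [homogeneousComponent_of_mem (homogeneousComponent_mem d w)]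
      split_ifs
      · exact hw d
      · simp
  have hFN : F ∈ Nd := by
    refine ⟨(mem_homogeneousSubmodule _ _).2 hF, fun e => ?_⟩
    rw [homogeneousComponent_of_mem ((mem_homogeneousSubmodule _ _).2 hF)]
    split_ifs
    · exact hf
    · simp
  have hFG := hGdle (Complete.le_of_le_sup_smul hGd hGdN hle hFN)
  have h2 : (Ideal.span (Set.range h)).map dehom ≤ Ideal.span (Set.range fun i => dehom (h i)) :=
    Ideal.map_le_iff_le_comap.2 (Ideal.span_le.2 (by
      rintro _ ⟨i, rfl⟩; exact Ideal.subset_span ⟨i, rfl⟩))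
  have := h2 (Ideal.mem_map_of_mem dehom hFG)
  simpa only [Finset.coe_image, Finset.coe_univ, Set.image_univ] using this

/-- Saturated submodules of finite modules over finite type algebras over restricted power series. -/
theorem fg_of_saturated_finiteType (ht : t ≠ 0) {C' : Type u} [CommRing C'] [Algebra P C']
    [Algebra R C'] [IsScalarTower R P C'] [Algebra.FiniteType P C'] {M : Type u} [AddCommGroup M]
    [Module C' M] [Module.Finite C' M] {N : Submodule C' M}
    (hsat : ∀ x, algebraMap R C' t • x ∈ N → x ∈ N) : N.FG := by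
  classical
  letI : Module C'ᵐᵒᵖ M := Module.compHom M ((RingHom.id C').fromOpposite mul_comm)
  haveI : IsCentralScalar C' M := ⟨fun _ _ => rfl⟩
  letI : Module P M := Module.compHom M (algebraMap P C')
  haveI : IsScalarTower P C' M := IsScalarTower.of_algebraMap_smul fun _ _ => rfl
  letI : Module Pᵐᵒᵖ M := Module.compHom M ((RingHom.id P).fromOpposite mul_comm)
  haveI : IsCentralScalar P M := ⟨fun _ _ => rfl⟩
  let T : Ideal C' :=
    { carrier := {c | ∃ k : ℕ, algebraMap R C' t ^ k * c = 0}
      zero_mem' := ⟨0, by simp⟩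
      add_mem' := by
        rintro a b ⟨k, hk⟩ ⟨l, hl⟩
        refine ⟨k + l, ?_⟩
        rw [mul_add, pow_add, mul_right_comm, hk, zero_mul, zero_add, mul_assoc, hl, mul_zero]
      smul_mem' := fun a b ⟨k, hk⟩ => ⟨k, by rw [smul_eq_mul, mul_left_comm, hk, mul_zero]⟩ }
  have hpow : ∀ (k : ℕ) (x : M), algebraMap R C' t ^ k • x ∈ N → x ∈ N := by
    intro k
    induction k with
    | zero => simp
    | succ k ih =>
        intro x hx
        exact ih x (hsat _ (by rwa [← mul_smul, ← pow_succ']))
  have hTM : ∀ c ∈ T, ∀ x : M, c • x ∈ N := fun c ⟨k, hk⟩ x => hpow k _ (by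
    rw [← mul_smul, hk, zero_smul]; exact N.zero_mem)
  obtain ⟨s, g, hg⟩ := Module.Finite.exists_fin' C' M
  obtain ⟨r, π, hπ⟩ := Algebra.FiniteType.iff_quotient_mvPolynomial''.1 (‹_› : Algebra.FiniteType P C')
  let b : Fin (r + s) → TrivSqZeroExt C' M := Fin.append
    (fun i => TrivSqZeroExt.inl (π (X i))) (fun j => TrivSqZeroExt.inr (g (Pi.single j 1)))
  let ψ : MvPolynomial (Fin (r + s)) P →ₐ[P] TrivSqZeroExt C' M := aeval b
  have hinl : ∀ p, ψ (rename (Fin.castAdd s) p) = TrivSqZeroExt.inl (π p) := by
    intro p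
    have : ψ.comp (rename (Fin.castAdd s)) =
        ((TrivSqZeroExt.inlAlgHom C' C' M).restrictScalars P).comp π := by
      refine MvPolynomial.algHom_ext fun i => ?_
      simp [ψ, b]
    exact DFunLike.congr_fun this p
  have hψ : Function.Surjective ψ := fun x => by
    obtain ⟨p, hp⟩ := hπ x.fst
    obtain ⟨v, hv⟩ := hg x.snd
    choose q hq using fun j => hπ (v j)
    refine ⟨rename (Fin.castAdd s) p + ∑ j, rename (Fin.castAdd s) (q j) * X (Fin.natAdd r j), ?_⟩
    simp only [map_add, map_sum, map_mul, hinl, hp, hq, ψ, aeval_X, b, Fin.append_right,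
      TrivSqZeroExt.inl_mul_inr, ← TrivSqZeroExt.inr_sum]
    refine TrivSqZeroExt.ext (by simp) ?_
    simp only [TrivSqZeroExt.snd_add, TrivSqZeroExt.snd_inl, TrivSqZeroExt.snd_inr, zero_add, ← hv]
    rw [← map_sum' g]
  let K : Ideal (TrivSqZeroExt C' M) :=
    { carrier := {x | x.fst ∈ T ∧ x.snd ∈ N}
      add_mem' := fun {x y} hx hy => ⟨by simpa using add_mem hx.1 hy.1, by simpa using add_mem hx.2 hy.2⟩
      zero_mem' := ⟨T.zero_mem, N.zero_mem⟩
      smul_mem' := fun a x hx => ⟨by simpa using T.mul_mem_left a.fst hx.1, by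
        rw [smul_eq_mul, TrivSqZeroExt.snd_mul, op_smul_eq_smul]
        exact add_mem (N.smul_mem _ hx.2) (hTM _ hx.1 _)⟩ }
  have hK : (K.comap ψ).FG := by
    refine fg_of_saturated ht fun x hx => ?_
    rw [Ideal.mem_comap, map_mul, IsScalarTower.algebraMap_apply R P, AlgHom.commutes,
      TrivSqZeroExt.algebraMap_eq_inl', ← IsScalarTower.algebraMap_apply] at hx
    obtain ⟨h1, h2⟩ := hx
    rw [TrivSqZeroExt.fst_mul, TrivSqZeroExt.fst_inl] at h1
    obtain ⟨k, hk⟩ := h1
    refine ⟨⟨k + 1, by rw [pow_succ, mul_assoc, hk]⟩, hsat _ ?_⟩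
    simpa using h2
  have hK' : K.FG := by
    rw [← Ideal.map_comap_of_surjective ψ hψ K]
    exact hK.map _
  obtain ⟨S, hS⟩ := hK'
  refine ⟨S.image TrivSqZeroExt.snd ∪ (S ×ˢ (Finset.univ : Finset (Fin s))).image
    (fun a => a.1.fst • g (Pi.single a.2 1)), le_antisymm (Submodule.span_le.2 ?_) fun x hx => ?_⟩
  · intro x hx
    rcases Finset.mem_union.1 (Finset.mem_coe.1 hx) with hx | hx
    · obtain ⟨y, hy, rfl⟩ := Finset.mem_image.1 hx
      exact (hS ▸ Submodule.subset_span hy : y ∈ K).2
    · obtain ⟨a, ha, rfl⟩ := Finset.mem_image.1 hx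
      exact hTM _ (hS ▸ Submodule.subset_span (Finset.mem_product.1 ha).1 : a.1 ∈ K).1 _
  · have hmem : TrivSqZeroExt.inr x ∈ Submodule.span (TrivSqZeroExt C' M) (S : Set (TrivSqZeroExt C' M)) := by
      rw [show Submodule.span (TrivSqZeroExt C' M) (S : Set (TrivSqZeroExt C' M)) = K from hS]
      exact ⟨by simp, by simpa using hx⟩
    obtain ⟨f, -, hf⟩ := Submodule.mem_span_finset.1 hmem
    have := congr_arg TrivSqZeroExt.snd hf
    rw [TrivSqZeroExt.snd_inr, TrivSqZeroExt.snd_sum] at this
    rw [← this]
    refine Submodule.sum_mem _ fun a ha => ?_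
    rw [smul_eq_mul, TrivSqZeroExt.snd_mul, op_smul_eq_smul]
    refine add_mem (Submodule.smul_mem _ _ (Submodule.subset_span (Finset.mem_coe.2
      (Finset.mem_union_left _ (Finset.mem_image_of_mem _ ha))))) ?_
    obtain ⟨v, hv⟩ := hg (f a).snd
    rw [← hv, ← map_sum' g, Finset.smul_sum]
    refine Submodule.sum_mem _ fun j _ => ?_
    rw [smul_comm]
    exact Submodule.smul_mem _ _ (Submodule.subset_span (Finset.mem_coe.2
      (Finset.mem_union_right _ (Finset.mem_image.2 ⟨(a, j), Finset.mem_product.2 ⟨ha, Finset.mem_univ j⟩, rfl⟩))))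
where
  map_sum' {A M : Type u} [CommRing A] [AddCommGroup M] [Module A M] {s : ℕ}
      (g : (Fin s → A) →ₗ[A] M) {v : Fin s → A} : ∑ j, v j • g (Pi.single j 1) = g v := by
    conv_rhs => rw [pi_eq_sum_univ' v, map_sum]
    simp only [map_smul]

end Groth.Agent.Lib.Adic.Bosch.Poly
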