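import Groth.Agent.Lib.Adic.Lift
import Groth.Agent.Lib.Adic.Valuation
import Groth.Agent.Lib.Adic.Restricted
import Mathlib.Algebra.MvPolynomial.Eval
import Mathlib.RingTheory.MvPolynomial.Ideal

/-! Reductions of restricted power series modulo ideals containing `t`. -/

set_option autoImplicit false

universe u

namespace Groth.Agent.Lib.Adic.Bosch.Reduction

open MvPolynomial

variable {R : Type u} [CommRing R] {t : R} {n : ℕ}

/-- The inclusion of polynomials into restricted power series. -/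
noncomputable abbrev ofPoly (t : R) (n : ℕ) :
    MvPolynomial (Fin n) R →+* AdicRing.RPow R (Ideal.span {t}) n :=
  algebraMap _ _

theorem mem_map_singleton_iff {A B : Type*} [CommRing A] [CommRing B] (f : A →+* B) (a : A)
    (x : B) : x ∈ (Ideal.span {a}).map f ↔ ∃ y, f a * y = x := by
  rw [Ideal.map_span, Set.image_singleton, Ideal.mem_span_singleton']
  simp only [mul_comm]

theorem exists_approx (x : AdicRing.RPow R (Ideal.span {t}) n) :
    ∃ (c : MvPolynomial (Fin n) R) (y : AdicRing.RPow R (Ideal.span {t}) n),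
      x = ofPoly t n c + algebraMap R _ t * y := by
  obtain ⟨c, hc⟩ := Lift.exists_of_sub_mem (R := R) (I := Ideal.span {t})
    (Submodule.fg_span_singleton t) (C := MvPolynomial (Fin n) R) x 1
  rw [pow_one] at hc
  obtain ⟨y, hy⟩ := (mem_map_singleton_iff _ _ _).1 hc
  exact ⟨c, y, (add_sub_cancel _ x).symm.trans (congrArg (ofPoly t n c + ·) hy.symm)⟩

/-- There is a reduction map modulo an ideal containing `t`. -/
theorem exists_rho (𝔞 : Ideal R) (h : t ∈ 𝔞) :
    ∃ ρ : AdicRing.RPow R (Ideal.span {t}) n →ₐ[R] MvPolynomial (Fin n) (R ⧸ 𝔞),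
      ∀ c, ρ (ofPoly t n c) = map (Ideal.Quotient.mk 𝔞) c := by
  have hbot : (Ideal.span {t}).map (algebraMap R (MvPolynomial (Fin n) (R ⧸ 𝔞))) = ⊥ := by
    rw [Ideal.map_span, Set.image_singleton, Ideal.span_singleton_eq_bot,
      IsScalarTower.algebraMap_apply R (R ⧸ 𝔞), Ideal.Quotient.algebraMap_eq,
      Ideal.Quotient.eq_zero_iff_mem.2 h, map_zero]
  haveI : IsAdicComplete ((Ideal.span {t}).map (algebraMap R (MvPolynomial (Fin n) (R ⧸ 𝔞))))
      (MvPolynomial (Fin n) (R ⧸ 𝔞)) := by rw [hbot]; infer_instance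
  obtain ⟨ρ, hρ⟩ := Lift.exists_lift (I := Ideal.span {t})
    (mapAlgHom (σ := Fin n) (Ideal.Quotient.mkₐ R 𝔞))
  exact ⟨ρ, fun c => hρ c⟩

/-- The reduction of restricted power series modulo an ideal containing `t`. -/
noncomputable def rho (𝔞 : Ideal R) (h : t ∈ 𝔞) :
    AdicRing.RPow R (Ideal.span {t}) n →ₐ[R] MvPolynomial (Fin n) (R ⧸ 𝔞) :=
  (exists_rho 𝔞 h).choose

theorem rho_ofPoly (𝔞 : Ideal R) (h : t ∈ 𝔞) (c : MvPolynomial (Fin n) R) :
    rho 𝔞 h (ofPoly t n c) = map (Ideal.Quotient.mk 𝔞) c :=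
  (exists_rho 𝔞 h).choose_spec c

theorem rho_algebraMap_eq_zero (𝔞 : Ideal R) (h : t ∈ 𝔞) {a : R} (ha : a ∈ 𝔞) :
    rho (n := n) 𝔞 h (algebraMap R _ a) = 0 := by
  rw [AlgHom.commutes, IsScalarTower.algebraMap_apply R (R ⧸ 𝔞), Ideal.Quotient.algebraMap_eq,
    Ideal.Quotient.eq_zero_iff_mem.2 ha, map_zero]

theorem rho_surjective (𝔞 : Ideal R) (h : t ∈ 𝔞) :
    Function.Surjective (rho (n := n) 𝔞 h) := fun y => by
  obtain ⟨c, hc⟩ := map_surjective (Ideal.Quotient.mk 𝔞) Ideal.Quotient.mk_surjective y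
  exact ⟨ofPoly t n c, (rho_ofPoly 𝔞 h c).trans hc⟩

theorem rho_eq_zero_iff (𝔞 : Ideal R) (h : t ∈ 𝔞) (x : AdicRing.RPow R (Ideal.span {t}) n) :
    rho 𝔞 h x = 0 ↔ x ∈ 𝔞.map (algebraMap R _) := by
  constructor
  · intro hx
    obtain ⟨c, y, rfl⟩ := exists_approx x
    refine add_mem ?_ (Ideal.mul_mem_right _ _ (Ideal.mem_map_of_mem _ h))
    rw [map_add, map_mul, rho_algebraMap_eq_zero 𝔞 h h, zero_mul, add_zero, rho_ofPoly] at hx
    rw [IsScalarTower.algebraMap_eq R (MvPolynomial (Fin n) R), ← Ideal.map_map]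
    refine Ideal.mem_map_of_mem _ ?_
    rw [algebraMap_eq, mem_map_C_iff]
    intro d
    have := congr_arg (coeff d) hx
    rwa [coeff_map, coeff_zero, Ideal.Quotient.eq_zero_iff_mem] at this
  · intro hx
    have : 𝔞.map (algebraMap R (AdicRing.RPow R (Ideal.span {t}) n)) ≤
        RingHom.ker (rho (n := n) 𝔞 h) :=
      Ideal.map_le_iff_le_comap.2 fun a ha => rho_algebraMap_eq_zero 𝔞 h ha
    exact this hx

/-- Divisibility by `c` is detected by the reduction modulo `c`. -/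
theorem rho_span_eq_zero_iff (c : R) (h : t ∈ Ideal.span {c})
    (x : AdicRing.RPow R (Ideal.span {t}) n) :
    rho (Ideal.span {c}) h x = 0 ↔ ∃ y, algebraMap R _ c * y = x := by
  exact (rho_eq_zero_iff _ h x).trans (mem_map_singleton_iff _ _ _)

theorem factor_rho {𝔞 𝔟 : Ideal R} (h : t ∈ 𝔞) (hle : 𝔞 ≤ 𝔟)
    (x : AdicRing.RPow R (Ideal.span {t}) n) :
    map (Ideal.Quotient.factor hle) (rho 𝔞 h x) = rho 𝔟 (hle h) x := by
  obtain ⟨c, y, rfl⟩ := exists_approx x
  simp only [map_add, map_mul, rho_algebraMap_eq_zero 𝔞 h h,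
    rho_algebraMap_eq_zero 𝔟 (hle h) (hle h), rho_ofPoly, zero_mul, map_zero, add_zero, map_map,
    Ideal.Quotient.factor_comp_mk]

end Groth.Agent.Lib.Adic.Bosch.Reduction
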