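import Groth.Agent.Lib.Adic.Bosch.Point
import Mathlib.RingTheory.NoetherNormalization
import Mathlib.RingTheory.Localization.BaseChange
import Mathlib.RingTheory.Jacobson.Ring
import Mathlib.FieldTheory.IsAlgClosed.AlgebraicClosure
import Mathlib.RingTheory.LocalRing.Module

/-! Rig-points of algebras topologically of finite type. -/

set_option autoImplicit false
set_option linter.unusedSectionVars false
set_option linter.style.haveILetI false

universe u

open scoped TensorProduct

namespace Groth.Agent.Lib.Adic.Bosch.Rig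

open Groth.Agent.Lib.Adic.Bosch.IdealFG Groth.Agent.Lib.Adic.Bosch.Basic
  Groth.Agent.Lib.Adic.Bosch.Reduction

variable {R : Type u} [CommRing R] [IsDomain R] [ValuationRing R] [Ring.KrullDimLE 1 R]
variable {t : R} [IsAdicComplete (Ideal.span {t}) R]

/-- S11547. -/
theorem admissible_range (ht : t ≠ 0) {A A' B' : Type u} [CommRing A] [Algebra R A]
    [CommRing A'] [Algebra R A'] [CommRing B'] [Algebra R B'] [IsDomain B'] [IsLocalRing B']
    (hA : AdicRing.Admissible R (Ideal.span {t}) A) (φ : A →ₐ[R] A')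
    (hB' : AdicRing.Admissible R (Ideal.span {t}) B') (hdim : ringKrullDim B' = 1)
    (u' : A' →ₐ[R] B') :
    AdicRing.Admissible R (Ideal.span {t}) (u'.comp φ).range ∧
      IsLocalRing (u'.comp φ).range ∧ ringKrullDim (u'.comp φ).range = 1 := by
  have hR := Point.isBase (R := R) ht
  have htB := Point.algebraMap_t_ne_zero hB'
  haveI : Ring.KrullDimLE 1 B' := (Order.krullDimLE_iff 1 _).2 hdim.le
  obtain ⟨n, ψ, hψ, hK⟩ := hB'.1
  haveI : Module.Finite R B' := Point.finite_of_dim_one ht ⟨n, ψ, hψ⟩ htB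
  have htC : algebraMap R (u'.comp φ).range t ≠ 0 := fun h => htB (congr_arg Subtype.val h)
  haveI : Algebra.IsIntegral R (u'.comp φ).range :=
    Algebra.IsIntegral.of_injective (u'.comp φ).range.val Subtype.val_injective
  obtain ⟨m, χ, hχ, -⟩ := hA.1
  have hC : AdicRing.TopFiniteType R (Ideal.span {t}) (u'.comp φ).range :=
    ⟨m, (u'.comp φ).rangeRestrict.comp χ, (u'.comp φ).rangeRestrict_surjective.comp hχ⟩
  have hT := Point.noPowTorsion_of_isDomain (B := (u'.comp φ).range) htC
  exact ⟨⟨Basic.topFinitePresentation_of_noPowTorsion hR hC hT, hT⟩,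
    Point.isLocalRing_of_finite ht htC, Point.dim_of_finite ht htC⟩

/-- S11542. -/
theorem surjective_of_cLoc (ht : t ≠ 0) {A B : Type u} [CommRing A] [Algebra R A] (f : A)
    [CommRing B] [Algebra R B] [IsDomain B] [IsLocalRing B]
    (hB : AdicRing.Admissible R (Ideal.span {t}) B) (hdim : ringKrullDim B = 1)
    (u : AdicRing.CLoc (Ideal.span {t}) f →ₐ[R] B) (hu : Function.Surjective u) :
    Function.Surjective (u.toRingHom.comp (algebraMap A (AdicRing.CLoc (Ideal.span {t}) f))) := by
  have htB := Point.algebraMap_t_ne_zero hB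
  haveI : Ring.KrullDimLE 1 B := (Order.krullDimLE_iff 1 _).2 hdim.le
  obtain ⟨n, ψ, hψ, hK⟩ := hB.1
  haveI : Module.Finite R B := Point.finite_of_dim_one ht ⟨n, ψ, hψ⟩ htB
  let Af := Localization.Away f
  let ι : A →ₐ[R] B := u.comp (IsScalarTower.toAlgHom R A _)
  let j : Af →ₐ[R] B := u.comp (IsScalarTower.toAlgHom R Af _)
  have hj : ∀ a, j (algebraMap A Af a) = ι a := fun a =>
    congr_arg u (IsScalarTower.algebraMap_apply A Af (AdicRing.CLoc (Ideal.span {t}) f) a).symm
  let C := ι.range
  haveI : Algebra.IsIntegral C B := ⟨fun x => IsIntegral.tower_top (R := R) (Algebra.IsIntegral.isIntegral x)⟩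
  haveI : IsLocalHom (algebraMap C B) :=
    RingHom.IsIntegral.isLocalHom (Algebra.IsIntegral.isIntegral (R := C)) Subtype.val_injective
  have hfu : IsUnit (⟨ι f, ⟨f, rfl⟩⟩ : C) := by
    refine IsUnit.of_map (algebraMap C B) _ ?_
    change IsUnit (ι f)
    rw [← hj]
    exact (IsLocalization.Away.algebraMap_isUnit f).map j
  obtain ⟨v, hv⟩ := hfu.exists_right_inv
  have hjC : ∀ c : Af, j c ∈ C := by
    intro c
    obtain ⟨k, a, ha⟩ := IsLocalization.Away.surj f c
    have h1 := congr_arg j ha
    rw [map_mul, map_pow, hj, hj] at h1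
    have hv' : ι f * (v : B) = 1 := congr_arg Subtype.val hv
    have h2 : j c = ι a * (v : B) ^ k := by
      rw [← h1, mul_assoc, ← mul_pow, hv', one_pow, mul_one]
    rw [h2]
    exact C.mul_mem ⟨a, rfl⟩ (C.pow_mem v.2 k)
  have hle : (⊤ : Submodule R B) ≤ Subalgebra.toSubmodule C ⊔ Ideal.span {t} • (⊤ : Submodule R B) := by
    intro y _
    obtain ⟨x, rfl⟩ := hu y
    obtain ⟨c, hc⟩ := Lift.exists_of_sub_mem (R := R) (I := Ideal.span {t})
      (Submodule.fg_span_singleton t) (C := Af) x 1
    refine Submodule.mem_sup.2 ⟨j c, hjC c, u x - j c, ?_, add_sub_cancel _ _⟩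
    rw [pow_one] at hc
    rw [Ideal.smul_top_eq_map, Submodule.restrictScalars_mem]
    have h := (Localization.map_map_algHom (Ideal.span {t}) u).le (Ideal.mem_map_of_mem u hc)
    exact (congrArg (· ∈ (Ideal.span {t}).map (algebraMap R B)) (map_sub u x _)).mp h
  have htop := Submodule.le_of_le_smul_of_le_jacobson_bot Module.Finite.fg_top
    (IsAdicComplete.le_jacobson_bot (Ideal.span {t})) hle
  intro y
  obtain ⟨a, ha⟩ := htop (Submodule.mem_top : y ∈ ⊤)
  exact ⟨a, ha⟩

/-- If every nonzero prime of a TFT domain contains `t`, it is finite over the base. -/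
theorem finite_of_forall_prime (ht : t ≠ 0) {B : Type u} [CommRing B] [Algebra R B] [IsDomain B]
    (hB : AdicRing.TopFiniteType R (Ideal.span {t}) B) (htB : algebraMap R B t ≠ 0)
    (hq : ∀ q : Ideal B, q.IsPrime → q ≠ ⊥ → algebraMap R B t ∈ q) : Module.Finite R B := by
  classical
  have hR := Point.isBase (R := R) ht
  have hI : (Ideal.span {t}).FG := Submodule.fg_span_singleton t
  have htm : t ∈ IsLocalRing.maximalIdeal R := Valuation.mem_maximalIdeal
  letI : Field (R ⧸ IsLocalRing.maximalIdeal R) := Ideal.Quotient.field _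
  let 𝔫 : Ideal B := (IsLocalRing.maximalIdeal R).map (algebraMap R B)
  letI : Algebra (R ⧸ IsLocalRing.maximalIdeal R) (B ⧸ 𝔫) := Point.fibreAlg
  haveI : IsScalarTower R (R ⧸ IsLocalRing.maximalIdeal R) (B ⧸ 𝔫) :=
    IsScalarTower.of_algebraMap_eq fun r => rfl
  haveI : Algebra.FiniteType (R ⧸ IsLocalRing.maximalIdeal R) (B ⧸ 𝔫) := Point.finiteType_fibre ht hB
  haveI : Nontrivial (B ⧸ 𝔫) := by
    obtain ⟨M, hM⟩ := Ideal.exists_maximal B
    refine Ideal.Quotient.nontrivial_iff.2 (ne_top_of_le_ne_top hM.ne_top ?_)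
    rw [Ideal.map_le_iff_le_comap]
    intro a ha
    obtain ⟨N, hN⟩ := Point.exists_pow_mem_map ht (B := B) (Ideal.mem_map_of_mem _ ha)
    refine hM.isPrime.mem_of_pow_mem N ?_
    exact ((ArtinRees.map_le_jacobson hR hB).trans (sInf_le ⟨bot_le, hM⟩)) hN
  obtain ⟨d, g, hg, hgfin⟩ := exists_finite_inj_algHom_of_fg (R ⧸ IsLocalRing.maximalIdeal R) (B ⧸ 𝔫)
  rcases Nat.eq_zero_or_pos d with rfl | hd
  · refine Point.finite_of_finite_fibre ht hB ?_
    letI := g.toRingHom.toAlgebra
    haveI : Module.Finite (MvPolynomial (Fin 0) (R ⧸ IsLocalRing.maximalIdeal R)) (B ⧸ 𝔫) := hgfin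
    haveI : IsScalarTower (R ⧸ IsLocalRing.maximalIdeal R)
        (MvPolynomial (Fin 0) (R ⧸ IsLocalRing.maximalIdeal R)) (B ⧸ 𝔫) :=
      IsScalarTower.of_algebraMap_eq fun r => (g.commutes r).symm
    haveI : Module.Finite (R ⧸ IsLocalRing.maximalIdeal R)
        (MvPolynomial (Fin 0) (R ⧸ IsLocalRing.maximalIdeal R)) :=
      Module.Finite.equiv (MvPolynomial.isEmptyAlgEquiv (R ⧸ IsLocalRing.maximalIdeal R) (Fin 0)).symm.toLinearEquiv
    exact Module.Finite.trans (MvPolynomial (Fin 0) (R ⧸ IsLocalRing.maximalIdeal R)) (B ⧸ 𝔫)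
  exfalso
  have hBc : IsAdicComplete (Ideal.span {t}) B := ArtinRees.isAdicComplete (A := B) hR hB
  haveI : IsAdicComplete ((Ideal.span {t}).map (algebraMap R B)) B :=
    (IsAdicComplete.map_algebraMap_iff _ B).2 hBc
  choose Y hY using fun i => Ideal.Quotient.mk_surjective (g (MvPolynomial.X i))
  obtain ⟨φ, hφ⟩ := Restricted.exists_eval (Ideal.span {t}) Y
  have hcomp : ∀ x, Ideal.Quotient.mk 𝔫 (φ x) = g (rho (IsLocalRing.maximalIdeal R) htm x) := by
    intro x
    obtain ⟨c, y, rfl⟩ := exists_approx x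
    have h0 : φ (algebraMap R _ t) = algebraMap R B t := φ.commutes t
    have htn : Ideal.Quotient.mk 𝔫 (algebraMap R B t) = 0 :=
      Ideal.Quotient.eq_zero_iff_mem.2 (Ideal.mem_map_of_mem _ htm)
    simp only [map_add, map_mul, h0, htn, zero_mul, add_zero, rho_ofPoly,
      rho_algebraMap_eq_zero _ htm htm, map_zero]
    rw [show φ (ofPoly t d c) = MvPolynomial.aeval Y c from hφ c]
    induction c using MvPolynomial.induction_on with
    | C a =>
        rw [MvPolynomial.aeval_C, MvPolynomial.map_C, ← MvPolynomial.algebraMap_eq, g.commutes]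
        rfl
    | add p q hp hq => simp only [map_add, hp, hq]
    | mul_X p i hp => simp only [map_mul, hp, MvPolynomial.aeval_X, MvPolynomial.map_X, hY]
  -- `φ` is injective
  have hφinj : Function.Injective φ := by
    refine (injective_iff_map_eq_zero φ).2 fun x hx => ?_
    by_contra hx0
    haveI := isAdicComplete_rpow (t := t) (n := d) (R := R)
    obtain ⟨N, hN⟩ : ∃ N, x ∉ (Ideal.span {t} ^ N).map (algebraMap R (AdicRing.RPow R (Ideal.span {t}) d)) := by
      by_contra! h
      refine hx0 (IsHausdorff.haus' (I := Ideal.span {t}) x fun N => ?_)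
      rw [SModEq.zero, Ideal.smul_top_eq_map]
      exact h N
    obtain ⟨j, x', hx', hxj⟩ : ∃ (j : ℕ) (x' : AdicRing.RPow R (Ideal.span {t}) d),
        x = algebraMap R _ t ^ j * x' ∧
          x' ∉ (Ideal.span {t}).map (algebraMap R (AdicRing.RPow R (Ideal.span {t}) d)) := by
      clear hx hx0
      induction N generalizing x with
      | zero => exact absurd (by rw [pow_zero, Ideal.one_eq_top, Ideal.map_top]; trivial) hN
      | succ N ih =>
          by_cases hxt : x ∈ (Ideal.span {t}).map (algebraMap R (AdicRing.RPow R (Ideal.span {t}) d))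
          · obtain ⟨y, rfl⟩ := (mem_map_singleton_iff _ _ _).1 hxt
            have hy : y ∉ (Ideal.span {t} ^ N).map (algebraMap R (AdicRing.RPow R (Ideal.span {t}) d)) :=
              fun h => hN (by
                rw [pow_succ', Ideal.map_mul]
                exact Ideal.mul_mem_mul (Ideal.mem_map_of_mem _ (Ideal.mem_span_singleton_self t)) h)
            obtain ⟨j, x', h1, h2⟩ := ih y hy
            exact ⟨j + 1, x', by rw [h1, pow_succ', mul_assoc], h2⟩
          · exact ⟨0, x, by rw [pow_zero, one_mul], hxt⟩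
    obtain ⟨c, y, rfl⟩ := exists_approx x'
    obtain ⟨d₁, hd₁⟩ : ∃ d₁, c.coeff d₁ ∉ Ideal.span {t} := by
      by_contra! h
      refine hxj (add_mem ?_ (Ideal.mul_mem_right _ _ (Ideal.mem_map_of_mem _ (Ideal.mem_span_singleton_self t))))
      rw [IsScalarTower.algebraMap_eq R (MvPolynomial (Fin d) R), ← Ideal.map_map]
      refine Ideal.mem_map_of_mem _ ?_
      rw [MvPolynomial.algebraMap_eq, MvPolynomial.mem_map_C_iff]
      exact h
    obtain ⟨a, ha, hdvd⟩ := exists_dvd_all (s := c.support.image fun e => c.coeff e)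
      ⟨_, Finset.mem_image_of_mem _ (MvPolynomial.mem_support_iff.2 fun h => hd₁ (h ▸ zero_mem _))⟩
    obtain ⟨d₀, hd₀, rfl⟩ := Finset.mem_image.1 ha
    have hall : ∀ e, c.coeff d₀ ∣ c.coeff e := fun e => by
      by_cases he : e ∈ c.support
      · exact hdvd _ (Finset.mem_image_of_mem _ he)
      · rw [MvPolynomial.notMem_support_iff.1 he]; exact dvd_zero _
    obtain ⟨c', hc'⟩ := (MvPolynomial.C_dvd_iff_dvd_coeff _ c).2 hall
    set a := c.coeff d₀ with hadef
    have ha0 : a ≠ 0 := MvPolynomial.mem_support_iff.1 hd₀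
    have hanot : a ∉ Ideal.span {t} := fun h => hd₁ (by
      obtain ⟨b, hb⟩ := hall d₁
      rw [hb]; exact Ideal.mul_mem_right _ _ h)
    obtain ⟨b, hb⟩ : a ∣ t := (ValuationRing.dvd_total a t).resolve_right
      fun h => hanot (Ideal.mem_span_singleton.2 h)
    have hbm : b ∈ IsLocalRing.maximalIdeal R := by
      by_contra hbu
      exact hanot (Ideal.mem_span_singleton.2 ⟨_, (show a = t * ↑(IsLocalRing.notMem_maximalIdeal.1 hbu).unit⁻¹ by
        rw [hb, mul_assoc, IsUnit.mul_val_inv, mul_one])⟩)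
    let z := ofPoly t d c' + algebraMap R _ b * y
    have hz : ofPoly t d c + algebraMap R _ t * y = algebraMap R _ a * z := by
      have htb : algebraMap R (AdicRing.RPow R (Ideal.span {t}) d) t =
          algebraMap R _ a * algebraMap R _ b := by rw [← map_mul, ← hb]
      rw [hc', map_mul, htb, mul_assoc,
        show ofPoly t d (MvPolynomial.C a) = algebraMap R _ a from rfl, ← mul_add]
    have hφz : φ z = 0 := by
      rw [hx', hz, map_mul, map_mul, map_pow, φ.commutes, φ.commutes] at hx
      have ha' : algebraMap R B a ≠ 0 := fun h =>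
        ha0 (Point.injective_algebraMap ht htB (h.trans (map_zero _).symm))
      exact ((mul_eq_zero.1 hx).resolve_left (pow_ne_zero _ htB) |> mul_eq_zero.1).resolve_left ha'
    have hc'0 : c'.coeff d₀ = 1 := by
      have := congr_arg (MvPolynomial.coeff d₀) hc'
      rw [MvPolynomial.coeff_C_mul] at this
      exact mul_left_cancel₀ ha0 (this.symm.trans (mul_one a).symm)
    have h1 : g (rho (IsLocalRing.maximalIdeal R) htm z) = 0 := by rw [← hcomp, hφz, map_zero]
    have h2 := congr_arg (MvPolynomial.coeff d₀) (hg (h1.trans (map_zero g).symm))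
    simp only [z, map_add, map_mul, rho_algebraMap_eq_zero _ htm hbm, zero_mul, add_zero, rho_ofPoly,
      MvPolynomial.coeff_map, hc'0, map_one, MvPolynomial.coeff_zero] at h2
    exact one_ne_zero h2
  -- `φ` is finite
  letI algQ : Algebra (AdicRing.RPow R (Ideal.span {t}) d) B := φ.toRingHom.toAlgebra
  haveI : IsScalarTower R (AdicRing.RPow R (Ideal.span {t}) d) B :=
    IsScalarTower.of_algebraMap_eq fun r => (φ.commutes r).symm
  let J : Ideal B := (Ideal.span {t}).map (algebraMap R B)
  have hint : ∀ y : B, IsIntegral (AdicRing.RPow R (Ideal.span {t}) d) (Ideal.Quotient.mk J y) := by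
    intro y
    obtain ⟨f, hf, hf0⟩ := (hgfin.to_isIntegral (Ideal.Quotient.mk 𝔫 y) : g.toRingHom.IsIntegralElem _)
    have hlift : f ∈ Polynomial.lifts (rho (n := d) (IsLocalRing.maximalIdeal R) htm).toRingHom :=
      (Polynomial.mem_lifts f).2 (Polynomial.map_surjective _ (rho_surjective _ htm) f)
    obtain ⟨F, hF, -, hFm⟩ := Polynomial.lifts_and_degree_eq_and_monic hlift hf
    have hmem : Polynomial.aeval y F ∈ 𝔫 := by
      rw [← Ideal.Quotient.eq_zero_iff_mem, Polynomial.aeval_def, Polynomial.hom_eval₂]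
      rw [← hF, Polynomial.eval₂_map] at hf0
      refine (congrArg (fun h => Polynomial.eval₂ h (Ideal.Quotient.mk 𝔫 y) F) ?_).trans hf0
      exact RingHom.ext hcomp
    obtain ⟨N, hN⟩ := Point.exists_pow_mem_map ht hmem
    refine ⟨F ^ N, hFm.pow N, ?_⟩
    rw [← Polynomial.aeval_def, show Ideal.Quotient.mk J y =
        Ideal.Quotient.mkₐ (AdicRing.RPow R (Ideal.span {t}) d) J y from rfl,
      Polynomial.aeval_algHom_apply, map_pow (Polynomial.aeval y)]
    exact Ideal.Quotient.eq_zero_iff_mem.2 hN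
  haveI : Algebra.IsIntegral (AdicRing.RPow R (Ideal.span {t}) d) (B ⧸ J) := ⟨fun z => by
    obtain ⟨y, rfl⟩ := Ideal.Quotient.mk_surjective z
    exact hint y⟩
  obtain ⟨n, b, hb⟩ := Localization.hasDense_of_topFiniteType hI hB
  haveI : Algebra.FiniteType R (B ⧸ J) :=
    ⟨⟨Finset.univ.image fun i => Ideal.Quotient.mk J (b i), by
      rw [Finset.coe_image, Finset.coe_univ, Set.image_univ, Algebra.eq_top_iff]
      intro y
      obtain ⟨y, rfl⟩ := Ideal.Quotient.mk_surjective y
      obtain ⟨p, hp⟩ := hb y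
      rw [Algebra.adjoin_range_eq_range_aeval]
      exact ⟨p, (Ideal.Quotient.eq.2 hp).trans (MvPolynomial.comp_aeval_apply b (Ideal.Quotient.mkₐ R J) p) |>.symm⟩⟩⟩
  haveI : Algebra.FiniteType (AdicRing.RPow R (Ideal.span {t}) d) (B ⧸ J) :=
    Algebra.FiniteType.of_restrictScalars_finiteType R _ _
  haveI : Module.Finite (AdicRing.RPow R (Ideal.span {t}) d) (B ⧸ J) := Algebra.IsIntegral.finite
  haveI : IsAdicComplete ((Ideal.span {t}).map (algebraMap R (AdicRing.RPow R (Ideal.span {t}) d)))
      (AdicRing.RPow R (Ideal.span {t}) d) :=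
    (IsAdicComplete.map_algebraMap_iff _ _).2 (isAdicComplete_rpow (t := t) (n := d) (R := R))
  haveI : IsHausdorff ((Ideal.span {t}).map (algebraMap R (AdicRing.RPow R (Ideal.span {t}) d))) B :=
    IsHausdorff.map_algebraMap_iff.2 hBc.toIsHausdorff
  haveI : Module.Finite (AdicRing.RPow R (Ideal.span {t}) d) B := by
    refine Complete.finite_of_finite_quotient
      (I := (Ideal.span {t}).map (algebraMap R (AdicRing.RPow R (Ideal.span {t}) d))) ?_
    have hJ : ((Ideal.span {t}).map (algebraMap R (AdicRing.RPow R (Ideal.span {t}) d)) •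
        (⊤ : Submodule (AdicRing.RPow R (Ideal.span {t}) d) B)) =
        J.restrictScalars (AdicRing.RPow R (Ideal.span {t}) d) := by
      rw [Ideal.smul_top_eq_map, Ideal.map_map, ← IsScalarTower.algebraMap_eq]
    rw [hJ]
    exact Module.Finite.equiv (Submodule.Quotient.restrictScalarsEquiv _ J).symm
  -- contradiction
  let w : Fin d → R := fun _ => 0
  haveI : IsAdicComplete ((Ideal.span {t}).map (algebraMap R R)) R := by
    rw [Algebra.algebraMap_self, Ideal.map_id]; infer_instance
  obtain ⟨ev, hev⟩ := Restricted.exists_eval (Ideal.span {t}) w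
  have hker : (RingHom.ker ev).IsPrime := RingHom.ker_isPrime _
  haveI : FaithfulSMul (AdicRing.RPow R (Ideal.span {t}) d) B :=
    (faithfulSMul_iff_algebraMap_injective _ _).2 hφinj
  obtain ⟨q, -, hqp, hqc⟩ := Ideal.exists_ideal_over_prime_of_isIntegral (S := B) (RingHom.ker ev) (⊥ : Ideal B)
    (by
      rw [Ideal.comap_bot_of_injective (algebraMap _ B) hφinj]
      exact bot_le)
  have hX : (ofPoly t d (MvPolynomial.X ⟨0, hd⟩)) ∈ RingHom.ker ev := by
    rw [RingHom.mem_ker, show ev (ofPoly t d (MvPolynomial.X ⟨0, hd⟩)) = _ from hev _]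
    exact MvPolynomial.aeval_X w ⟨0, hd⟩
  have hq0 : q ≠ ⊥ := fun h => by
    rw [← hqc, Ideal.mem_comap, h, Ideal.mem_bot] at hX
    have h2 := congr_arg (fun x => rho (IsLocalRing.maximalIdeal R) htm x) (hφinj (hX.trans (map_zero φ).symm))
    simp only [rho_ofPoly, MvPolynomial.map_X, map_zero] at h2
    exact MvPolynomial.X_ne_zero _ h2
  have htq := hq q hqp hq0
  have : algebraMap R (AdicRing.RPow R (Ideal.span {t}) d) t ∈ RingHom.ker ev := by
    rw [← hqc, Ideal.mem_comap, ← IsScalarTower.algebraMap_apply]; exact htq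
  rw [RingHom.mem_ker, ev.commutes] at this
  exact ht this

/-- S11543. -/
theorem primes_correspond (ht : t ≠ 0) {A : Type u} [CommRing A] [Algebra R A]
    (hA : AdicRing.Admissible R (Ideal.span {t}) A) :
    (∀ p : Ideal A, p.IsPrime → algebraMap R A t ∉ p → ringKrullDim (A ⧸ p) = 1 →
        (p.map (algebraMap A (A ⊗[R] FractionRing R))).IsMaximal ∧
        (p.map (algebraMap A (A ⊗[R] FractionRing R))).comap (algebraMap A (A ⊗[R] FractionRing R)) = p) ∧
      (∀ m : Ideal (A ⊗[R] FractionRing R), m.IsMaximal →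
        algebraMap R A t ∉ m.comap (algebraMap A (A ⊗[R] FractionRing R)) ∧
          ringKrullDim (A ⧸ m.comap (algebraMap A (A ⊗[R] FractionRing R))) = 1 ∧
          (m.comap (algebraMap A (A ⊗[R] FractionRing R))).map (algebraMap A (A ⊗[R] FractionRing R)) = m) := by
  set S := Algebra.algebraMapSubmonoid A (nonZeroDivisors R) with hS
  haveI : IsLocalization S (A ⊗[R] FractionRing R) := IsLocalization.tensor (FractionRing R) (nonZeroDivisors R)
  obtain ⟨n, ψ, hψ, -⟩ := hA.1
  have hquot : ∀ p : Ideal A, AdicRing.TopFiniteType R (Ideal.span {t}) (A ⧸ p) := fun p =>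
    ⟨n, (Ideal.Quotient.mkₐ R p).comp ψ, Ideal.Quotient.mk_surjective.comp hψ⟩
  have hdisj : ∀ p : Ideal A, p.IsPrime → algebraMap R A t ∉ p →
      Disjoint (S : Set A) (p : Set A) := fun p hp htp => by
    rw [Set.disjoint_left]
    rintro _ ⟨c, hc, rfl⟩ hcp
    obtain ⟨N, hN⟩ := exists_pow_mem (a := t) Valuation.mem_maximalIdeal (nonZeroDivisors.ne_zero hc)
    obtain ⟨e, he⟩ := Ideal.mem_span_singleton'.1 hN
    refine htp (hp.mem_of_pow_mem N ?_)
    rw [← map_pow, ← he, map_mul]
    exact p.mul_mem_left _ hcp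
  constructor
  · intro p hp htp hdim
    have hcm : (p.map (algebraMap A (A ⊗[R] FractionRing R))).comap
        (algebraMap A (A ⊗[R] FractionRing R)) = p :=
      IsLocalization.comap_map_of_isPrime_disjoint S _ hp (hdisj p hp htp)
    refine ⟨?_, hcm⟩
    have hpr := IsLocalization.isPrime_of_isPrime_disjoint S (A ⊗[R] FractionRing R) p hp (hdisj p hp htp)
    obtain ⟨M, hM, hle⟩ := Ideal.exists_le_maximal _ hpr.ne_top
    have hMp : M.comap (algebraMap A (A ⊗[R] FractionRing R)) = p := by
      by_contra hne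
      have hlt : p < M.comap (algebraMap A (A ⊗[R] FractionRing R)) :=
        lt_of_le_of_ne (hcm.symm.le.trans (Ideal.comap_mono hle)) (Ne.symm hne)
      have htq : algebraMap R (A ⧸ p) t ≠ 0 := fun h => htp (Ideal.Quotient.eq_zero_iff_mem.1 h)
      haveI : Ring.KrullDimLE 1 (A ⧸ p) := (Order.krullDimLE_iff 1 _).2 hdim.le
      haveI : Module.Finite R (A ⧸ p) := Point.finite_of_dim_one ht (hquot p) htq
      obtain ⟨hdisjM, hprM⟩ := ((IsLocalization.isPrime_iff_isPrime_disjoint S (A ⊗[R] FractionRing R) M).1 hM.isPrime).symm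
      have hq : (Ideal.map (Ideal.Quotient.mk p) (M.comap (algebraMap A (A ⊗[R] FractionRing R)))).IsPrime :=
        Ideal.map_isPrime_of_surjective Ideal.Quotient.mk_surjective (by rw [Ideal.mk_ker]; exact hlt.le)
      have hne0 : Ideal.map (Ideal.Quotient.mk p) (M.comap (algebraMap A (A ⊗[R] FractionRing R))) ≠ ⊥ := by
        rw [Ne, Ideal.map_eq_bot_iff_le_ker, Ideal.mk_ker]
        exact hlt.not_ge
      have := mt (Ideal.eq_bot_of_comap_eq_bot (R := R)) hne0
      obtain ⟨c, hc, hc0⟩ := Submodule.exists_mem_ne_zero_of_ne_bot this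
      rw [Ideal.mem_comap, IsScalarTower.algebraMap_apply R A (A ⧸ p), Ideal.Quotient.algebraMap_eq,
        ← Ideal.mem_comap, Ideal.comap_map_of_surjective' _ Ideal.Quotient.mk_surjective,
        Ideal.mk_ker, sup_eq_left.2 hlt.le] at hc
      exact Set.disjoint_left.1 hdisjM ⟨c, mem_nonZeroDivisors_of_ne_zero hc0, rfl⟩ hc
    have hMmap : (M.comap (algebraMap A (A ⊗[R] FractionRing R))).map (algebraMap A (A ⊗[R] FractionRing R)) = M :=
      IsLocalization.map_comap S (A ⊗[R] FractionRing R) M
    rw [hMp] at hMmap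
    rwa [hMmap]
  · intro m hm
    have hmap := IsLocalization.map_comap S (A ⊗[R] FractionRing R) m
    set p := m.comap (algebraMap A (A ⊗[R] FractionRing R)) with hpdef
    obtain ⟨hp, hpdisj⟩ := (IsLocalization.isPrime_iff_isPrime_disjoint S (A ⊗[R] FractionRing R) m).1 hm.isPrime
    have htp : algebraMap R A t ∉ p := fun h =>
      Set.disjoint_left.1 hpdisj ⟨t, mem_nonZeroDivisors_of_ne_zero ht, rfl⟩ h
    refine ⟨htp, ?_, hmap⟩
    haveI : p.IsPrime := hp
    have htq : algebraMap R (A ⧸ p) t ≠ 0 := fun h => htp (Ideal.Quotient.eq_zero_iff_mem.1 h)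
    have hq : ∀ q : Ideal (A ⧸ p), q.IsPrime → q ≠ ⊥ → algebraMap R (A ⧸ p) t ∈ q := by
      intro q hq hq0
      by_contra htq'
      let q' := q.comap (Ideal.Quotient.mk p)
      have hq' : q'.IsPrime := Ideal.comap_isPrime _ _
      have htq'' : algebraMap R A t ∉ q' := htq'
      have hpq : p ≤ q' := fun a ha => by
        rw [Ideal.mem_comap, Ideal.Quotient.eq_zero_iff_mem.2 ha]; exact q.zero_mem
      have hpr := IsLocalization.isPrime_of_isPrime_disjoint S (A ⊗[R] FractionRing R) q' hq' (hdisj q' hq' htq'')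
      have hcm : (q'.map (algebraMap A (A ⊗[R] FractionRing R))).comap (algebraMap A (A ⊗[R] FractionRing R)) = q' :=
        IsLocalization.comap_map_of_isPrime_disjoint S (A ⊗[R] FractionRing R) hq' (hdisj q' hq' htq'')
      have heq : m = q'.map (algebraMap A (A ⊗[R] FractionRing R)) :=
        hm.eq_of_le hpr.ne_top (hmap.symm.le.trans (Ideal.map_mono hpq))
      refine hq0 ?_
      have : q' = p := by rw [hpdef, heq, hcm]
      rw [← Ideal.map_comap_of_surjective _ Ideal.Quotient.mk_surjective q,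
        show q.comap (Ideal.Quotient.mk p) = p from this, Ideal.map_quotient_self]
    haveI : Module.Finite R (A ⧸ p) := finite_of_forall_prime ht (hquot p) htq hq
    exact Point.dim_of_finite ht htq

/-- S11548. -/
theorem exists_point (ht : t ≠ 0) {n : ℕ} (m : Ideal (AdicRing.RPow R (Ideal.span {t}) n)) [m.IsMaximal]
    (hm : algebraMap R (AdicRing.RPow R (Ideal.span {t}) n) t ∈ m) :
    ∃ p : Ideal (AdicRing.RPow R (Ideal.span {t}) n), p.IsPrime ∧ p ≤ m ∧
      algebraMap R (AdicRing.RPow R (Ideal.span {t}) n) t ∉ p ∧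
      ringKrullDim (AdicRing.RPow R (Ideal.span {t}) n ⧸ p) = 1 := by
  classical
  have htm : t ∈ IsLocalRing.maximalIdeal R := Valuation.mem_maximalIdeal
  let L := AlgebraicClosure (FractionRing R)
  let O := integralClosure R L
  haveI : FaithfulSMul R L := (faithfulSMul_iff_algebraMap_injective R L).2 (by
    rw [IsScalarTower.algebraMap_eq R (FractionRing R) L]
    exact (algebraMap (FractionRing R) L).injective.comp (IsFractionRing.injective R (FractionRing R)))
  haveI : PreValuationRing O := Extension.preValuationRing_integralClosure (R := R) (L := L) ht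
  haveI : ValuationRing O := {}
  haveI : Nontrivial O := inferInstance
  haveI : IsLocalHom (algebraMap R O) :=
    RingHom.IsIntegral.isLocalHom (Algebra.IsIntegral.isIntegral (R := R)) fun x y h =>
      FaithfulSMul.algebraMap_injective R L (by
        have := congr_arg Subtype.val h
        exact this)
  let κ := IsLocalRing.ResidueField O
  haveI : IsAlgClosed κ := IsAlgClosed.of_exists_root _ fun f hf hirr => by
    obtain ⟨F, hF, hdeg, hFm⟩ := Polynomial.lifts_and_degree_eq_and_monic
      ((Polynomial.mem_lifts f).2 (Polynomial.map_surjective _ IsLocalRing.residue_surjective f)) hf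
    have hdeg0 : (F.map (algebraMap O L)).degree ≠ 0 := by
      rw [hFm.degree_map, hdeg]
      exact (Polynomial.degree_pos_of_irreducible hirr).ne'
    obtain ⟨x, hx⟩ := IsAlgClosed.exists_root _ hdeg0
    have hxint : IsIntegral O x := ⟨F, hFm, by rwa [Polynomial.IsRoot, Polynomial.eval_map] at hx⟩
    let x' : O := ⟨x, isIntegral_trans (A := O) x hxint⟩
    refine ⟨IsLocalRing.residue O x', ?_⟩
    have hx' : F.eval x' = 0 := Subtype.ext (by
      rw [Polynomial.IsRoot, Polynomial.eval_map] at hx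
      rw [ZeroMemClass.coe_zero, ← hx]
      exact (Polynomial.eval₂_at_apply (algebraMap O L) x').symm)
    rw [← hF, Polynomial.eval_map_apply, hx', map_zero]
  have hmP : (IsLocalRing.maximalIdeal R).map (algebraMap R (AdicRing.RPow R (Ideal.span {t}) n)) ≤ m := by
    intro a ha
    obtain ⟨N, hN⟩ := Point.exists_pow_mem_map ht ha
    refine (Ideal.IsMaximal.isPrime ‹_›).mem_of_pow_mem N ?_
    obtain ⟨y, hy⟩ := (mem_map_singleton_iff _ _ _).1 hN
    rw [← hy]
    exact m.mul_mem_right _ hm
  letI : Field (R ⧸ IsLocalRing.maximalIdeal R) := Ideal.Quotient.field _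
  letI : Field (AdicRing.RPow R (Ideal.span {t}) n ⧸ m) := Ideal.Quotient.field _
  letI : Algebra (R ⧸ IsLocalRing.maximalIdeal R) (AdicRing.RPow R (Ideal.span {t}) n ⧸ m) :=
    (Ideal.quotientMap m (algebraMap R _) (Ideal.map_le_iff_le_comap.1 hmP)).toAlgebra
  haveI : IsScalarTower R (R ⧸ IsLocalRing.maximalIdeal R) (AdicRing.RPow R (Ideal.span {t}) n ⧸ m) :=
    IsScalarTower.of_algebraMap_eq fun r => rfl
  letI : Algebra (R ⧸ IsLocalRing.maximalIdeal R) κ :=
    (Ideal.Quotient.lift (IsLocalRing.maximalIdeal R) (algebraMap R κ) fun a ha => by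
      rw [IsScalarTower.algebraMap_apply R O κ]
      exact Ideal.Quotient.eq_zero_iff_mem.2 (map_nonunit (algebraMap R O) a ha)).toAlgebra
  haveI : IsScalarTower R (R ⧸ IsLocalRing.maximalIdeal R) κ := IsScalarTower.of_algebraMap_eq fun r => rfl
  let z : Fin n → AdicRing.RPow R (Ideal.span {t}) n ⧸ m := fun i =>
    Ideal.Quotient.mk m (ofPoly t n (MvPolynomial.X i))
  have hpoly : ∀ x, ∃ c : MvPolynomial (Fin n) R, Ideal.Quotient.mk m x = MvPolynomial.aeval z c := by
    intro x
    obtain ⟨c, y, rfl⟩ := exists_approx x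
    refine ⟨c, ?_⟩
    rw [map_add, Ideal.Quotient.eq_zero_iff_mem.2 (m.mul_mem_right y hm), add_zero]
    rw [show z = fun i => ((Ideal.Quotient.mkₐ R m).comp
      (IsScalarTower.toAlgHom R (MvPolynomial (Fin n) R) _)) (MvPolynomial.X i) from rfl]
    exact DFunLike.congr_fun (MvPolynomial.aeval_unique ((Ideal.Quotient.mkₐ R m).comp
      (IsScalarTower.toAlgHom R (MvPolynomial (Fin n) R) (AdicRing.RPow R (Ideal.span {t}) n)))) c
  haveI : Algebra.FiniteType R (AdicRing.RPow R (Ideal.span {t}) n ⧸ m) :=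
    ⟨⟨Finset.univ.image z, by
      rw [Finset.coe_image, Finset.coe_univ, Set.image_univ, Algebra.eq_top_iff]
      intro y
      obtain ⟨y, rfl⟩ := Ideal.Quotient.mk_surjective y
      obtain ⟨c, hc⟩ := hpoly y
      rw [Algebra.adjoin_range_eq_range_aeval, hc]
      exact ⟨c, rfl⟩⟩⟩
  haveI : Algebra.FiniteType (R ⧸ IsLocalRing.maximalIdeal R) (AdicRing.RPow R (Ideal.span {t}) n ⧸ m) :=
    Algebra.FiniteType.of_restrictScalars_finiteType R _ _
  haveI : Module.Finite (R ⧸ IsLocalRing.maximalIdeal R) (AdicRing.RPow R (Ideal.span {t}) n ⧸ m) :=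
    finite_of_finite_type_of_isJacobsonRing _ _
  let σ : (AdicRing.RPow R (Ideal.span {t}) n ⧸ m) →ₐ[R ⧸ IsLocalRing.maximalIdeal R] κ := IsAlgClosed.lift
  choose α hα using fun i => IsLocalRing.residue_surjective (σ (z i))
  -- the finite algebra generated by the lifts
  let B : Subalgebra R O := Algebra.adjoin R (Set.range α)
  haveI : Module.Finite R B :=
    Module.Finite.iff_fg.2 (fg_adjoin_of_finite (Set.finite_range α) fun x _ => Algebra.IsIntegral.isIntegral x)
  have htO : ∀ c : R, algebraMap R O c = 0 → c = 0 := fun c hc => by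
    have := congr_arg Subtype.val hc
    exact FaithfulSMul.algebraMap_injective R L (this.trans (map_zero _).symm)
  haveI : Module.Flat R B := Valuation.flat_of_torsionFree (t := t) fun x hx => by
    have h1 : algebraMap R O t * (x : O) = 0 := by
      have := congr_arg Subtype.val hx
      simpa [Algebra.smul_def] using this
    exact Subtype.ext ((mul_eq_zero.1 h1).resolve_left fun h => ht (htO t h))
  haveI : Module.Free R B := Module.free_of_flat_of_isLocalRing
  haveI : IsAdicComplete (Ideal.span {t}) (Module.Free.ChooseBasisIndex R B → R) :=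
    Free.isAdicComplete_pi _
  haveI : IsAdicComplete (Ideal.span {t}) B :=
    Free.isAdicComplete_of_linearEquiv (Module.Free.chooseBasis R B).equivFun.symm
  haveI : IsAdicComplete ((Ideal.span {t}).map (algebraMap R B)) B :=
    (IsAdicComplete.map_algebraMap_iff _ B).2 ‹_›
  obtain ⟨φ, hφ⟩ := Restricted.exists_eval (Ideal.span {t}) fun i => (⟨α i, Algebra.subset_adjoin ⟨i, rfl⟩⟩ : B)
  let res : O →ₐ[R] κ := IsScalarTower.toAlgHom R O κ
  have hfac : ∀ x, res (φ x : O) = σ (Ideal.Quotient.mk m x) := by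
    intro x
    obtain ⟨c, y, rfl⟩ := exists_approx x
    have h0 : res (algebraMap R O t) = 0 := by
      rw [AlgHom.commutes, IsScalarTower.algebraMap_apply R O κ]
      exact Ideal.Quotient.eq_zero_iff_mem.2 (map_nonunit (algebraMap R O) t htm)
    have h1 : res ((φ (algebraMap R _ t * y) : B) : O) = 0 := by
      rw [map_mul, φ.commutes, MulMemClass.coe_mul, map_mul,
        show ((algebraMap R B t : B) : O) = algebraMap R O t from rfl, h0, zero_mul]
    rw [map_add, AddMemClass.coe_add, map_add, h1, add_zero, map_add,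
      Ideal.Quotient.eq_zero_iff_mem.2 (m.mul_mem_right y hm), add_zero,
      show φ (ofPoly t n c) = _ from hφ c]
    have e : (res.comp B.val).comp (MvPolynomial.aeval fun i => (⟨α i, Algebra.subset_adjoin ⟨i, rfl⟩⟩ : B)) =
        (σ.restrictScalars R).comp ((Ideal.Quotient.mkₐ R m).comp
          (IsScalarTower.toAlgHom R (MvPolynomial (Fin n) R) _)) := by
      refine MvPolynomial.algHom_ext fun i => ?_
      simp only [AlgHom.comp_apply, MvPolynomial.aeval_X]
      exact hα i
    exact DFunLike.congr_fun e c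
  refine ⟨RingHom.ker φ, RingHom.ker_isPrime _, fun x hx => ?_, fun h => ?_, ?_⟩
  · have h1 := hfac x
    rw [RingHom.mem_ker.1 hx, ZeroMemClass.coe_zero, map_zero, eq_comm] at h1
    exact Ideal.Quotient.eq_zero_iff_mem.1 ((map_eq_zero σ.toRingHom).1 h1)
  · rw [RingHom.mem_ker, φ.commutes] at h
    exact ht (htO t (congr_arg Subtype.val h))
  · refine (ringKrullDim_eq_of_ringEquiv (RingHom.quotientKerEquivRange φ.toRingHom)).trans ?_
    haveI : Algebra.IsIntegral R φ.range := Algebra.IsIntegral.of_injective φ.range.val Subtype.val_injective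
    have htC : algebraMap R φ.range t ≠ 0 := fun h =>
      ht (htO t (congr_arg Subtype.val (congr_arg Subtype.val h)))
    exact (ringKrullDim_eq_of_ringEquiv (RingEquiv.refl _)).trans (Point.dim_of_finite (B := φ.range) ht htC)

/-- S13354. -/
theorem exists_dominating (ht : t ≠ 0) {B : Type u} [CommRing B] [Algebra R B] [IsDomain B] [IsLocalRing B]
    (hB : AdicRing.Admissible R (Ideal.span {t}) B) (hdim : ringKrullDim B = 1)
    {n : ℕ} (b : Fin n → B) (hb : ∃ i, b i ≠ 0) :
    ∃ B' : Subalgebra B (FractionRing B), Module.Finite B ↥B' ∧ IsLocalRing ↥B' ∧ ringKrullDim ↥B' = 1 ∧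
      ∃ i, Ideal.span (Set.range (fun j => algebraMap B ↥B' (b j))) =
        Ideal.span {algebraMap B ↥B' (b i)} := by
  classical
  have htB := Point.algebraMap_t_ne_zero hB
  haveI : Ring.KrullDimLE 1 B := (Order.krullDimLE_iff 1 _).2 hdim.le
  obtain ⟨m, ψ, hψ, hK⟩ := hB.1
  haveI : Module.Finite R B := Point.finite_of_dim_one ht ⟨m, ψ, hψ⟩ htB
  have hval := Point.preValuationRing_integralClosure_of_finite (B := B) ht htB
  let e : B → integralClosure B (FractionRing B) := algebraMap B _
  obtain ⟨i₀, hi₀⟩ := hb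
  obtain ⟨i, hi⟩ : ∃ i, ∀ j, e (b i) ∣ e (b j) := by
    have key : ∀ s : Finset (Fin n), s.Nonempty → ∃ i ∈ s, ∀ j ∈ s, e (b i) ∣ e (b j) := by
      intro s hs
      induction hs using Finset.Nonempty.cons_induction with
      | singleton a => exact ⟨a, Finset.mem_singleton_self a, fun j hj => by rw [Finset.mem_singleton.1 hj]⟩
      | cons a s ha hs ih =>
          obtain ⟨i, hi, hi'⟩ := ih
          obtain ⟨c, hc | hc⟩ := hval.cond (e (b a)) (e (b i))
          · refine ⟨a, Finset.mem_cons_self a s, fun j hj => ?_⟩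
            rcases Finset.mem_cons.1 hj with rfl | hj
            · exact dvd_rfl
            · exact (Dvd.intro c hc).trans (hi' j hj)
          · refine ⟨i, Finset.mem_cons_of_mem hi, fun j hj => ?_⟩
            rcases Finset.mem_cons.1 hj with rfl | hj
            · exact Dvd.intro c hc
            · exact hi' j hj
    obtain ⟨i, -, hi⟩ := key Finset.univ ⟨i₀, Finset.mem_univ _⟩
    exact ⟨i, fun j => hi j (Finset.mem_univ _)⟩
  choose c hc using hi
  let B' : Subalgebra B (FractionRing B) := Algebra.adjoin B (Set.range fun j => (c j : FractionRing B))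
  haveI : Module.Finite B B' :=
    Module.Finite.iff_fg.2 (fg_adjoin_of_finite (Set.finite_range _) (by rintro _ ⟨j, rfl⟩; exact (c j).2))
  haveI : Module.Finite R B' := Module.Finite.trans B B'
  have htB' : algebraMap R B' t ≠ 0 := fun h => htB (IsFractionRing.injective B (FractionRing B) (by
    rw [map_zero, ← IsScalarTower.algebraMap_apply]
    exact congr_arg Subtype.val h))
  refine ⟨B', ‹_›, Point.isLocalRing_of_finite ht htB', Point.dim_of_finite ht htB', i,
    le_antisymm (Ideal.span_le.2 ?_) (Ideal.span_mono (by rintro _ rfl; exact ⟨i, rfl⟩))⟩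
  rintro _ ⟨j, rfl⟩
  refine Ideal.mem_span_singleton'.2 ⟨⟨(c j : FractionRing B), Algebra.subset_adjoin ⟨j, rfl⟩⟩, Subtype.ext ?_⟩
  have h1 := congr_arg Subtype.val (hc j)
  exact (mul_comm _ _).trans h1.symm

end Groth.Agent.Lib.Adic.Bosch.Rig
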