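import Groth.Agent.Lib.Adic.Bosch.Ideal

/-! The division step, for any model of restricted polynomials. -/

set_option autoImplicit false
set_option linter.unusedSectionVars false

universe u

namespace Groth.Agent.Lib.Adic.Bosch.Step

open MvPolynomial Groth.Agent.Lib.Adic.Bosch.IdealFG
open scoped MonomialOrder

variable {R : Type u} [CommRing R] [IsDomain R] [ValuationRing R] [Ring.KrullDimLE 1 R]

/-- A ring whose reductions modulo every ideal containing `t` are polynomial rings. -/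
structure Model (t : R) (n : ℕ) (S : Type u) [CommRing S] [Algebra R S] where
  ofPoly : MvPolynomial (Fin n) R →ₐ[R] S
  exists_approx : ∀ x : S, ∃ c y, x = ofPoly c + algebraMap R S t * y
  rho : ∀ (𝔞 : Ideal R), t ∈ 𝔞 → (S →+* MvPolynomial (Fin n) (R ⧸ 𝔞))
  rho_ofPoly : ∀ 𝔞 h c, rho 𝔞 h (ofPoly c) = map (Ideal.Quotient.mk 𝔞) c
  eq_zero : ∀ 𝔞 h x, rho 𝔞 h x = 0 → x ∈ 𝔞.map (algebraMap R S)
  torsionFree : ∀ x : S, algebraMap R S t * x = 0 → x = 0

variable {t : R} [IsAdicComplete (Ideal.span {t}) R] {n : ℕ} {S : Type u} [CommRing S] [Algebra R S]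
  (D : Model t n S)

theorem rho_algebraMap_eq_zero (𝔞 : Ideal R) (h : t ∈ 𝔞) {a : R} (ha : a ∈ 𝔞) :
    D.rho 𝔞 h (algebraMap R S a) = 0 := by
  have e : D.ofPoly (C a) = algebraMap R S a := D.ofPoly.commutes a
  rw [← e, D.rho_ofPoly, map_C, Ideal.Quotient.eq_zero_iff_mem.2 ha, map_zero]

theorem rho_surjective (𝔞 : Ideal R) (h : t ∈ 𝔞) : Function.Surjective (D.rho 𝔞 h) := fun y => by
  obtain ⟨c, hc⟩ := map_surjective (Ideal.Quotient.mk 𝔞) Ideal.Quotient.mk_surjective y
  exact ⟨D.ofPoly c, (D.rho_ofPoly 𝔞 h c).trans hc⟩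

theorem rho_span_eq_zero_iff (c : R) (h : t ∈ Ideal.span {c}) (x : S) :
    D.rho (Ideal.span {c}) h x = 0 ↔ ∃ y, algebraMap R S c * y = x := by
  refine ⟨fun hx => (Reduction.mem_map_singleton_iff _ _ _).1 (D.eq_zero _ h x hx), ?_⟩
  rintro ⟨y, rfl⟩
  rw [map_mul, rho_algebraMap_eq_zero D _ h (Ideal.mem_span_singleton_self c), zero_mul]

theorem saturated_of_t {J : Ideal S}
    (hsat : ∀ x, algebraMap R S t * x ∈ J → x ∈ J) {c : R} (hc : c ≠ 0) {x : S}
    (hx : algebraMap R S c * x ∈ J) : x ∈ J := by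
  obtain ⟨N, hN⟩ := exists_pow_mem (a := t) (Valuation.mem_maximalIdeal) hc
  obtain ⟨d, hd⟩ := Ideal.mem_span_singleton'.1 hN
  have hx' : algebraMap R S t ^ N * x ∈ J := by
    rw [← map_pow, ← hd, map_mul, mul_assoc]
    exact J.mul_mem_left _ hx
  clear hN hd hx
  induction N with
  | zero => simpa using hx'
  | succ k ih =>
      rw [pow_succ', mul_assoc] at hx'
      exact ih (hsat _ hx')

include D in
/-- One step of the division: a saturated ideal is generated by finitely many elements modulo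
`δ` times itself, for some `δ` in the maximal ideal. -/
theorem exists_step (ht : t ≠ 0) {J : Ideal S} (hsat : ∀ x, algebraMap R S t * x ∈ J → x ∈ J) :
    ∃ δ ∈ IsLocalRing.maximalIdeal R, ∃ G : Ideal S, G.FG ∧ G ≤ J ∧
      J ≤ G ⊔ Ideal.span {algebraMap R S δ} * J := by
  classical
  have htm : t ∈ IsLocalRing.maximalIdeal R := Valuation.mem_maximalIdeal
  let ρm := D.rho (IsLocalRing.maximalIdeal R) htm
  let m : MonomialOrder (Fin n) := MonomialOrder.lex
  let Sd : Set (Fin n →₀ ℕ) := {d | ∃ g ∈ J, ρm g ≠ 0 ∧ m.degree (ρm g) = d}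
  let B : Set (Fin n →₀ ℕ) := {d | Minimal (· ∈ Sd) d}
  have hB : B.Finite :=
    WellQuasiOrderedLE.finite_of_isAntichain (setOf_minimal_antichain _)
  haveI : Fintype B := hB.fintype
  choose g hgJ hg0 hgdeg using fun e : B => e.2.1
  choose c y hcy using fun e : B => D.exists_approx (g e)
  have hρc : ∀ (e : B) (𝔞 : Ideal R) (h : t ∈ 𝔞),
      D.rho 𝔞 h (g e) = map (Ideal.Quotient.mk 𝔞) (c e) := fun e 𝔞 h => by
    rw [hcy e, map_add, map_mul, rho_algebraMap_eq_zero D 𝔞 h h, zero_mul, add_zero, D.rho_ofPoly]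
  have hlead : ∀ e : B, (c e).coeff e.1 ∉ IsLocalRing.maximalIdeal R := fun e hmem => by
    have h0 : (ρm (g e)).coeff (e : Fin n →₀ ℕ) ≠ 0 := by
      rw [← hgdeg e, m.coeff_degree_ne_zero_iff]
      exact hg0 e
    apply h0
    simp only [ρm, hρc, coeff_map]
    exact Ideal.Quotient.eq_zero_iff_mem.2 hmem
  have hhigh : ∀ (e : B) (d : Fin n →₀ ℕ), (e : Fin n →₀ ℕ) ≺[m] d →
      (c e).coeff d ∈ IsLocalRing.maximalIdeal R := fun e d hd => by
    have h0 : (ρm (g e)).coeff d = 0 := m.coeff_eq_zero_of_lt (by rw [hgdeg e]; exact hd)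
    simp only [ρm, hρc, coeff_map] at h0
    exact Ideal.Quotient.eq_zero_iff_mem.1 h0
  let Ds : Finset R := insert t (Finset.univ.biUnion fun e : B =>
    ((c e).support.filter fun d => (e : Fin n →₀ ℕ) ≺[m] d).image fun d => (c e).coeff d)
  obtain ⟨δ, hδD, hδdvd⟩ := exists_dvd_all (s := Ds) ⟨t, Finset.mem_insert_self _ _⟩
  have hδm : δ ∈ IsLocalRing.maximalIdeal R := by
    rcases Finset.mem_insert.1 hδD with rfl | h
    · exact htm
    · obtain ⟨e, -, he⟩ := Finset.mem_biUnion.1 h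
      obtain ⟨d, hd, rfl⟩ := Finset.mem_image.1 he
      exact hhigh e d (Finset.mem_filter.1 hd).2
  have htδ : t ∈ Ideal.span {δ} :=
    Ideal.mem_span_singleton.2 (hδdvd t (Finset.mem_insert_self _ _))
  have hδ0 : δ ≠ 0 := by
    rintro rfl
    exact ht (zero_dvd_iff.1 (Ideal.mem_span_singleton.1 htδ))
  haveI : Nontrivial (R ⧸ Ideal.span {δ}) := Ideal.Quotient.nontrivial_iff.2 fun h =>
    (IsLocalRing.maximalIdeal.isMaximal R).ne_top (top_le_iff.1 (h ▸ (Ideal.span_singleton_le_iff_mem _).2 hδm))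
  let ρ := D.rho (Ideal.span {δ}) htδ
  have hdeg : ∀ e : B, m.degree (ρ (g e)) = e.1 ∧ IsUnit (m.leadingCoeff (ρ (g e))) := by
    intro e
    have hu : IsUnit ((ρ (g e)).coeff (e : Fin n →₀ ℕ)) := by
      simp only [ρ, hρc, coeff_map]
      exact (IsLocalRing.notMem_maximalIdeal.1 (hlead e)).map _
    have hd : m.degree (ρ (g e)) = e.1 := by
      apply m.toSyn.injective
      refine le_antisymm (m.degree_le_iff.2 fun d hd => ?_)
        (m.le_degree (mem_support_iff.2 hu.ne_zero))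
      by_contra hlt
      apply mem_support_iff.1 hd
      simp only [ρ, hρc, coeff_map]
      rw [Ideal.Quotient.eq_zero_iff_mem, Ideal.mem_span_singleton]
      by_cases hd' : d ∈ (c e).support
      · exact hδdvd _ (Finset.mem_insert_of_mem (Finset.mem_biUnion.2 ⟨e, Finset.mem_univ _,
          Finset.mem_image.2 ⟨d, Finset.mem_filter.2 ⟨hd', not_le.1 hlt⟩, rfl⟩⟩))
      · rw [notMem_support_iff.1 hd']; exact dvd_zero _
    exact ⟨hd, by unfold MonomialOrder.leadingCoeff; rw [hd]; exact hu⟩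
  refine ⟨δ, hδm, Ideal.span (Set.range g), Submodule.fg_span (Set.finite_range g),
    Ideal.span_le.2 (by rintro _ ⟨e, rfl⟩; exact hgJ e), fun f hf => ?_⟩
  obtain ⟨q, r, hqr, -, hr⟩ := m.div (b := fun e : B => ρ (g e)) (fun e => (hdeg e).2) (ρ f)
  choose q' hq' using fun e : B => rho_surjective D (Ideal.span {δ}) htδ (q e)
  obtain ⟨r₀, hr₀⟩ := map_surjective (Ideal.Quotient.mk (Ideal.span {δ})) Ideal.Quotient.mk_surjective r
  -- a lift of `r` with the same support
  let r₁ : MvPolynomial (Fin n) R := ∑ d ∈ r.support, monomial d (r₀.coeff d)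
  have hr₁c : ∀ d, r₁.coeff d = if d ∈ r.support then r₀.coeff d else 0 := fun d => by
    simp [r₁, coeff_sum, coeff_monomial]
  have hr₁ : map (Ideal.Quotient.mk (Ideal.span {δ})) r₁ = r := by
    ext d
    rw [coeff_map, hr₁c]
    split_ifs with hd
    · rw [← coeff_map, hr₀]
    · rw [map_zero, notMem_support_iff.1 hd]
  have hsum : ρ (∑ e : B, q' e * g e) = Finsupp.linearCombination _ (fun e : B => ρ (g e)) q := by
    rw [map_sum, Finsupp.linearCombination_apply, Finsupp.sum_fintype _ _ (fun _ => by simp)]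
    simp only [map_mul, smul_eq_mul, ρ, hq']
  have h0 : ρ (f - ∑ e : B, q' e * g e - D.ofPoly r₁) = 0 := by
    rw [map_sub, map_sub, hsum, hqr, show ρ (D.ofPoly r₁) = r from (D.rho_ofPoly _ _ _).trans hr₁]
    ring
  obtain ⟨w, hw⟩ := (rho_span_eq_zero_iff D δ htδ _).1 h0
  have hn : f - ∑ e : B, q' e * g e ∈ J :=
    sub_mem hf (Ideal.sum_mem _ fun e _ => J.mul_mem_left _ (hgJ e))
  have key : ∀ d, r₁.coeff d ∈ Ideal.span {δ} := by
    by_contra! hne
    obtain ⟨d₁, hd₁⟩ := hne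
    have hne' : (r₁.support.image fun d => r₁.coeff d).Nonempty :=
      ⟨_, Finset.mem_image_of_mem _ (mem_support_iff.2 fun h => hd₁ (h ▸ zero_mem _))⟩
    obtain ⟨a, ha, hadvd⟩ := exists_dvd_all hne'
    obtain ⟨d₀, hd₀, rfl⟩ := Finset.mem_image.1 ha
    set a := r₁.coeff d₀ with ha'
    have ha0 : a ≠ 0 := mem_support_iff.1 hd₀
    have hdvd : ∀ d, a ∣ r₁.coeff d := fun d => by
      by_cases hd : d ∈ r₁.support
      · exact hadvd _ (Finset.mem_image_of_mem _ hd)
      · rw [notMem_support_iff.1 hd]; exact dvd_zero _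
    obtain ⟨r', hr'⟩ := (C_dvd_iff_dvd_coeff a r₁).2 hdvd
    have hanot : a ∉ Ideal.span {δ} := fun h => hd₁ (by
      obtain ⟨b, hb⟩ := hdvd d₁
      rw [hb]; exact Ideal.mul_mem_right _ _ h)
    obtain ⟨b, hb⟩ : a ∣ δ := (ValuationRing.dvd_total a δ).resolve_right
      fun h => hanot (Ideal.mem_span_singleton.2 h)
    have hbm : b ∈ IsLocalRing.maximalIdeal R := by
      by_contra hbu
      exact hanot (Ideal.mem_span_singleton.2 ⟨_, (show a = δ * ↑(IsLocalRing.notMem_maximalIdeal.1 hbu).unit⁻¹ by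
        rw [hb, mul_assoc, IsUnit.mul_val_inv, mul_one])⟩)
    let x : S := D.ofPoly r' + algebraMap R S b * w
    have hxJ : x ∈ J := by
      refine saturated_of_t hsat ha0 ?_
      have : algebraMap R S a * x = f - ∑ e : B, q' e * g e := by
        have h1 : D.ofPoly r₁ = algebraMap R S a * D.ofPoly r' := by
          rw [hr', map_mul]; rw [show D.ofPoly (C a) = algebraMap R S a from D.ofPoly.commutes a]
        have h2 : algebraMap R S δ = algebraMap R S a * algebraMap R S b := by rw [← map_mul, ← hb]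
        rw [eq_sub_iff_add_eq, h1, h2] at hw
        rw [← hw]
        simp only [x]
        ring
      rw [this]; exact hn
    have hρx : ρm x = map (Ideal.Quotient.mk _) r' := by
      simp only [x, ρm, map_add, map_mul, rho_algebraMap_eq_zero D _ htm hbm, zero_mul, add_zero,
        D.rho_ofPoly]
    have hr'0 : r'.coeff d₀ = 1 := by
      have := congr_arg (coeff d₀) hr'
      rw [coeff_C_mul] at this
      exact mul_left_cancel₀ ha0 (this.symm.trans (mul_one a).symm)
    have hx0 : ρm x ≠ 0 := fun h => by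
      have := congr_arg (coeff d₀) h
      rw [hρx, coeff_map, hr'0, map_one, coeff_zero] at this
      exact one_ne_zero this
    obtain ⟨e, he, hemin⟩ := exists_minimal_le_of_wellFoundedLT (· ∈ Sd) (m.degree (ρm x))
      ⟨x, hxJ, hx0, rfl⟩
    have hsupp : m.degree (ρm x) ∈ r.support := by
      have h1 : (r'.coeff (m.degree (ρm x))) ≠ 0 := fun h => by
        apply (m.coeff_degree_ne_zero_iff).2 hx0
        rw [hρx] at h ⊢
        rw [coeff_map, h, map_zero]
      have h2 : r₁.coeff (m.degree (ρm x)) ≠ 0 := by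
        rw [hr', coeff_C_mul]; exact mul_ne_zero ha0 h1
      rw [hr₁c] at h2
      by_contra h3
      rw [if_neg h3] at h2
      exact h2 rfl
    exact hr _ hsupp ⟨e, hemin⟩ (by rw [(hdeg ⟨e, hemin⟩).1]; exact he)
  have hr0 : ρ (D.ofPoly r₁) = 0 := by
    rw [D.rho_ofPoly]
    ext d
    rw [coeff_map, coeff_zero, Ideal.Quotient.eq_zero_iff_mem]
    exact key d
  obtain ⟨v, hv⟩ := (rho_span_eq_zero_iff D δ htδ _).1 (show ρ (f - ∑ e : B, q' e * g e) = 0 by
    have := h0; rw [map_sub, hr0, sub_zero] at this; exact this)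
  refine Submodule.mem_sup.2 ⟨∑ e : B, q' e * g e, Ideal.sum_mem _ (fun e _ => Ideal.mul_mem_left _ (q' e) (Ideal.subset_span ⟨e, rfl⟩)),
    algebraMap R S δ * v, Ideal.mul_mem_mul (Ideal.mem_span_singleton_self _)
      (saturated_of_t hsat hδ0 (by rw [hv]; exact hn)), ?_⟩
  rw [hv]
  exact add_sub_cancel _ _


end Groth.Agent.Lib.Adic.Bosch.Step
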